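import Cfsg.Agent.Lib.Classical.OrthReflect

/-!
Paths of four reflections of norm one give elements of order five, and separate paths give commuting ones.
-/

set_option autoImplicit false
set_option linter.unusedSectionVars false

namespace CfsgLib.Discon

open CfsgLib.Orth

variable {F : Type*} [Field F] {ι : Type} [Fintype ι] [DecidableEq ι] {Q : QuadraticForm F (ι → F)}

local notation "B" => QuadraticMap.polar (DFunLike.coe Q)

/-- Four vectors of norm one with the relations of a path. -/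
structure Block (Q : QuadraticForm F (ι → F)) (v : Fin 4 → (ι → F)) : Prop where
  norm : ∀ a, Q (v a) = 1
  c01 : QuadraticMap.polar (⇑Q) (v 0) (v 1) = -1
  c12 : QuadraticMap.polar (⇑Q) (v 1) (v 2) = -1
  c23 : QuadraticMap.polar (⇑Q) (v 2) (v 3) = -1
  c02 : QuadraticMap.polar (⇑Q) (v 0) (v 2) = 0
  c03 : QuadraticMap.polar (⇑Q) (v 0) (v 3) = 0
  c13 : QuadraticMap.polar (⇑Q) (v 1) (v 3) = 0

/-- Separate paths, orthogonal to two given vectors. -/
structure Frame (Q : QuadraticForm F (ι → F)) (u u' : ι → F) {κ : Type} (v : κ → Fin 4 → (ι → F)) : Prop where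
  block : ∀ k, Block Q (v k)
  apart : ∀ k l, k ≠ l → ∀ a b, QuadraticMap.polar (⇑Q) (v k a) (v l b) = 0
  off : ∀ k a, QuadraticMap.polar (⇑Q) u (v k a) = 0 ∧ QuadraticMap.polar (⇑Q) u' (v k a) = 0

theorem refl_apply_norm {v : ι → F} {g : Grp Q} (hg : IsRefl v g) (hv : Q v = 1) (x : ι → F) :
    ap g x = x - B v x • v := by
  rw [hg.2, hv, inv_one, one_mul]

theorem refl_commute {u v : ι → F} {r s : Grp Q} (hr : IsRefl u r) (hs : IsRefl v s) (h : B u v = 0) :
    Commute r s := by
  refine ext_ap fun x => ?_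
  have h' : B v u = 0 := by rw [b_comm, h]
  rw [ap_mul, ap_mul, hs.2 x, hr.2 x, ap_sub, ap_smul, ap_sub, ap_smul, hr.2 x, hs.2 x,
    refl_fix hr h, refl_fix hs h']
  abel

/-- The product along a path has order five and moves the last vector. -/
theorem block_five {v : Fin 4 → (ι → F)} (X : Block Q v) {r : Fin 4 → Grp Q} (hr : ∀ a, IsRefl (v a) (r a)) :
    (r 0 * r 1 * r 2 * r 3) ^ 5 = 1 ∧ ap (r 0 * r 1 * r 2 * r 3) (v 3) ≠ v 3 := by
  have hd : ∀ a, B (v a) (v a) = 2 := fun a => by rw [b_self, X.norm, mul_one]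
  obtain ⟨hn, c01, c12, c23, c02, c03, c13⟩ := X
  have c10 : B (v 1) (v 0) = -1 := (b_comm _ _).trans c01
  have c21 : B (v 2) (v 1) = -1 := (b_comm _ _).trans c12
  have c32 : B (v 3) (v 2) = -1 := (b_comm _ _).trans c23
  have c20 : B (v 2) (v 0) = 0 := (b_comm _ _).trans c02
  have c30 : B (v 3) (v 0) = 0 := (b_comm _ _).trans c03
  have c31 : B (v 3) (v 1) = 0 := (b_comm _ _).trans c13
  have hap : ∀ a y, ap (r a) y = y - B (v a) y • v a := fun a y => refl_apply_norm (hr a) (hn a) y
  set h := r 0 * r 1 * r 2 * r 3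
  have step : ∀ x a b c d, ap h (x + a • v 0 + b • v 1 + c • v 2 + d • v 3) =
      x + (-d - (B (v 0) x + B (v 1) x + B (v 2) x + B (v 3) x)) • v 0
        + (a - d - (B (v 1) x + B (v 2) x + B (v 3) x)) • v 1
        + (b - d - (B (v 2) x + B (v 3) x)) • v 2 + (c - d - B (v 3) x) • v 3 := by
    intro x a b c d
    simp only [h, ap_mul, hap, b_add_right, b_sub_right, b_smul_right, hd, c01, c12, c23, c02, c03, c13,
      c10, c21, c32, c20, c30, c31]
    match_scalars <;> ring
  refine ⟨ext_ap fun x => ?_, fun e => ?_⟩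
  · have hx : x = x + (0 : F) • v 0 + (0 : F) • v 1 + (0 : F) • v 2 + (0 : F) • v 3 := by simp
    conv_lhs => rw [hx]
    rw [ap_one]
    simp only [pow_succ, pow_zero, one_mul, ap_mul, step]
    conv_rhs => rw [hx]
    match_scalars <;> ring
  · have h3 := step 0 0 0 0 1
    simp only [b_zero_right, zero_smul, one_smul, zero_add, add_zero, sub_zero, zero_sub] at h3
    rw [h3] at e
    have h1 := congrArg (fun y => B (v 0) y) e
    simp only [b_add_right, b_smul_right, hd, c01, c02, c03] at h1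
    refine one_ne_zero (α := F) ?_
    linear_combination -h1

/-- Commuting elements of order five from separate paths. -/
theorem exists_five (hB : Nondeg Q) {κ : Type} [Fintype κ] [DecidableEq κ] {u u' : ι → F}
    {v : κ → Fin 4 → (ι → F)} (X : Frame Q u u' v) :
    ∃ θ : (κ → Multiplicative (ZMod 5)) →* Grp Q, Function.Injective θ ∧
      (∀ a s, IsRefl u s ∨ IsRefl u' s → Commute (θ a) s) ∧
      ∀ a, θ a ∈ Subgroup.closure
        {x : Grp Q | ∃ r s v w, Q v = 1 ∧ Q w = 1 ∧ IsRefl v r ∧ IsRefl w s ∧ x = r * s} := by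
  classical
  have hex : ∀ k a, ∃ r : Grp Q, IsRefl (v k a) r := fun k a =>
    exists_refl hB (by rw [(X.block k).norm a]; exact one_ne_zero)
  choose r hr using hex
  let h : κ → Grp Q := fun k => r k 0 * r k 1 * r k 2 * r k 3
  have h5 : ∀ k, h k ^ 5 = 1 := fun k => (block_five (X.block k) (hr k)).1
  let f : κ → Multiplicative (ZMod 5) →* Grp Q := fun k =>
    MonoidHom.mk' (fun z => h k ^ (Multiplicative.toAdd z).val) fun z w => by
      rw [toAdd_mul, ZMod.val_add, ← pow_add]
      exact (pow_eq_pow_mod _ (h5 k)).symm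
  have hprod : ∀ (k : κ) (s : Grp Q), (∀ a, Commute (r k a) s) → ∀ z, Commute (f k z) s := fun k s hs z =>
    ((((hs 0).mul_left (hs 1)).mul_left (hs 2)).mul_left (hs 3)).pow_left _
  have hcomm : Pairwise fun k l => ∀ x y, Commute (f k x) (f l y) := fun k l hkl x y =>
    hprod k _ (fun a => (hprod l _ (fun b => (refl_commute (hr k a) (hr l b) (X.apart k l hkl a b)).symm) y).symm) x
  set θ := MonoidHom.noncommPiCoprod f hcomm
  refine ⟨θ, (injective_iff_map_eq_one θ).2 fun a ha => ?_, fun a s hs => ?_, fun a => ?_⟩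
  · funext k
    by_contra hk
    have hfix : ∀ b : κ → Multiplicative (ZMod 5), b k = 1 → ap (θ b) (v k 3) = v k 3 := by
      intro b hb
      change ap (Finset.univ.noncommProd (fun l => f l (b l)) fun _ _ _ _ h => hcomm h _ _) (v k 3) = _
      refine Finset.noncommProd_induction _ _ _ (fun g : Grp Q => ap g (v k 3) = v k 3)
        (fun g g' hg hg' => by rw [ap_mul, hg', hg]) (ap_one _) fun l _ => ?_
      by_cases hl : l = k
      · subst hl; rw [hb, map_one, ap_one]
      have hone : ∀ c, ap (r l c) (v k 3) = v k 3 := fun c => refl_fix (hr l c) (X.apart l k hl c 3)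
      show ap (h l ^ _) (v k 3) = _
      generalize (Multiplicative.toAdd (b l)).val = n
      induction n with
      | zero => rw [pow_zero, ap_one]
      | succ n ih => rw [pow_succ, ap_mul, ap_mul, ap_mul, ap_mul, hone, hone, hone, hone, ih]
    have h1 : θ a = f k (a k) * θ ((Pi.mulSingle k (a k))⁻¹ * a) := by
      rw [map_mul, map_inv, MonoidHom.noncommPiCoprod_mulSingle, mul_inv_cancel_left]
    have h2 : ap (h k ^ (Multiplicative.toAdd (a k)).val) (v k 3) = v k 3 := by
      have := congrArg (fun g => ap g (v k 3)) h1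
      simp only [ha, ap_one, ap_mul] at this
      rw [hfix _ (by rw [Pi.mul_apply, Pi.inv_apply, Pi.mulSingle_eq_same, inv_mul_cancel])] at this
      exact this.symm
    set n := (Multiplicative.toAdd (a k)).val with hn
    have hn0 : n ≠ 0 := fun e => hk (by
      rw [hn, ZMod.val_eq_zero] at e
      exact Multiplicative.toAdd.injective e)
    obtain ⟨m, hm⟩ : ∃ m, n * m % 5 = 1 := by
      have hlt : n < 5 := ZMod.val_lt _
      interval_cases n
      · exact absurd rfl hn0
      exacts [⟨1, rfl⟩, ⟨3, rfl⟩, ⟨2, rfl⟩, ⟨4, rfl⟩]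
    refine (block_five (X.block k) (hr k)).2 ?_
    have h3 : ∀ i, ap ((h k ^ n) ^ i) (v k 3) = v k 3 := fun i => by
      induction i with
      | zero => rw [pow_zero, ap_one]
      | succ i ih => rw [pow_succ, ap_mul, h2, ih]
    have h4 := h3 m
    rw [← pow_mul, pow_eq_pow_mod _ (h5 k), hm, pow_one] at h4
    exact h4
  · change Commute (Finset.univ.noncommProd (fun l => f l (a l)) fun _ _ _ _ h => hcomm h _ _) s
    refine (Finset.noncommProd_commute _ _ _ _ fun l _ => (hprod l s (fun c => ?_) (a l)).symm).symm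
    rcases hs with hs | hs
    · exact (refl_commute hs (hr l c) (X.off l c).1).symm
    · exact (refl_commute hs (hr l c) (X.off l c).2).symm
  · change Finset.univ.noncommProd (fun l => f l (a l)) (fun _ _ _ _ h => hcomm h _ _) ∈ _
    refine Subgroup.noncommProd_mem _ _ fun l _ => pow_mem ?_ _
    show r l 0 * r l 1 * r l 2 * r l 3 ∈ _
    rw [mul_assoc (r l 0 * r l 1)]
    exact mul_mem (Subgroup.subset_closure ⟨_, _, _, _, (X.block l).norm 0, (X.block l).norm 1, hr l 0, hr l 1, rfl⟩)
      (Subgroup.subset_closure ⟨_, _, _, _, (X.block l).norm 2, (X.block l).norm 3, hr l 2, hr l 3, rfl⟩)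

/-- Lifts of commuting elements of order five through a central extension by involutions. -/
theorem exists_lift_five {K H 𝔸 : Type*} [Group K] [Group H] [CommGroup 𝔸] {π : K →* H}
    (hπ : Function.Surjective π) (hker : ∀ z, π z = 1 → z * z = 1 ∧ ∀ x, Commute z x)
    (ω : 𝔸 →* H) (h5 : ∀ a : 𝔸, a ^ 5 = 1) :
    ∃ ω' : 𝔸 →* K, (∀ a, π (ω' a) = ω a) ∧
      ∀ g : K, (∀ a, Commute (π g) (ω a)) → ∀ a, Commute g (ω' a) := by
  choose s hs using fun a => hπ (ω a)
  have hs5 : ∀ a, π (s a ^ 6) = ω a := fun a => by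
    rw [map_pow, hs, show 6 = 5 + 1 from rfl, pow_succ, ← map_pow, h5, map_one, one_mul]
  have hone : ∀ a, (s a ^ 6) ^ 5 = 1 := fun a => by
    have h := (hker (s a ^ 5) (by rw [map_pow, hs, ← map_pow, h5, map_one])).1
    rw [← pow_mul, show 6 * 5 = (5 + 5) + (5 + 5) + (5 + 5) from rfl, pow_add, pow_add, pow_add, h, one_mul, one_mul]
  have key : ∀ g x : K, x ^ 5 = 1 → Commute (π g) (π x) → Commute g x := by
    intro g x hx hc
    set z := g * x * g⁻¹ * x⁻¹
    obtain ⟨hz2, hzc⟩ := hker z (by rw [map_mul, map_mul, map_mul, hc.eq, map_inv, map_inv]; group)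
    have h1 : (g * x * g⁻¹) ^ 5 = 1 := by rw [conj_pow, hx, mul_one, mul_inv_cancel]
    rw [show g * x * g⁻¹ = z * x by simp [z], (hzc x).mul_pow, hx, mul_one,
      show 5 = 2 + 2 + 1 from rfl, pow_succ, pow_add, pow_two, hz2, one_mul, one_mul] at h1
    exact mul_inv_eq_iff_eq_mul.1 (mul_inv_eq_one.1 h1)
  suffices hmul : ∀ a b, s (a * b) ^ 6 = s a ^ 6 * s b ^ 6 from
    ⟨MonoidHom.mk' (fun a => s a ^ 6) hmul, hs5, fun g hg a =>
      key g (s a ^ 6) (hone a) (by rw [hs5]; exact hg a)⟩
  intro a b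
  set x := s a ^ 6
  set y := s b ^ 6
  have hxy : Commute x y := key x y (hone b) (by rw [hs5, hs5]; exact (Commute.all a b).map ω)
  set z := s (a * b) ^ 6 * (x * y)⁻¹
  obtain ⟨hz2, hzc⟩ := hker z (by rw [map_mul, map_inv, map_mul, hs5, hs5, hs5, map_mul, mul_inv_cancel])
  have h1 := hone (a * b)
  rw [show s (a * b) ^ 6 = z * (x * y) by simp only [z]; group, (hzc _).mul_pow, hxy.mul_pow, hone a, hone b, mul_one, mul_one,
    show 5 = 2 + 2 + 1 from rfl, pow_succ, pow_add, pow_two, hz2, one_mul, one_mul] at h1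
  exact mul_inv_eq_one.1 h1

end CfsgLib.Discon
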