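import Cfsg.Agent.Lib.Discon.CaseOTwo
import Cfsg.Agent.Lib.FischerClass.OrthThreeGroup
import Cfsg.Agent.Lib.Classical.OrthCenter
import Cfsg.Agent.Lib.Classical.OrthClassRefl

/-!
Reflections of norm one over the field with three elements: a twist forces the hyperbolic space of
dimension eight.
-/

set_option autoImplicit false
set_option linter.style.haveILetI false
set_option linter.unusedSectionVars false

namespace CfsgLib.Discon

open Cfsg CfsgLib.Orth
open CfsgLib.FischerClass CfsgLib.ThreeTransp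

variable {ι : Type} [Fintype ι] [DecidableEq ι] {Q : QuadraticForm (ZMod 3) (ι → ZMod 3)}

local notation "B" => QuadraticMap.polar (DFunLike.coe Q)

theorem three_cases (a : ZMod 3) : a = 0 ∨ a = 1 ∨ a = -1 := by revert a; decide

theorem grpEnd_neg (g : Grp Q) (h : ((g : GL ι (ZMod 3)) : Matrix ι ι (ZMod 3)) = -1) (x : ι → ZMod 3) :
    ap g x = -x := by
  show Matrix.mulVec _ x = -x
  rw [h, Matrix.neg_mulVec, Matrix.one_mulVec]

variable (hB : Nondeg Q) (hn : 5 ≤ Fintype.card ι)
include hB hn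

theorem kg_center_scalar {z : ↥(KG Q)} (hz : z ∈ Subgroup.center ↥(KG Q)) :
    (∀ x, ap (z : Grp Q) x = x) ∨ ∀ x, ap (z : Grp Q) x = -x := by
  have hn' : 5 ≤ Module.finrank (ZMod 3) (ι → ZMod 3) := by rwa [Module.finrank_fintype_fun_eq_card]
  rcases Orth.commute_El_scalar hB hn' (x := (z : Grp Q)) fun a ha => by
    rw [← Orth.omega_eq_El hB hn', ← Fischer.map_commutator_reflectionSubgroup hB hn' one_ne_zero] at ha
    obtain ⟨y, -, rfl⟩ := ha
    exact congrArg Subtype.val (Subgroup.mem_center_iff.1 hz y) with h | h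
  · exact Or.inl fun x => by rw [h, ap_one]
  · exact Or.inr (grpEnd_neg _ h)

theorem kg_center_sq {z : ↥(KG Q)} (hz : z ∈ Subgroup.center ↥(KG Q)) : z * z = 1 := by
  refine Subtype.ext (ext_ap fun x => ?_)
  rw [Subgroup.coe_mul, Subgroup.coe_one, ap_mul, ap_one]
  rcases kg_center_scalar hB hn hz with h | h <;> simp [h]

omit hn in
theorem kg_refl {v : ι → ZMod 3} (hv : Q v = 1) : ∃ r : ↥(KG Q), IsRefl v (r : Grp Q) := by
  obtain ⟨g, hg⟩ := exists_refl hB (show Q v ≠ 0 by rw [hv]; exact one_ne_zero)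
  exact ⟨⟨g, Subgroup.subset_closure ((Fischer.norm_one_iff one_ne_zero g).2 ⟨v, hv, hg⟩)⟩, hg⟩

omit hB hn in
theorem eg_mem {v : ι → ZMod 3} {r : ↥(KG Q)} (hv : Q v = 1) (hr : IsRefl v (r : Grp Q)) :
    (QuotientGroup.mk' (Subgroup.center ↥(KG Q)) r) ∈ EG Q :=
  ⟨r, (Fischer.norm_one_iff one_ne_zero _).2 ⟨v, hv, hr⟩, rfl⟩

theorem eg_class : IsThreeTranspositionClass (EG Q) :=
  let ⟨_, M⟩ := exists_model hB hn
  M.base.cls

omit hn in
/-- An invariant space without vectors of norm one is at most a line. -/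
theorem small_of_no_norm_one {W : Submodule (ZMod 3) (ι → ZMod 3)} (hW : ∀ w ∈ W, (∀ y ∈ W, B w y = 0) → w = 0)
    (hno : ∀ w ∈ W, Q w ≠ 1) {a b : ι → ZMod 3} (ha : a ∈ W) (hb : b ∈ W) (hab : B a b = 0) (hQa : Q a = -1) :
    Q b = 0 := by
  rcases three_cases (Q b) with h | h | h
  · exact h
  · exact absurd h (hno b hb)
  · refine absurd ?_ (hno _ (W.add_mem ha hb))
    rw [q_add, hQa, h, hab]; decide

omit hn in
theorem line_of_no_norm_one {W : Submodule (ZMod 3) (ι → ZMod 3)} (hW : ∀ w ∈ W, (∀ y ∈ W, B w y = 0) → w = 0)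
    (hno : ∀ w ∈ W, Q w ≠ 1) : W = ⊥ ∨ ∃ a, Q a = -1 ∧ W = Submodule.span (ZMod 3) {a} := by
  by_cases h : ∃ a ∈ W, Q a = -1
  swap
  · push Not at h
    refine Or.inl ((Submodule.eq_bot_iff _).2 fun x hx => hW x hx fun y hy => ?_)
    have h0 : ∀ w ∈ W, Q w = 0 := fun w hw => (three_cases (Q w)).resolve_right fun e =>
      e.elim (hno w hw) (h w hw)
    have := q_add (Q := Q) x y
    rw [h0 _ (W.add_mem hx hy), h0 x hx, h0 y hy, zero_add, zero_add] at this
    exact this.symm
  obtain ⟨a, ha, hQa⟩ := h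
  refine Or.inr ⟨a, hQa, le_antisymm (fun x hx => ?_) ((Submodule.span_singleton_le_iff_mem _ _).2 ha)⟩
  refine Submodule.mem_span_singleton.2 ⟨B a x, ?_⟩
  have haa : B a a = 1 := by rw [b_self, hQa]; decide
  suffices h0 : x - B a x • a = 0 from (sub_eq_zero.1 h0).symm
  set y := x - B a x • a
  have hy : y ∈ W := W.sub_mem hx (W.smul_mem _ ha)
  have hay : B a y = 0 := by rw [b_sub_right, b_smul_right, haa, mul_one, sub_self]
  refine hW y hy fun z hz => ?_
  set z' := z - B a z • a
  have hz' : z' ∈ W := W.sub_mem hz (W.smul_mem _ ha)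
  have haz : B a z' = 0 := by rw [b_sub_right, b_smul_right, haa, mul_one, sub_self]
  have h1 := small_of_no_norm_one hB hW hno ha hy hay hQa
  have h2 := small_of_no_norm_one hB hW hno ha hz' haz hQa
  have h3 := small_of_no_norm_one hB hW hno ha (W.add_mem hy hz')
    (by rw [b_add_right, hay, haz, add_zero]) hQa
  rw [q_add, h1, h2, zero_add, zero_add] at h3
  rw [show z = z' + B a z • a by simp [z'], b_add_right, b_smul_right, h3, b_comm y a, hay, mul_zero, add_zero]

omit hB hn in
/-- An isometry squaring to minus one. -/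
structure Imag (g : Grp Q) : Prop where
  sq : ∀ x, ap g (ap g x) = -x

omit hB hn in
theorem Imag.b_gg {g : Grp Q} (X : Imag g) (u v : ι → ZMod 3) : B (ap g u) v = -B u (ap g v) := by
  have h : ap g (ap g (-v)) = v := by rw [X.sq, neg_neg]
  conv_lhs => rw [← h, ap_b, ← neg_one_smul (ZMod 3) v, ap_smul, b_smul_right, neg_one_mul]

omit hB hn in
theorem Imag.self {g : Grp Q} (X : Imag g) (v : ι → ZMod 3) : B v (ap g v) = 0 := by
  have h := X.b_gg v v
  rw [b_comm] at h
  have key : ∀ t : ZMod 3, t = -t → t = 0 := by decide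
  exact key _ h

omit hB hn in
/-- Orthogonal vectors of norm one with orthogonal images. -/
structure Pairs (g : Grp Q) {κ : Type} (f : κ → (ι → ZMod 3)) : Prop where
  norm : ∀ k, Q (f k) = 1
  vv : ∀ k l, k ≠ l → QuadraticMap.polar (⇑Q) (f k) (f l) = 0
  vw : ∀ k l, QuadraticMap.polar (⇑Q) (f k) (ap g (f l)) = 0

omit hB hn in
/-- The coordinates of the pairs. -/
def pairMap (g : Grp Q) {κ : Type} [Fintype κ] (f : κ → (ι → ZMod 3)) :
    (κ → ZMod 3 × ZMod 3) →ₗ[ZMod 3] (ι → ZMod 3) where
  toFun a := ∑ k, ((a k).1 • f k + (a k).2 • ap g (f k))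
  map_add' a b := by
    rw [← Finset.sum_add_distrib]
    exact Finset.sum_congr rfl fun k _ => by simp only [Pi.add_apply, Prod.fst_add, Prod.snd_add]; module
  map_smul' c a := by
    rw [Finset.smul_sum]
    exact Finset.sum_congr rfl fun k _ => by
      simp only [Pi.smul_apply, Prod.smul_fst, Prod.smul_snd, RingHom.id_apply, smul_eq_mul]; module

omit hB hn in
theorem pairMap_apply (g : Grp Q) {κ : Type} [Fintype κ] (f : κ → (ι → ZMod 3)) (a : κ → ZMod 3 × ZMod 3) :
    pairMap g f a = ∑ k, ((a k).1 • f k + (a k).2 • ap g (f k)) := rfl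

omit hB hn in
theorem pairMap_single (g : Grp Q) {κ : Type} [Fintype κ] [DecidableEq κ] (f : κ → (ι → ZMod 3)) (j : κ)
    (p : ZMod 3 × ZMod 3) : pairMap g f (Pi.single j p) = p.1 • f j + p.2 • ap g (f j) := by
  rw [pairMap_apply, Finset.sum_eq_single j (fun l _ hl => by simp [Pi.single_eq_of_ne hl])
    (fun h => absurd (Finset.mem_univ j) h), Pi.single_eq_same]

section Pairs

omit hB hn
variable {g : Grp Q} (X : Imag g) {κ : Type} [Fintype κ] [DecidableEq κ] {f : κ → (ι → ZMod 3)} (P : Pairs g f)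
include X P

theorem Pairs.ww (k l : κ) (h : k ≠ l) : B (ap g (f k)) (ap g (f l)) = 0 := by rw [ap_b, P.vv k l h]

theorem Pairs.wv (k l : κ) : B (ap g (f k)) (f l) = 0 := by rw [b_comm, P.vw]

theorem Pairs.coord (a : κ → ZMod 3 × ZMod 3) (j : κ) :
    B (f j) (pairMap g f a) = 2 * (a j).1 ∧ B (ap g (f j)) (pairMap g f a) = 2 * (a j).2 := by
  constructor
  · rw [pairMap_apply, ← QuadraticMap.polarBilin_apply_apply, map_sum]
    rw [Finset.sum_eq_single j (fun k _ hk => ?_) (fun h => absurd (Finset.mem_univ j) h)]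
    · rw [QuadraticMap.polarBilin_apply_apply, b_add_right, b_smul_right, b_smul_right, P.vw, b_self, P.norm]
      ring
    · rw [QuadraticMap.polarBilin_apply_apply, b_add_right, b_smul_right, b_smul_right, P.vw, P.vv j k hk.symm,
        mul_zero, mul_zero, add_zero]
  · rw [pairMap_apply, ← QuadraticMap.polarBilin_apply_apply, map_sum]
    rw [Finset.sum_eq_single j (fun k _ hk => ?_) (fun h => absurd (Finset.mem_univ j) h)]
    · rw [QuadraticMap.polarBilin_apply_apply, b_add_right, b_smul_right, b_smul_right, Pairs.wv X P, ap_b, b_self,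
        P.norm]
      ring
    · rw [QuadraticMap.polarBilin_apply_apply, b_add_right, b_smul_right, b_smul_right, Pairs.wv X P,
        Pairs.ww X P j k hk.symm, mul_zero, mul_zero, add_zero]

theorem Pairs.injective : Function.Injective (pairMap g f) :=
  (injective_iff_map_eq_zero _).2 fun a ha => funext fun j => by
    obtain ⟨h1, h2⟩ := Pairs.coord X P a j
    rw [ha, b_zero_right] at h1 h2
    have h2' : (2 : ZMod 3) ≠ 0 := by decide
    exact Prod.ext ((mul_eq_zero.1 h1.symm).resolve_left h2') ((mul_eq_zero.1 h2.symm).resolve_left h2')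

theorem Pairs.two_mul_le : 2 * Fintype.card κ ≤ Fintype.card ι := by
  have h := LinearMap.finrank_le_finrank_of_injective (Pairs.injective X P)
  rw [Module.finrank_fintype_fun_eq_card, Module.finrank_pi_fintype] at h
  simpa [mul_comm, Finset.sum_const, Module.finrank_prod] using h

theorem Pairs.q_map (a : κ → ZMod 3 × ZMod 3) :
    Q (pairMap g f a) = ∑ k, ((a k).1 * (a k).1 + (a k).2 * (a k).2) := by
  rw [pairMap_apply]
  have key : ∀ s : Finset κ, Q (∑ k ∈ s, ((a k).1 • f k + (a k).2 • ap g (f k))) =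
      ∑ k ∈ s, ((a k).1 * (a k).1 + (a k).2 * (a k).2) := by
    intro s
    induction s using Finset.induction with
    | empty => simp
    | insert x s hx ih =>
      rw [Finset.sum_insert hx, Finset.sum_insert hx, q_add, ih, ← QuadraticMap.polarBilin_apply_apply, map_sum,
        Finset.sum_eq_zero (f := fun k => (QuadraticMap.polarBilin Q) ((a x).1 • f x + (a x).2 • ap g (f x))
          ((a k).1 • f k + (a k).2 • ap g (f k))) fun k hk => ?_, add_zero]
      · rw [q_add, q_smul, q_smul, ap_q, P.norm, b_smul_left, b_smul_right, P.vw]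
        ring
      · have hne : x ≠ k := fun e => hx (e ▸ hk)
        simp only [QuadraticMap.polarBilin_apply_apply, b_add_left, b_add_right, b_smul_left, b_smul_right,
          P.vw, Pairs.wv X P, P.vv x k hne, Pairs.ww X P x k hne, mul_zero, add_zero]
  exact key _

theorem Pairs.equiv {m : ℕ} (hκ : Fintype.card κ = m) (hm : Fintype.card ι = 2 * m) :
    ∃ E : (κ → ZMod 3 × ZMod 3) ≃ₗ[ZMod 3] (ι → ZMod 3), ∀ a, E a = pairMap g f a := by
  refine ⟨LinearMap.linearEquivOfInjective (pairMap g f) (Pairs.injective X P) ?_, fun a => rfl⟩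
  rw [Module.finrank_fintype_fun_eq_card, Module.finrank_pi_fintype, hm]
  simp [Finset.sum_const, Module.finrank_prod, hκ, mul_comm]

end Pairs

theorem Imag.pairs {g : Grp Q} (X : Imag g) :
    ∃ m, Fintype.card ι = 2 * m ∧ ∃ f : Fin m → (ι → ZMod 3), Pairs g f := by
  classical
  have key : ∀ k, ∀ f : Fin k → (ι → ZMod 3), Pairs g f →
      Fintype.card ι = 2 * k ∨ ∃ f' : Fin (k + 1) → (ι → ZMod 3), Pairs g f' := by
    intro k f P
    set W := orth Q (LinearMap.range (pairMap g f)) with hW
    have hb : ∀ w, w ∈ W ↔ ∀ l, B (f l) w = 0 ∧ B (ap g (f l)) w = 0 := by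
      intro w
      constructor
      · intro hw l
        exact ⟨hw _ ⟨Pi.single l (1, 0), by rw [pairMap_single]; simp⟩,
          hw _ ⟨Pi.single l (0, 1), by rw [pairMap_single]; simp⟩⟩
      · rintro h _ ⟨a, rfl⟩
        show B (pairMap g f a) w = 0
        rw [b_comm, pairMap_apply, ← QuadraticMap.polarBilin_apply_apply, map_sum]
        refine Finset.sum_eq_zero fun l _ => ?_
        rw [QuadraticMap.polarBilin_apply_apply, b_add_right, b_smul_right, b_smul_right, b_comm w, (h l).1,
          b_comm w, (h l).2, mul_zero, mul_zero, add_zero]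
    by_cases hex : ∃ w ∈ W, Q w = 1
    · obtain ⟨w, hw, hQw⟩ := hex
      rw [hb] at hw
      right
      refine ⟨Fin.cons w f, ⟨Fin.cases hQw P.norm, ?_, ?_⟩⟩
      · intro i j hij
        induction i using Fin.cases <;> induction j using Fin.cases <;> simp only [Fin.cons_zero, Fin.cons_succ]
        · exact absurd rfl hij
        · rw [b_comm]; exact (hw _).1
        · exact (hw _).1
        · exact P.vv _ _ (fun e => hij (by rw [e]))
      · intro i j
        induction i using Fin.cases <;> induction j using Fin.cases <;> simp only [Fin.cons_zero, Fin.cons_succ]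
        · exact X.self w
        · rw [b_comm]; exact (hw _).2
        · rename_i i
          have h := X.b_gg (f i) w
          rw [(hw i).2] at h
          exact neg_eq_zero.1 h.symm
        · exact P.vw _ _
    left
    push Not at hex
    have hreg : ∀ x ∈ W, (∀ y ∈ W, B x y = 0) → x = 0 := by
      intro x hx h
      have hx' : x ∈ orth Q W := fun y hy => by
        show B y x = 0
        rw [b_comm]; exact h y hy
      rw [hW, orth_orth hB] at hx'
      obtain ⟨a, rfl⟩ := hx'
      have ha : a = 0 := funext fun j => by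
        obtain ⟨h1, h2⟩ := Pairs.coord X P a j
        rw [((hb _).1 hx j).1] at h1
        rw [((hb _).1 hx j).2] at h2
        have h2' : (2 : ZMod 3) ≠ 0 := by decide
        exact Prod.ext ((mul_eq_zero.1 h1.symm).resolve_left h2') ((mul_eq_zero.1 h2.symm).resolve_left h2')
      rw [ha, map_zero]
    have hbot : W = ⊥ := by
      rcases line_of_no_norm_one hB hreg hex with h | ⟨a, hQa, h⟩
      · exact h
      exfalso
      have ha : a ∈ W := h ▸ Submodule.mem_span_singleton_self a
      have hga : ap g a ∈ W := (hb _).2 fun l => by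
        have hl := (hb a).1 ha l
        have e1 := X.b_gg (f l) a
        rw [hl.2] at e1
        exact ⟨neg_eq_zero.1 e1.symm, by rw [ap_b]; exact hl.1⟩
      rw [h, Submodule.mem_span_singleton] at hga
      obtain ⟨c, hc⟩ := hga
      have h2 := congrArg (ap g) hc
      rw [ap_smul, X.sq, ← hc, smul_smul] at h2
      have key : ∀ c : ZMod 3, c * c + 1 ≠ 0 := by decide
      have h3 : (c * c + 1) • a = 0 := by rw [add_smul, one_smul, h2, neg_add_cancel]
      have a0 := (smul_eq_zero.1 h3).resolve_left (key c)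
      rw [a0] at hQa
      simp at hQa
    have hdim := finrank_orth hB (LinearMap.range (pairMap g f))
    rw [← hW, hbot, finrank_bot, LinearMap.finrank_range_of_inj (Pairs.injective X P),
      Module.finrank_fintype_fun_eq_card, Module.finrank_pi_fintype] at hdim
    simpa [mul_comm, Finset.sum_const, Module.finrank_prod] using hdim.symm
  by_contra hno
  push Not at hno
  have hall : ∀ k, ∃ f : Fin k → (ι → ZMod 3), Pairs g f := by
    intro k
    induction k with
    | zero => exact ⟨Fin.elim0, ⟨fun a => a.elim0, fun a => a.elim0, fun a => a.elim0⟩⟩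
    | succ k ih =>
      obtain ⟨f, P⟩ := ih
      rcases key k f P with h | h
      · exact absurd P (hno k h f)
      · exact h
  obtain ⟨f, P⟩ := hall (Fintype.card ι + 1)
  have := Pairs.two_mul_le X P
  rw [Fintype.card_fin] at this
  omega

omit hn in
/-- The rotation of one plane lies outside the reflection subgroup and centralises. -/
theorem rotation_outside (hn : 5 ≤ Fintype.card ι) {g : Grp Q} (X : Imag g) {m : ℕ} {f : Fin m → (ι → ZMod 3)}
    (P : Pairs g f) (hm : Fintype.card ι = 2 * m) : ∃ s : Grp Q, s ∉ KG Q ∧ Commute s g := by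
  classical
  have hn' : 5 ≤ Module.finrank (ZMod 3) (ι → ZMod 3) := by rwa [Module.finrank_fintype_fun_eq_card]
  set k : Fin m := ⟨0, by omega⟩
  set w := f k + ap g (f k) with hw
  have hQw : Q w = -1 := by rw [hw, q_add, ap_q, P.norm, P.vw]; decide
  obtain ⟨r, hr⟩ := kg_refl hB (P.norm k)
  obtain ⟨t, ht⟩ := exists_refl hB (show Q w ≠ 0 by rw [hQw]; decide)
  refine ⟨(r : Grp Q) * t, fun hmem => ?_, ?_⟩
  · have htK : t ∈ KG Q := by
      have := mul_mem (inv_mem r.2) hmem
      rwa [inv_mul_cancel_left] at this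
    have htop : KG Q = ⊤ := by
      refine eq_top_iff.2 ((refl_eq_top hB fun h => absurd h (by omega)).ge.trans ((Subgroup.closure_le _).2 ?_))
      rintro x ⟨v, hv⟩
      rcases three_cases (Q v) with h | h | h
      · exact absurd h hv.1
      · exact Subgroup.subset_closure ((Fischer.norm_one_iff one_ne_zero x).2 ⟨v, h, hv⟩)
      · have hxt : x * t ∈ ClassRefl Q 1 :=
          mul_mem_classRefl hB (by decide) (Or.inr (Or.inr hn')) one_ne_zero
            (d := -1) (by rintro ⟨a, ha⟩; revert a; decide) hv ht h hQw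
        have hle : ClassRefl Q 1 ≤ KG Q := (Subgroup.closure_le _).2 fun y ⟨v', hv', hsq⟩ => by
          refine Subgroup.subset_closure ((Fischer.norm_one_iff one_ne_zero y).2 ⟨v', ?_, hv'⟩)
          rw [mul_one] at hsq
          obtain ⟨a, ha⟩ := hsq
          rcases three_cases a with e | e | e <;> rw [e] at ha
          · exact absurd (ha.trans (mul_zero 0)) hv'.1
          · exact ha.trans (one_mul 1)
          · exact ha.trans (by decide)
        have := mul_mem (hle hxt) (inv_mem htK)
        rwa [mul_inv_cancel_right] at this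
    have := Fischer.reflectionSubgroup_index hB hn' (one_ne_zero (α := ZMod 3))
    rw [show Cfsg.reflectionSubgroup (⇑Q) 1 = ⊤ from htop, Subgroup.index_top] at this
    exact absurd this (by decide)
  · obtain ⟨E, hE⟩ := Pairs.equiv X P (Fintype.card_fin m) hm
    refine ext_ap fun x => ?_
    obtain ⟨a, rfl⟩ := E.surjective x
    have hgw : ap g w = ap g (f k) - f k := by rw [hw, ap_add, X.sq]; abel
    have hs : ∀ y, ap ((r : Grp Q) * t) y = y + (B w y) • w - B (f k) (y + B w y • w) • f k := by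
      intro y
      rw [ap_mul, ht.2, hQw, refl_apply_norm hr (P.norm k),
        show ((-1 : ZMod 3))⁻¹ = -1 by rw [inv_neg, inv_one], neg_one_mul, neg_smul, sub_neg_eq_add]
    have hgy : ∀ y, B w (ap g y) = -(B (ap g w) y) := fun y => by rw [X.b_gg w y, neg_neg]
    rw [ap_mul, ap_mul g, hs, hs, ap_sub, ap_add, ap_smul, ap_smul]
    rw [hgy, hgw]
    simp only [hw, b_add_left, b_add_right, b_sub_left, b_smul_right, P.vw, Pairs.wv X P, b_self, ap_q, P.norm,
      ap_add, X.sq]
    have e1 : B (f k) (ap g (E a)) = -B (ap g (f k)) (E a) := by rw [X.b_gg, neg_neg]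
    rw [e1]
    generalize B (f k) (E a) = p
    generalize B (ap g (f k)) (E a) = p'
    match_scalars
    all_goals (clear hs hgy hgw; revert p p'; decide)

/-- Two such elements are conjugate by the reflection subgroup. -/
theorem Imag.conj {g g' : Grp Q} (X : Imag g) (X' : Imag g') : ∃ o ∈ KG Q, o * g * o⁻¹ = g' := by
  obtain ⟨m, hm, f, P⟩ := X.pairs hB hn
  obtain ⟨m', hm', f', P'⟩ := X'.pairs hB hn
  obtain rfl : m' = m := by omega
  obtain ⟨E, hE⟩ := Pairs.equiv X P (Fintype.card_fin m') hm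
  obtain ⟨E', hE'⟩ := Pairs.equiv X' P' (Fintype.card_fin m') hm
  obtain ⟨o, ho⟩ := exists_iso hB (E'.toLinearMap.comp E.symm.toLinearMap) fun x => by
    obtain ⟨a, rfl⟩ := E.surjective x
    simp only [LinearMap.comp_apply, LinearEquiv.coe_coe, LinearEquiv.symm_apply_apply]
    rw [hE', hE, Pairs.q_map X' P', Pairs.q_map X P]
  have hog : o * g * o⁻¹ = g' := by
    refine mul_inv_eq_iff_eq_mul.2 (ext_ap fun x => ?_)
    obtain ⟨a, rfl⟩ := E.surjective x
    have hstep : ∀ {g : Grp Q} (X : Imag g) {f : Fin m' → (ι → ZMod 3)} (a : Fin m' → ZMod 3 × ZMod 3),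
        ap g (pairMap g f a) = pairMap g f fun k => (-(a k).2, (a k).1) := by
      intro g X f a
      rw [pairMap_apply, pairMap_apply, ← grpEnd_apply, map_sum]
      refine Finset.sum_congr rfl fun k _ => ?_
      rw [grpEnd_apply, ap_add, ap_smul, ap_smul, X.sq]
      module
    rw [ap_mul, ap_mul, hE, hstep X, ← hE, ← hE, ho, ho]
    simp only [LinearMap.comp_apply, LinearEquiv.coe_coe, LinearEquiv.symm_apply_apply]
    rw [hE', hE', hstep X']
  by_cases hoK : o ∈ KG Q
  · exact ⟨o, hoK, hog⟩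
  obtain ⟨s, hs, hsg⟩ := rotation_outside hB hn X P hm
  have hn' : 5 ≤ Module.finrank (ZMod 3) (ι → ZMod 3) := by rwa [Module.finrank_fintype_fun_eq_card]
  refine ⟨o * s, (Subgroup.mul_mem_iff_of_index_two
    (Fischer.reflectionSubgroup_index hB hn' one_ne_zero)).2 (iff_of_false hoK hs), ?_⟩
  calc o * s * g * (o * s)⁻¹ = o * (s * g * s⁻¹) * o⁻¹ := by group
    _ = g' := by rw [hsg.eq, mul_inv_cancel_right, hog]

variable {φ : commutator (HG Q) ≃* commutator (HG Q)}

/-- Lifts of the image of a product of two orthogonal members square to minus one. -/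
theorem IsTwist.imag (hφ : IsTwist (EG Q) φ) {u v : ι → ZMod 3} (hu : Q u = 1) (hv : Q v = 1) (huv : B u v = 0) :
    ∃ (r s : ↥(KG Q)) (w : commutator (HG Q)) (g : ↥(KG Q)),
      IsRefl u (r : Grp Q) ∧ IsRefl v (s : Grp Q) ∧
      (QuotientGroup.mk' (Subgroup.center ↥(KG Q)) r) ≠ (QuotientGroup.mk' (Subgroup.center ↥(KG Q)) s) ∧
      (w : HG Q) = QuotientGroup.mk' (Subgroup.center ↥(KG Q)) (r * s) ∧
      QuotientGroup.mk' (Subgroup.center ↥(KG Q)) g = ((φ w : commutator (HG Q)) : HG Q) ∧
      Imag (g : Grp Q) := by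
  have hcls := eg_class hB hn
  obtain ⟨r, hr⟩ := kg_refl hB hu
  obtain ⟨s, hs⟩ := kg_refl hB hv
  set π := QuotientGroup.mk' (Subgroup.center ↥(KG Q))
  have hrs : Commute r s := Subtype.ext (refl_commute hr hs huv).eq
  have hne : π r ≠ π s := by
    intro e
    have hz : r⁻¹ * s ∈ Subgroup.center ↥(KG Q) := QuotientGroup.eq.1 e
    have h1 : ap ((r⁻¹ * s : ↥(KG Q)) : Grp Q) u = -u := by
      rw [Subgroup.coe_mul, Subgroup.coe_inv, refl_inv hr, ap_mul, refl_fix hs (by rw [b_comm, huv]), refl_self hr]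
    have h2 : ap ((r⁻¹ * s : ↥(KG Q)) : Grp Q) v = -v := by
      rw [Subgroup.coe_mul, Subgroup.coe_inv, refl_inv hr, ap_mul, refl_self hs, ← neg_one_smul (ZMod 3) v, ap_smul,
        refl_fix hr huv]
    -- a third vector, orthogonal to both, is fixed
    obtain ⟨x, hx, hx0⟩ : ∃ x ∈ orth Q (Submodule.span (ZMod 3) (({u, v} : Finset (ι → ZMod 3)) : Set (ι → ZMod 3))),
        x ≠ 0 := by
      refine Submodule.exists_mem_ne_zero_of_ne_bot fun e => ?_
      have hd := finrank_orth_span hB {u, v}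
      rw [e, finrank_bot, Module.finrank_fintype_fun_eq_card] at hd
      have := Finset.card_le_two (a := u) (b := v)
      omega
    have h3 : ap ((r⁻¹ * s : ↥(KG Q)) : Grp Q) x = x := by
      have a1 : B u x = 0 := mem_orth_span.1 hx u (by simp)
      have a2 : B v x = 0 := mem_orth_span.1 hx v (by simp)
      rw [Subgroup.coe_mul, Subgroup.coe_inv, refl_inv hr, ap_mul, refl_fix hs a2, refl_fix hr a1]
    have key : ∀ y : ι → ZMod 3, y = -y → y = 0 := fun y h => funext fun i => by
      have hk : ∀ t : ZMod 3, t = -t → t = 0 := by decide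
      exact hk _ (congrFun h i)
    rcases kg_center_scalar hB hn hz with h | h
    · have := key u ((h u).symm.trans h1)
      rw [this, QuadraticMap.map_zero] at hu
      exact zero_ne_one hu
    · exact hx0 (key x (h3.symm.trans (h x)))
  have hrC := eg_mem hu hr
  have hsC := eg_mem hv hs
  set w : commutator (HG Q) := ⟨π r * π s, mul_mem_commutator hcls hrC hsC⟩
  obtain ⟨g, hg⟩ := QuotientGroup.mk'_surjective (Subgroup.center ↥(KG Q)) ((φ w : commutator (HG Q)) : HG Q)
  refine ⟨r, s, w, g, hr, hs, hne, (map_mul π r s).symm, hg, ?_⟩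
  have hfix : ∀ x, Q x = 1 → ∀ c : ZMod 3, ap (g : Grp Q) x ≠ c • x := by
    intro x hx c hc
    obtain ⟨t, ht⟩ := kg_refl hB hx
    refine hφ.fpf w _ hrC _ hsC hne rfl _ (eg_mem hx ht) ?_
    rw [← hg]
    have hconj := refl_conj ht (g : Grp Q)
    rw [hc] at hconj
    have hc0 : c ≠ 0 := fun e => hconj.1 (by rw [e, zero_smul, QuadraticMap.map_zero])
    have h : (g : Grp Q) * t * (g : Grp Q)⁻¹ = t := refl_unique hconj (refl_smul ht hc0)
    have hcom : Commute g t := Subtype.ext (mul_inv_eq_iff_eq_mul.1 h)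
    exact hcom.map π
  have hgg : g * g ∈ Subgroup.center ↥(KG Q) := by
    refine (QuotientGroup.eq_one_iff _).1 ?_
    show π (g * g) = 1
    rw [map_mul, hg, ← Subgroup.coe_mul, ← map_mul, show w * w = 1 from Subtype.ext ?_, map_one, Subgroup.coe_one]
    show π r * π s * (π r * π s) = 1
    rw [← pow_two]
    exact (commute_iff_mul_pow_two hcls.1 hrC hsC).1 (hrs.map π)
  rcases kg_center_scalar hB hn hgg with h | h
  swap
  · exact ⟨fun x => by rw [← ap_mul, ← Subgroup.coe_mul]; exact h x⟩
  exfalso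
  -- an involution: both eigenspaces are at most lines
  have hsq : ∀ x, ap (g : Grp Q) (ap (g : Grp Q) x) = x := fun x => by rw [← ap_mul, ← Subgroup.coe_mul]; exact h x
  let W : ZMod 3 → Submodule (ZMod 3) (ι → ZMod 3) := fun c => LinearMap.ker (grpEnd Q (g : Grp Q) - c • 1)
  have hW : ∀ c x, x ∈ W c ↔ ap (g : Grp Q) x = c • x := fun c x => by
    simp [W, sub_eq_zero, grpEnd_apply]
  have h12 : ∀ x ∈ W 1, ∀ y ∈ W (-1), B x y = 0 := by
    intro x hx y hy
    rw [hW] at hx hy
    have h := ap_b (g : Grp Q) x y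
    rw [hx, hy, one_smul, b_smul_right] at h
    have key : ∀ t : ZMod 3, -1 * t = t → t = 0 := by decide
    exact key _ h
  have hdec : ∀ x, x = (-(x + ap (g : Grp Q) x)) + (-(x - ap (g : Grp Q) x)) ∧
      -(x + ap (g : Grp Q) x) ∈ W 1 ∧ -(x - ap (g : Grp Q) x) ∈ W (-1) := by
    intro x
    refine ⟨?_, ?_, ?_⟩
    · funext i
      simp only [Pi.add_apply, Pi.neg_apply, Pi.sub_apply]
      have h3 : (3 : ZMod 3) = 0 := rfl
      linear_combination x i * h3
    · rw [hW, ← neg_one_smul (ZMod 3) (x + _), ap_smul, ap_add, hsq, one_smul, add_comm]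
    · rw [hW, ← neg_one_smul (ZMod 3) (x - _), ap_smul, ap_sub, hsq]
      module
  have hregW : ∀ c : ZMod 3, (c = 1 ∨ c = -1) → ∀ x ∈ W c, (∀ y ∈ W c, B x y = 0) → x = 0 := by
    intro c hc x hx hy
    refine hB x fun y => ?_
    obtain ⟨e, e1, e2⟩ := hdec y
    rw [e, b_add_right]
    rcases hc with rfl | rfl
    · rw [hy _ e1, h12 _ hx _ e2, add_zero]
    · rw [hy _ e2, b_comm x, h12 _ e1 _ hx, add_zero]
  have hdim : ∀ c : ZMod 3, (c = 1 ∨ c = -1) → Module.finrank (ZMod 3) (W c) ≤ 1 := by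
    intro c hc
    rcases line_of_no_norm_one hB (hregW c hc) (fun y hy hy1 => hfix y hy1 c ((hW c y).1 hy)) with h | ⟨a, -, h⟩
    · rw [h, finrank_bot]; omega
    · rw [h]; exact (finrank_span_le_card _).trans (by simp)
  have htop : W 1 ⊔ W (-1) = ⊤ := eq_top_iff.2 fun x _ => by
    obtain ⟨e, e1, e2⟩ := hdec x
    rw [e]
    exact Submodule.add_mem_sup e1 e2
  have := Submodule.finrank_add_le_finrank_add_finrank (W 1) (W (-1))
  rw [htop, finrank_top, Module.finrank_fintype_fun_eq_card] at this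
  have := hdim 1 (Or.inl rfl)
  have := hdim (-1) (Or.inr rfl)
  omega

omit hn in
/-- The paths on eight orthonormal vectors. -/
def orthoBlock {α : Type} (e : α → (ι → ZMod 3)) (i : Fin 8 → α) : Fin 2 → Fin 4 → (ι → ZMod 3) :=
  ![![e (i 0), e (i 0) + e (i 1) + e (i 2) + e (i 3), e (i 1), e (i 1) + e (i 2) + e (i 3) + e (i 4)],
    ![e (i 5), e (i 5) + e (i 6) + e (i 2) - e (i 3), e (i 6), e (i 6) + e (i 2) - e (i 3) + e (i 7)]]

set_option maxHeartbeats 2000000 in
theorem IsTwist.dim_six_eight (hφ : IsTwist (EG Q) φ) :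
    Fintype.card ι = 6 ∨ Fintype.card ι = 8 := by
  classical
  have hcls := eg_class hB hn
  set π := QuotientGroup.mk' (Subgroup.center ↥(KG Q))
  obtain ⟨u, hu, v, hv, huv⟩ : ∃ u, Q u = 1 ∧ ∃ v, Q v = 1 ∧ B u v = 0 := by
    obtain ⟨T, M⟩ := exists_model hB hn
    obtain ⟨c, hc, c', hc', hne, hcom⟩ : ∃ c ∈ EG Q, ∃ c' ∈ EG Q, c ≠ c' ∧ Commute c c' :=
      exists_commuting_pair hcls.1 (class_conjClosed hcls) hcls.2.2 fun hs => by
        haveI := hs
        have hn' : 5 ≤ Module.finrank (ZMod 3) (ι → ZMod 3) := by rwa [Module.finrank_fintype_fun_eq_card]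
        haveI hT : Group.IsSolvable (⊤ : Subgroup ↥(KG Q)) := by
          haveI : Group.IsSolvable ↥(Subgroup.center ↥(KG Q)) := isSolvable_of_comm fun a b =>
            Subtype.ext (Subgroup.mem_center_iff.1 b.2 a)
          haveI : Group.IsSolvable ↥(KG Q) := solvable_of_ker_le_range (Subgroup.center ↥(KG Q)).subtype π
            (by simp [π])
          infer_instance
        have htop := Fischer.solvable_normal_le_center hB hn' one_ne_zero (N := ⊤) hT
        obtain ⟨d, hd, -⟩ := hcls.2.1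
        obtain ⟨z, hz, rfl⟩ := hd
        exact ne_one_of_mem hcls.1 ⟨z, hz, rfl⟩ ((QuotientGroup.eq_one_iff z).2 (htop (Subgroup.mem_top z)))
    obtain ⟨u, hu, rfl⟩ := M.surj c hc
    obtain ⟨v, hv, rfl⟩ := M.surj c' hc'
    refine ⟨u, hu, v, hv, ((M.comm u v hu hv).1 hcom).resolve_right fun h => hne ((M.inj u v hu hv).2 h)⟩
  obtain ⟨-, -, -, g₀, -, -, -, -, -, X⟩ := hφ.imag hB hn hu hv huv
  obtain ⟨m, hm, f, P⟩ := X.pairs hB hn
  by_cases hsmall : m = 3 ∨ m = 4
  · omega
  exfalso
  have hm5 : 5 ≤ m := by omega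
  let e : Fin (2 * m) → (ι → ZMod 3) := fun j =>
    if j.1 % 2 = 0 then f ⟨j.1 / 2, by omega⟩ else ap (g₀ : Grp Q) (f ⟨j.1 / 2, by omega⟩)
  have he1 : ∀ j, Q (e j) = 1 := fun j => by
    simp only [e]; split_ifs <;> simp [ap_q, P.norm]
  have he0 : ∀ i j, i ≠ j → B (e i) (e j) = 0 := fun i j hij => by
    simp only [e]
    have hne : i.1 % 2 = j.1 % 2 → (⟨i.1 / 2, by omega⟩ : Fin m) ≠ ⟨j.1 / 2, by omega⟩ := fun h h' => hij (by
      have := congrArg Fin.val h'
      exact Fin.ext (by simp only at this; omega))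
    split_ifs with h h' h'
    · exact P.vv _ _ (hne (by omega))
    · exact P.vw _ _
    · exact Pairs.wv X P _ _
    · exact Pairs.ww X P _ _ (hne (by omega))
  obtain ⟨r, s, w, g, hr, hs, hne, hw, hg, X'⟩ := hφ.imag hB hn (he1 ⟨0, by omega⟩) (he1 ⟨1, by omega⟩)
    (he0 _ _ (by simp))
  set q := (2 * m - 2) / 8 with hq
  set t := (2 * m - 2) % 8 / 5 - (2 * m - 2) % 8 / 8 with ht
  let idx : Fin q ⊕ Fin t → Fin 8 → Fin (2 * m) := fun k i => match k with
    | .inl k => ⟨2 + 8 * k.1 + i.1, by have := k.2; have := i.2; omega⟩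
    | .inr _ => if h : 2 + 8 * q + i.1 < 2 * m then ⟨2 + 8 * q + i.1, h⟩ else ⟨0, by omega⟩
  let vs : (Fin q × Fin 2) ⊕ Fin t → Fin 4 → (ι → ZMod 3) := fun k => match k with
    | .inl k => orthoBlock e (idx (.inl k.1)) k.2
    | .inr k => orthoBlock e (idx (.inr k)) 0
  have i_inl : ∀ (k : Fin q) (i : Fin 8), (idx (.inl k) i).1 = 2 + 8 * k.1 + i.1 := fun _ _ => rfl
  have i_inr : ∀ (k : Fin t) (i : Fin 8), i.1 < 5 → (idx (.inr k) i).1 = 2 + 8 * q + i.1 := fun k i hi => by
    have := k.2
    have h : 2 + 8 * q + i.1 < 2 * m := by omega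
    simp only [idx, dif_pos h]
  have hee : ∀ j, B (e j) (e j) = -1 := fun j => by rw [b_self, he1]; decide
  have hblock : ∀ (i : Fin 8 → Fin (2 * m)) (x : Fin 2),
      (∀ p p' : Fin 8, p ≠ p' → (p.1 < 5 ∨ x = 1) → (p'.1 < 5 ∨ x = 1) → i p ≠ i p') →
      Block Q (orthoBlock e i x) := by
    intro i x h
    have hz : ∀ p p' : Fin 8, p ≠ p' → (p.1 < 5 ∨ x = 1) → (p'.1 < 5 ∨ x = 1) → B (e (i p)) (e (i p')) = 0 :=
      fun p p' hp h1 h2 => he0 _ _ (h p p' hp h1 h2)
    refine ⟨fun a => ?_, ?_, ?_, ?_, ?_, ?_, ?_⟩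
    · fin_cases x <;> fin_cases a <;>
        simp [orthoBlock, q_add, q_sub, b_add_left, b_sub_left, he1, hz] <;> decide
    all_goals
      fin_cases x <;>
        simp [orthoBlock, b_add_left, b_add_right, b_sub_left, b_sub_right, hee, hz] <;> decide
  have hfar : ∀ (i j : Fin 8 → Fin (2 * m)) (x y : Fin 2) (a b : Fin 4),
      (∀ p p' : Fin 8, (p.1 < 5 ∨ x = 1) → (p'.1 < 5 ∨ y = 1) → i p ≠ j p') →
      B (orthoBlock e i x a) (orthoBlock e j y b) = 0 := by
    intro i j x y a b h
    have hz : ∀ p p' : Fin 8, (p.1 < 5 ∨ x = 1) → (p'.1 < 5 ∨ y = 1) → B (e (i p)) (e (j p')) = 0 :=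
      fun p p' h1 h2 => he0 _ _ (h p p' h1 h2)
    fin_cases x <;> fin_cases y <;> fin_cases a <;> fin_cases b <;>
      simp [orthoBlock, b_add_left, b_add_right, b_sub_left, b_sub_right, hz]
  have hwith : ∀ i : Fin 8 → Fin (2 * m), Function.Injective i → ∀ a b,
      B (orthoBlock e i 0 a) (orthoBlock e i 1 b) = 0 := by
    intro i hi a b
    have hz : ∀ p p' : Fin 8, p ≠ p' → B (e (i p)) (e (i p')) = 0 := fun p p' hp => he0 _ _ (hi.ne hp)
    fin_cases a <;> fin_cases b <;>
      simp [orthoBlock, b_add_left, b_add_right, b_sub_left, b_sub_right, hee, hz] <;> decide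
  have hoff : ∀ (i : Fin 8 → Fin (2 * m)) (x : Fin 2) (a : Fin 4) (o : Fin (2 * m)),
      (∀ p : Fin 8, (p.1 < 5 ∨ x = 1) → i p ≠ o) → B (e o) (orthoBlock e i x a) = 0 := by
    intro i x a o h
    have hz : ∀ p : Fin 8, (p.1 < 5 ∨ x = 1) → B (e o) (e (i p)) = 0 := fun p hp => he0 _ _ (h p hp).symm
    fin_cases x <;> fin_cases a <;> simp [orthoBlock, b_add_right, b_sub_right, hz]
  have hinj : ∀ k, Function.Injective (idx (.inl k)) := fun k x y h => by
    have := congrArg Fin.val h
    rw [i_inl, i_inl] at this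
    exact Fin.ext (by omega)
  have F : Frame Q (e ⟨0, by omega⟩) (e ⟨1, by omega⟩) vs := by
    refine ⟨?_, ?_, ?_⟩
    · rintro (⟨k, x⟩ | k)
      · exact hblock _ _ fun p p' hp _ _ => (hinj k).ne hp
      · refine hblock _ _ fun p p' hp h1 h2 h => hp ?_
        have h' := congrArg Fin.val h
        rw [i_inr k _ (h1.resolve_right (by decide)), i_inr k _ (h2.resolve_right (by decide))] at h'
        exact Fin.ext (by omega)
    · rintro (⟨k, x⟩ | k) (⟨l, y⟩ | l) hkl a b
      · by_cases hk : k = l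
        · subst hk
          fin_cases x <;> fin_cases y
          · exact absurd rfl hkl
          · exact hwith _ (hinj k) a b
          · rw [b_comm]; exact hwith _ (hinj k) b a
          · exact absurd rfl hkl
        refine hfar _ _ _ _ a b fun p p' _ _ h => hk ?_
        have h' := congrArg Fin.val h
        rw [i_inl, i_inl] at h'
        dsimp only at h'
        exact Fin.ext (by omega)
      · refine hfar _ _ _ _ a b fun p p' _ hp' h => ?_
        have h' := congrArg Fin.val h
        rw [i_inl, i_inr l _ (hp'.resolve_right (by decide))] at h'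
        dsimp only at h'
        have := k.2
        omega
      · refine hfar _ _ _ _ a b fun p p' hp _ h => ?_
        have h' := congrArg Fin.val h
        rw [i_inl, i_inr k _ (hp.resolve_right (by decide))] at h'
        dsimp only at h'
        have := l.2
        omega
      · exact absurd (show k = l from Fin.ext (by have := k.2; have := l.2; omega)) fun h => hkl (by rw [h])
    · rintro (⟨k, x⟩ | k) a <;> refine ⟨hoff _ _ a _ fun p hp h => ?_, hoff _ _ a _ fun p hp h => ?_⟩
      all_goals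
        have h' := congrArg Fin.val h
      · rw [i_inl] at h'; simp at h'
      · rw [i_inl] at h'; simp at h'; omega
      · rw [i_inr k _ (hp.resolve_right (by decide))] at h'; simp at h'
      · rw [i_inr k _ (hp.resolve_right (by decide))] at h'; simp at h'; omega
  obtain ⟨θ, hθi, hθc, hθm⟩ := exists_five hB F
  have hgen : ∀ a, θ a ∈ KG Q := fun a => (Subgroup.closure_le _).2 (by
    rintro _ ⟨x, y, p, p', hp, hp', hx, hy, rfl⟩
    exact mul_mem (Subgroup.subset_closure ((Fischer.norm_one_iff one_ne_zero x).2 ⟨p, hp, hx⟩))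
      (Subgroup.subset_closure ((Fischer.norm_one_iff one_ne_zero y).2 ⟨p', hp', hy⟩))) (hθm a)
  let θK := θ.codRestrict (KG Q) hgen
  have hmem : ∀ a, π (θK a) ∈ commutator (HG Q) := fun a => by
    have hle : Subgroup.closure
        {x : Grp Q | ∃ r s v w, Q v = 1 ∧ Q w = 1 ∧ IsRefl v r ∧ IsRefl w s ∧ x = r * s} ≤
        ((commutator (HG Q)).comap π).map (KG Q).subtype := by
      rw [Subgroup.closure_le]
      rintro _ ⟨x, y, p, p', hp, hp', hx, hy, rfl⟩
      have hxK : x ∈ KG Q := Subgroup.subset_closure ((Fischer.norm_one_iff one_ne_zero x).2 ⟨p, hp, hx⟩)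
      have hyK : y ∈ KG Q := Subgroup.subset_closure ((Fischer.norm_one_iff one_ne_zero y).2 ⟨p', hp', hy⟩)
      refine ⟨⟨x, hxK⟩ * ⟨y, hyK⟩, ?_, rfl⟩
      show π (⟨x, hxK⟩ * ⟨y, hyK⟩) ∈ commutator (HG Q)
      rw [map_mul]
      exact mul_mem_commutator hcls (eg_mem hp hx) (eg_mem hp' hy)
    obtain ⟨z, hz, hz'⟩ := hle (hθm a)
    rw [show θK a = z from Subtype.ext hz'.symm]
    exact hz
  let ω : ((Fin q × Fin 2) ⊕ Fin t → Multiplicative (ZMod 5)) →* commutator (HG Q) :=
    φ.toMonoidHom.comp ((π.comp θK).codRestrict _ hmem)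
  have h5 : ∀ a : (Fin q × Fin 2) ⊕ Fin t → Multiplicative (ZMod 5), a ^ 5 = 1 :=
    fun a => funext fun k => five_exp (a k)
  have hωi : Function.Injective ω := φ.injective.comp ((injective_iff_map_eq_one _).2 fun a ha => by
    have hz : θK a ∈ Subgroup.center ↥(KG Q) := (QuotientGroup.eq_one_iff _).1 (congrArg Subtype.val ha)
    have h2 : θK a ^ 2 = 1 := by rw [pow_two]; exact kg_center_sq hB hn hz
    have h1 : θK a = θK a ^ 5 * (θK a ^ 2)⁻¹ * (θK a ^ 2)⁻¹ := by group
    rw [h2, ← map_pow, h5, map_one, inv_one, mul_one, mul_one] at h1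
    exact hθi (by rw [map_one]; exact congrArg Subtype.val h1))
  obtain ⟨ω', hω', hωc⟩ := exists_lift_five (QuotientGroup.mk'_surjective (Subgroup.center ↥(KG Q)))
    (fun z hz => ⟨kg_center_sq hB hn ((QuotientGroup.eq_one_iff z).1 hz),
      fun x => (Subgroup.mem_center_iff.1 ((QuotientGroup.eq_one_iff z).1 hz) x).symm⟩)
    ((commutator (HG Q)).subtype.comp ω) h5
  have hcomm : ∀ a, Commute g (ω' a) := hωc g fun a => by
    have h : Commute w ((π.comp θK).codRestrict _ hmem a) := Subtype.ext (by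
      show (w : HG Q) * π (θK a) = π (θK a) * (w : HG Q)
      rw [hw]
      have hc : Commute (r * s) (θK a) := Subtype.ext (by
        exact (((hθc a r (Or.inl hr)).symm.mul_left (hθc a s (Or.inr hs)).symm)).eq)
      exact (hc.map π).eq)
    rw [hg]
    exact (h.map φ.toMonoidHom).map (commutator (HG Q)).subtype
  let ρ := (grpEnd Q).comp ((KG Q).subtype.comp ω')
  have hρi : Function.Injective ρ := (grpEnd_injective Q).comp (Subtype.val_injective.comp fun a b h =>
    hωi (Subtype.ext (by
      have := congrArg π h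
      rwa [hω', hω'] at this)))
  have ctx : FiveCtx (QuadraticMap.polarBilin Q) (grpEnd Q (g : Grp Q)) ρ :=
    { dvd := fun d hd => by
        have h1 := Nat.div_add_mod d 4
        rcases (by omega : d % 4 = 0 ∨ d % 4 = 1 ∨ d % 4 = 2 ∨ d % 4 = 3) with h | h | h | h
        · exact Nat.dvd_of_mod_eq_zero h
        all_goals
          exfalso
          have h5 : (81 : ℕ) ^ (d / 4) % 5 = 1 := by rw [Nat.pow_mod]; norm_num
          have hpos : 1 ≤ (81 : ℕ) ^ (d / 4) := Nat.one_le_pow _ _ (by norm_num)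
          rw [← h1, h, pow_add, pow_mul] at hd
          norm_num at hd
          omega
      p_sq := by norm_num
      five := by decide
      exp := h5
      pres := fun a x y => ap_b _ x y
      comm := fun a => ((hcomm a).map (KG Q).subtype).map (grpEnd Q)
      g_pres := fun x y => ap_b _ x y
      g_sq := fun x hx => by
        have h : -x = x := (X'.sq x).symm.trans hx
        funext i
        have hk : ∀ t : ZMod 3, -t = t → t = 0 := by decide
        exact hk _ (congrFun h i)
      g_pow := by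
        have h4 : (g : Grp Q) * g * (g * g) = 1 := ext_ap fun x => by
          rw [ap_mul, ap_mul, ap_mul, X'.sq, X'.sq, neg_neg, ap_one]
        rw [← map_pow, show (g : Grp Q) ^ 3 ^ 2 = g * g * (g * g) * ((g * g) * (g * g)) * g by
          simp [pow_succ, mul_assoc], h4, one_mul, one_mul] }
  have hreg : Reg (QuadraticMap.polarBilin Q) ⊤ := fun x _ h => hB x fun y => h y trivial
  have hb := ctx.card_le hreg hρi
  rw [Module.finrank_fintype_fun_eq_card, Nat.card_pi, Finset.prod_const, Finset.card_univ, Fintype.card_sum,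
    Fintype.card_prod, Fintype.card_fin, Fintype.card_fin, Fintype.card_fin] at hb
  rw [show Nat.card (Multiplicative (ZMod 5)) = 5 by simp, ← pow_mul] at hb
  have hle := (Nat.pow_le_pow_iff_right (by norm_num)).1 hb
  have hq1 : 1 ≤ q := by omega
  have hlt : (2 * m - 2) % 8 < 8 := Nat.mod_lt _ (by norm_num)
  have hdm := Nat.div_add_mod (2 * m - 2) 8
  rw [← hq] at hdm
  generalize (2 * m - 2) % 8 = ρ' at ht hlt hdm
  interval_cases ρ' <;> omega

end CfsgLib.Discon
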