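import Cfsg.Agent.Lib.Discon.CaseOThree

/-!
The conclusion for reflections of norm one over the field with three elements.
-/

set_option autoImplicit false
set_option linter.style.haveILetI false
set_option linter.unusedSectionVars false

namespace CfsgLib.Discon

open Cfsg CfsgLib.Orth
open CfsgLib.FischerClass CfsgLib.ThreeTransp

theorem count_six : Nat.card {a : Fin 3 → ZMod 3 × ZMod 3 //
    ∑ k, ((a k).1 * (a k).1 + (a k).2 * (a k).2) = 1} = 252 := by
  rw [Nat.card_eq_fintype_card]
  decide +kernel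

theorem inv_two : (2 : ZMod 3) ≠ 0 := by decide

variable {ι : Type} [Fintype ι] [DecidableEq ι] {Q : QuadraticForm (ZMod 3) (ι → ZMod 3)}

local notation "B" => QuadraticMap.polar (DFunLike.coe Q)

variable (hB : Nondeg Q) (hn : 5 ≤ Fintype.card ι)
include hB hn

/-- The derived subgroup of the projective reflection group. -/
theorem hg_derived_iso : Nonempty (commutator (HG Q) ≃* Cfsg.POmega (ZMod 3) ⇑Q) := by
  have hn' : 5 ≤ Module.finrank (ZMod 3) (ι → ZMod 3) := by rwa [Module.finrank_fintype_fun_eq_card]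
  set π := QuotientGroup.mk' (Subgroup.center ↥(KG Q))
  set K' := commutator ↥(KG Q)
  have hmap : K'.map π = commutator (HG Q) := by
    rw [show K' = ⁅⊤, ⊤⁆ from commutator_def _, Subgroup.map_commutator,
      Subgroup.map_top_of_surjective π (QuotientGroup.mk'_surjective _), ← commutator_def]
  let ψ : K' →* commutator (HG Q) := (MulEquiv.subgroupCongr hmap).toMonoidHom.comp (π.subgroupMap K')
  have hψ : Function.Surjective ψ :=
    (MulEquiv.subgroupCongr hmap).surjective.comp (π.subgroupMap_surjective K')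
  have hval : ∀ x, (ψ x : HG Q) = π x := fun x => rfl
  have hkψ : ψ.ker = Subgroup.center K' := by
    ext x
    constructor
    · intro hx
      refine Subgroup.mem_center_iff.2 fun y => Subtype.ext ?_
      have hz : (x : ↥(KG Q)) ∈ Subgroup.center ↥(KG Q) :=
        (QuotientGroup.eq_one_iff _).1 (congrArg Subtype.val (MonoidHom.mem_ker.1 hx))
      exact Subgroup.mem_center_iff.1 hz (y : ↥(KG Q))
    intro hx
    have hN : Group.IsSolvable ↥((Subgroup.center K').map K'.subtype) := by
      haveI : Group.IsSolvable (Subgroup.center K') :=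
        isSolvable_of_comm fun a b => Subtype.ext (Subgroup.mem_center_iff.1 b.2 a)
      exact solvable_of_surjective (K'.subtype.subgroupMap_surjective _)
    haveI : ((Subgroup.center K').map K'.subtype).Normal := PSolvable.normal_map_of_characteristic K' _
    refine MonoidHom.mem_ker.2 (Subtype.ext ?_)
    rw [hval, Subgroup.coe_one]
    exact (QuotientGroup.eq_one_iff _).2 (Fischer.solvable_normal_le_center hB hn' one_ne_zero hN ⟨x, hx, rfl⟩)
  let e₁ : commutator (HG Q) ≃* ↥K' ⧸ Subgroup.center ↥K' :=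
    ((QuotientGroup.quotientMulEquivOfEq hkψ.symm).trans
      (QuotientGroup.quotientKerEquivOfSurjective ψ hψ)).symm
  let E : ↥K' ≃* ↥(Cfsg.Omega (ZMod 3) ⇑Q) :=
    (Subgroup.equivMapOfInjective _ _ (Subgroup.subtype_injective _)).trans
      (MulEquiv.subgroupCongr (Fischer.map_commutator_reflectionSubgroup hB hn' one_ne_zero))
  have hE : (Subgroup.center ↥K').map E.toMonoidHom = Subgroup.center ↥(Cfsg.Omega (ZMod 3) ⇑Q) := by
    refine le_antisymm ?_ fun z hz => ⟨E.symm z, ?_, E.apply_symm_apply z⟩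
    · rintro _ ⟨z, hz, rfl⟩
      exact Subgroup.mem_center_iff.2 fun y => by
        obtain ⟨y, rfl⟩ := E.surjective y
        exact (map_mul E y z).symm.trans ((congrArg E (Subgroup.mem_center_iff.1 hz y)).trans (map_mul E z y))
    · exact Subgroup.mem_center_iff.2 fun y => E.injective (by
        rw [map_mul, map_mul, E.apply_symm_apply]
        exact Subgroup.mem_center_iff.1 hz _)
  exact ⟨e₁.trans (QuotientGroup.congr _ _ E hE)⟩

variable {φ : commutator (HG Q) ≃* commutator (HG Q)}

/-- An orthogonal pair of norm one exists, with a lift squaring to minus one. -/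
theorem IsTwist.exists_pairs (hφ : IsTwist (EG Q) φ) :
    ∃ g : Grp Q, Imag g ∧ ∃ m, Fintype.card ι = 2 * m ∧ ∃ f : Fin m → (ι → ZMod 3), Pairs g f := by
  have hcls := eg_class hB hn
  obtain ⟨T, M⟩ := exists_model hB hn
  obtain ⟨c, hc, -⟩ := hcls.2.1
  obtain ⟨u, hu, -⟩ := M.surj c hc
  obtain ⟨v, hv, hv1⟩ : ∃ v, B u v = 0 ∧ Q v = 1 := by
    set W := orth Q (Submodule.span (ZMod 3) (({u} : Finset (ι → ZMod 3)) : Set (ι → ZMod 3))) with hW
    have huu : B u u ≠ 0 := by rw [b_self, hu]; decide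
    have hmem : ∀ y, y ∈ W ↔ B u y = 0 := fun y => by simp [hW, mem_orth_span]
    have hreg : ∀ w ∈ W, (∀ y ∈ W, B w y = 0) → w = 0 := fun w hw h => hB w fun y => by
      have hy : y - (B u y / B u u) • u ∈ W := by
        rw [hmem, b_sub_right, b_smul_right, div_mul_cancel₀ _ huu, sub_self]
      have := h _ hy
      rwa [b_sub_right, b_smul_right, b_comm w u, (hmem w).1 hw, mul_zero, sub_zero] at this
    by_contra hno
    push Not at hno
    have hd := finrank_orth_span hB {u}
    rw [← hW, Module.finrank_fintype_fun_eq_card, Finset.card_singleton] at hd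
    rcases line_of_no_norm_one hB hreg (fun w hw => hno w ((hmem w).1 hw)) with h | ⟨a, -, h⟩
    · rw [h, finrank_bot] at hd; omega
    · rw [h] at hd
      have : Module.finrank (ZMod 3) (Submodule.span (ZMod 3) ({a} : Set (ι → ZMod 3))) ≤ 1 :=
        (finrank_span_le_card _).trans (by simp)
      omega
  obtain ⟨-, -, -, g, -, -, -, -, -, X⟩ := hφ.imag hB hn hu hv1 hv
  obtain ⟨m, hm, f, P⟩ := X.pairs hB hn
  exact ⟨_, X, m, hm, f, P⟩

theorem IsTwist.not_six (hφ : IsTwist (EG Q) φ) (h6 : Fintype.card ι = 6) : False := by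
  classical
  have hcls := eg_class hB hn
  obtain ⟨T, M⟩ := exists_model hB hn
  obtain ⟨g, X, m, hm, f, P⟩ := hφ.exists_pairs hB hn
  obtain rfl : m = 3 := by omega
  -- three members commuting in pairs
  have hd : ∀ u v, Q u = 1 → Q v = 1 → B u v = 0 → T u ≠ T v := fun u v hu hv huv h => by
    obtain ⟨c, hc⟩ := (M.inj u v hu hv).1 h
    have h1 := congrArg (B u) hc
    rw [b_smul_right, huv, mul_zero, b_self, hu, mul_one] at h1
    exact inv_two h1.symm
  have hq : Q (ap g (f 0)) = 1 := by rw [ap_q, P.norm]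
  have h4 := hφ.four_dvd hcls (M.mem _ (P.norm 0)) (M.mem _ hq) (M.mem _ (P.norm 1))
    (hd _ _ (P.norm 0) hq (P.vw 0 0)) (hd _ _ (P.norm 0) (P.norm 1) (P.vv 0 1 (by decide)))
    (hd _ _ hq (P.norm 1) (Pairs.wv X P 0 1))
    ((M.comm _ _ (P.norm 0) hq).2 (Or.inl (P.vw 0 0)))
    ((M.comm _ _ (P.norm 0) (P.norm 1)).2 (Or.inl (P.vv 0 1 (by decide))))
    ((M.comm _ _ hq (P.norm 1)).2 (Or.inl (Pairs.wv X P 0 1)))
  obtain ⟨E, hE⟩ := Pairs.equiv X P (Fintype.card_fin 3) hm
  have hS : Nat.card {v : ι → ZMod 3 // Q v = 1} = 252 := by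
    rw [← count_six]
    refine Nat.card_congr ((E.toEquiv.subtypeEquiv fun a => ?_).symm)
    show _ ↔ Q (E a) = 1
    rw [hE, Pairs.q_map X P]
  haveI : Fintype (HG Q) := Fintype.ofFinite _
  set S : Finset (ι → ZMod 3) := {v | Q v = 1} with hSdef
  have hSc : S.card = 252 := by
    rw [← hS, Nat.card_eq_fintype_card, Fintype.card_subtype]
  have himg : S.image T = (EG Q).toFinite.toFinset := by
    ext y
    simp only [S, Finset.mem_image, Finset.mem_filter, Finset.mem_univ, true_and, Set.Finite.mem_toFinset]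
    exact ⟨fun ⟨v, hv, e⟩ => e ▸ M.mem v hv, fun hy => M.surj y hy⟩
  have hfib : ∀ y ∈ S.image T, (S.filter fun v => T v = y).card = 2 := by
    intro y hy
    obtain ⟨v, hv, rfl⟩ := Finset.mem_image.1 hy
    simp only [S, Finset.mem_filter, Finset.mem_univ, true_and] at hv
    have hne : v ≠ -v := fun e => by
      have h1 := congrArg (B v) e
      rw [← neg_one_smul (ZMod 3) v, b_smul_right, b_self, hv] at h1
      exact absurd h1 (by decide)
    rw [← Finset.card_pair hne]
    congr 1
    ext w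
    simp only [S, Finset.mem_filter, Finset.mem_univ, true_and, Finset.mem_insert, Finset.mem_singleton]
    constructor
    · rintro ⟨hw, e⟩
      obtain ⟨c, rfl⟩ := (M.inj w v hw hv).1 e
      rcases three_cases c with rfl | rfl | rfl
      · rw [zero_smul, QuadraticMap.map_zero] at hw; exact absurd hw zero_ne_one
      · exact Or.inl (one_smul _ v)
      · exact Or.inr (neg_one_smul _ v)
    · rintro (rfl | rfl)
      · exact ⟨hv, rfl⟩
      · exact ⟨by rw [QuadraticMap.map_neg, hv],
          (M.inj _ v (by rw [QuadraticMap.map_neg, hv]) hv).2 ⟨-1, neg_one_smul _ v⟩⟩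
  have hsum := Finset.card_eq_sum_card_image T S
  rw [Finset.sum_congr rfl hfib, Finset.sum_const, himg, ← Set.ncard_eq_toFinset_card _, hSc, smul_eq_mul] at hsum
  omega

theorem othree_goal (hφ : IsTwist (EG Q) φ) : Goal (EG Q) := by
  have hcls := eg_class hB hn
  rcases hφ.dim_six_eight hB hn with h | h8
  · exact (hφ.not_six hB hn h).elim
  obtain ⟨g, X, m, hm, f, P⟩ := hφ.exists_pairs hB hn
  obtain rfl : m = 4 := by omega
  obtain ⟨E, hE⟩ := Pairs.equiv X P (Fintype.card_fin 4) hm
  obtain ⟨η⟩ := hg_derived_iso hB hn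
  have hT : Nonempty (POmega (ZMod 3) ⇑Q ≃* POmega (ZMod 3) (quadFormPlus 4 (ZMod 3))) := by
    let T : (Fin 4 ⊕ Fin 4 → ZMod 3) →ₗ[ZMod 3] (Fin 4 → ZMod 3 × ZMod 3) :=
      { toFun := fun x => ![
          (x (.inl 0) + x (.inr 0) + 2 * x (.inr 1), x (.inl 0) + x (.inr 0) + 2 * x (.inl 1)),
          (x (.inl 0) + x (.inl 1) + x (.inr 1), x (.inr 0) + x (.inl 1) + x (.inr 1)),
          (x (.inl 2) + x (.inr 2) + 2 * x (.inr 3), x (.inl 2) + x (.inr 2) + 2 * x (.inl 3)),
          (x (.inl 2) + x (.inl 3) + x (.inr 3), x (.inr 2) + x (.inl 3) + x (.inr 3))]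
        map_add' := fun x y => by
          funext k; fin_cases k <;> simp [Prod.ext_iff] <;> constructor <;> ring
        map_smul' := fun c x => by
          funext k; fin_cases k <;> simp [Prod.ext_iff] <;> constructor <;> ring }
    have hq : ∀ x, Q (E (T x)) = quadFormPlus 4 (ZMod 3) x := by
      intro x
      rw [hE, Pairs.q_map X P]
      simp only [T, LinearMap.coe_mk, AddHom.coe_mk, Fin.sum_univ_four, quadFormPlus]
      dsimp
      generalize x (.inl 0) = a0, x (.inl 1) = a1, x (.inl 2) = a2, x (.inl 3) = a3, x (.inr 0) = b0,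
        x (.inr 1) = b1, x (.inr 2) = b2, x (.inr 3) = b3
      have key : ∀ a0 a1 b0 b1 : ZMod 3,
          (a0 + b0 + 2 * b1) * (a0 + b0 + 2 * b1) + (a0 + b0 + 2 * a1) * (a0 + b0 + 2 * a1) +
          ((a0 + a1 + b1) * (a0 + a1 + b1) + (b0 + a1 + b1) * (b0 + a1 + b1)) = a0 * b0 + a1 * b1 := by
        decide +kernel
      linear_combination key a0 a1 b0 b1 + key a2 a3 b2 b3
    obtain ⟨R, hR, hRB⟩ := exists_quadForm_plus (F := ZMod 3) 4
    have hinj : Function.Injective (E.toLinearMap.comp T) := by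
      refine (injective_iff_map_eq_zero _).2 fun x hx => hRB x fun y => ?_
      have e : ∀ z, R z = Q (E (T z)) := fun z => by rw [hq, hR]
      change E (T x) = 0 at hx
      simp only [QuadraticMap.polar, e, map_add, hx, QuadraticMap.map_zero, zero_add, sub_zero, sub_self]
    let F := (LinearMap.linearEquivOfInjective (E.toLinearMap.comp T) hinj (by
      rw [Module.finrank_fintype_fun_eq_card, Module.finrank_fintype_fun_eq_card, h8]; rfl)).symm
    have hF : ∀ v, quadFormPlus 4 (ZMod 3) (F v) = Q v := fun v => by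
      rw [← hq]
      exact congrArg (⇑Q) ((LinearMap.linearEquivOfInjective _ hinj _).apply_symm_apply v)
    refine FischerTypes.pomega_congr (LinearMap.toMatrix' F.toLinearMap) (LinearMap.toMatrix' F.symm.toLinearMap)
      (by rw [← LinearMap.toMatrix'_comp]; simp) (by rw [← LinearMap.toMatrix'_comp]; simp) fun v => ?_
    rw [LinearMap.toMatrix'_mulVec]
    exact hF v
  obtain ⟨η'⟩ := hT
  refine ⟨Or.inr ⟨η.trans η'⟩, ?_⟩
  set π := QuotientGroup.mk' (Subgroup.center ↥(KG Q))
  obtain ⟨r, s, w, -, hr, hs, hne, hw, -, -⟩ := hφ.imag hB hn (P.norm 0) (P.norm 1) (P.vv 0 1 (by decide))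
  have hrC := eg_mem (P.norm 0) hr
  have hsC := eg_mem (P.norm 1) hs
  have hcom : Commute (π r) (π s) := by
    have : Commute r s := Subtype.ext (refl_commute hr hs (P.vv 0 1 (by decide))).eq
    exact this.map π
  refine ⟨w, π r, π s, π r, hrC, hsC, hrC, hne, by rw [hw, map_mul], by
    rw [hw, map_mul]; exact (Commute.refl (π r)).mul_right hcom, fun ψ hψ => ?_⟩
  have hX : ∀ i, ∃ gi : ↥(KG Q), π gi = ((ψ i w : commutator (HG Q)) : HG Q) ∧ Imag (gi : Grp Q) := by
    intro i
    obtain ⟨r', s', w', gi, hr', hs', -, hw', hg, X'⟩ := (hψ i).imag hB hn (P.norm 0) (P.norm 1) (P.vv 0 1 (by decide))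
    obtain rfl : r' = r := Subtype.ext (refl_unique hr' hr)
    obtain rfl : s' = s := Subtype.ext (refl_unique hs' hs)
    obtain rfl : w' = w := Subtype.ext (hw'.trans hw.symm)
    exact ⟨gi, hg, X'⟩
  choose gi hgi hXi using hX
  obtain ⟨a, haK, ha⟩ := (hXi 0).conj hB hn (hXi 1)
  obtain ⟨b, hbK, hb⟩ := (hXi 0).conj hB hn (hXi 2)
  set a' : HG Q := π ⟨a, haK⟩
  set b' : HG Q := π ⟨b, hbK⟩
  have ha' : ((ψ 1 w : commutator (HG Q)) : HG Q) = a' * ((ψ 0 w : commutator (HG Q)) : HG Q) * a'⁻¹ := by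
    rw [← hgi, ← hgi, ← map_inv, ← map_mul, ← map_mul]
    exact congrArg π (Subtype.ext ha.symm)
  have hb' : ((ψ 2 w : commutator (HG Q)) : HG Q) = b' * ((ψ 0 w : commutator (HG Q)) : HG Q) * b'⁻¹ := by
    rw [← hgi, ← hgi, ← map_inv, ← map_mul, ← map_mul]
    exact congrArg π (Subtype.ext hb.symm)
  have hidx := index_le_two_of_commutator_le hcls (le_refl (commutator (HG Q)))
  rcases two_of_three hidx (a := a') (b := b') with h | h | h
  · exact ⟨0, 1, by decide, ⟨a', h⟩, Subtype.ext ha'⟩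
  · exact ⟨0, 2, by decide, ⟨b', h⟩, Subtype.ext hb'⟩
  · refine ⟨1, 2, by decide, ⟨_, h⟩, Subtype.ext ?_⟩
    simp only [Subgroup.coe_mul, InvMemClass.coe_inv]
    rw [hb', ha']
    group

end CfsgLib.Discon
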