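import Mathlib

/-!
Two transitive actions with the same image on a strongly regular graph, tied by a nonzero invariant
matrix: a non-principal eigenspace then has the same character in both.
-/

set_option autoImplicit false
set_option linter.unusedSectionVars false

namespace CfsgLib.Discon

open Matrix

variable {V I : Type*} [Fintype V] [DecidableEq V]

/-- The all one matrix. -/
abbrev oneM : Matrix V V ℚ := Matrix.of fun _ _ => 1

/-- Invariance of a matrix under two actions. -/
def InvM (p q : I → Equiv.Perm V) (X : Matrix V V ℚ) : Prop := ∀ i x y, X (p i x) (q i y) = X x y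

theorem InvM.mul {p q r : I → Equiv.Perm V} {X Y : Matrix V V ℚ} (hX : InvM p q X) (hY : InvM q r Y) :
    InvM p r (X * Y) := fun i x z => by
  simp only [Matrix.mul_apply]
  rw [← Equiv.sum_comp (q i)]
  simp only [hX i, hY i]

theorem InvM.transpose {p q : I → Equiv.Perm V} {X : Matrix V V ℚ} (hX : InvM p q X) : InvM q p Xᵀ :=
  fun i x y => hX i y x

theorem invM_comb {p : I → Equiv.Perm V} {A : Matrix V V ℚ} (hA : InvM p p A) (a b c : ℚ) :
    InvM p p (a • (1 : Matrix V V ℚ) + b • A + c • oneM) := fun i x y => by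
  simp [hA i, Matrix.one_apply]

/-- The trace of a permutation times a matrix. -/
def permTr (σ : Equiv.Perm V) (X : Matrix V V ℚ) : ℚ := ∑ x, X (σ x) x

theorem permTr_comb (σ : Equiv.Perm V) (A : Matrix V V ℚ) (a b c : ℚ) :
    permTr σ (a • (1 : Matrix V V ℚ) + b • A + c • oneM) =
      a * ({x | σ x = x} : Finset V).card + b * permTr σ A + c * Fintype.card V := by
  simp only [permTr, Matrix.add_apply, Matrix.smul_apply, smul_eq_mul, Finset.sum_add_distrib,
    ← Finset.mul_sum, Matrix.of_apply, mul_one, Matrix.one_apply, Finset.sum_boole, Finset.sum_const,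
    Finset.card_univ, nsmul_eq_mul]
  ring

/-- The hypotheses. -/
structure TwoActions (A : Matrix V V ℚ) (p q : I → Equiv.Perm V) (N k e f m m' : ℚ) : Prop where
  card : (Fintype.card V : ℚ) = N
  inv : InvM p p A
  symm : Aᵀ = A
  comm : ∀ X : Matrix V V ℚ, InvM p p X →
    ∃ a b c : ℚ, X = a • (1 : Matrix V V ℚ) + b • A + c • oneM
  same : ∀ i, ∃ j, q j = p i
  row : A * oneM = k • oneM
  quad : ∃ μ : ℚ, A * A = (e + f) • A + (-(e * f)) • (1 : Matrix V V ℚ) + μ • oneM ∧
    (k - e) * (k - f) = μ * N
  diag : Matrix.trace A = 0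
  npos : N ≠ 0
  hef : e ≠ f
  hm : m = (-f * N - (k - f)) / (e - f)
  hm' : m' = (-e * N - (k - e)) / (f - e)
  mne : m ≠ m' ∧ m ≠ 0 ∧ m' ≠ 0

/-- The projection on the eigenspace of `e`. -/
def proj (A : Matrix V V ℚ) (N k e f : ℚ) : Matrix V V ℚ :=
  (-(f / (e - f))) • (1 : Matrix V V ℚ) + (1 / (e - f)) • A + (-((k - f) / (N * (e - f)))) • oneM

variable {A : Matrix V V ℚ} {p q : I → Equiv.Perm V} {N k e f m m' : ℚ} (T : TwoActions A p q N k e f m m')
include T

theorem TwoActions.swap : TwoActions A p q N k f e m' m where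
  card := T.card
  inv := T.inv
  symm := T.symm
  comm := T.comm
  same := T.same
  row := T.row
  quad := by
    obtain ⟨μ, h1, h2⟩ := T.quad
    exact ⟨μ, by rw [h1, add_comm e f, mul_comm e f], by linarith⟩
  diag := T.diag
  npos := T.npos
  hef := T.hef.symm
  hm := T.hm'
  hm' := T.hm
  mne := ⟨T.mne.1.symm, T.mne.2.2, T.mne.2.1⟩

theorem TwoActions.jj : (oneM : Matrix V V ℚ) * oneM = N • oneM := by
  ext x y
  simp [Matrix.mul_apply, T.card]

theorem TwoActions.row' : oneM * A = k • oneM := by
  have h := congrArg Matrix.transpose T.row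
  rw [Matrix.transpose_mul, Matrix.transpose_smul, T.symm] at h
  exact h

theorem TwoActions.proj_j : proj A N k e f * oneM = 0 := by
  have h1 : e - f ≠ 0 := sub_ne_zero.2 T.hef
  have h2 := T.npos
  simp only [proj, Matrix.add_mul, Matrix.smul_mul, Matrix.one_mul, T.row, T.jj, smul_smul, ← add_smul]
  rw [show -(f / (e - f)) + 1 / (e - f) * k + -((k - f) / (N * (e - f))) * N = 0 by field_simp; ring,
    zero_smul]

theorem TwoActions.proj_a : A * proj A N k e f = e • proj A N k e f := by
  have h1 : e - f ≠ 0 := sub_ne_zero.2 T.hef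
  have h2 := T.npos
  obtain ⟨μ, hq, hμ⟩ := T.quad
  have hμ' : μ = (k - e) * (k - f) / N := by field_simp; linarith
  simp only [proj, Matrix.mul_add, Matrix.mul_smul, Matrix.mul_one, T.row, hq, hμ', smul_add, smul_smul]
  match_scalars <;> field_simp <;> ring

theorem TwoActions.proj_mul {a b c : ℚ} :
    (a • (1 : Matrix V V ℚ) + b • A + c • oneM) * proj A N k e f = (a + b * e) • proj A N k e f := by
  have h : oneM * proj A N k e f = 0 := by
    have h1 := congrArg Matrix.transpose T.proj_j
    rw [Matrix.transpose_mul, Matrix.transpose_zero] at h1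
    have hP : (proj A N k e f)ᵀ = proj A N k e f := by
      simp only [proj, Matrix.transpose_add, Matrix.transpose_smul, Matrix.transpose_one, T.symm]
      rfl
    rw [hP] at h1
    exact h1
  simp only [Matrix.add_mul, Matrix.smul_mul, Matrix.one_mul, T.proj_a, h, smul_zero, add_zero, smul_smul,
    ← add_smul]

theorem TwoActions.proj_symm : (proj A N k e f)ᵀ = proj A N k e f := by
  simp only [proj, Matrix.transpose_add, Matrix.transpose_smul, Matrix.transpose_one, T.symm]
  rfl

theorem TwoActions.proj_sq : proj A N k e f * proj A N k e f = proj A N k e f := by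
  have h1 : e - f ≠ 0 := sub_ne_zero.2 T.hef
  conv_lhs => arg 1; unfold proj
  rw [T.proj_mul, show -(f / (e - f)) + 1 / (e - f) * e = 1 by field_simp; ring, one_smul]

theorem TwoActions.proj_trace : Matrix.trace (proj A N k e f) = m := by
  have h1 : e - f ≠ 0 := sub_ne_zero.2 T.hef
  have h2 := T.npos
  rw [T.hm, proj, Matrix.trace_add, Matrix.trace_add, Matrix.trace_smul, Matrix.trace_smul, Matrix.trace_smul,
    T.diag, Matrix.trace_one, T.card, show Matrix.trace (oneM : Matrix V V ℚ) = N by
      simp [Matrix.trace, T.card]]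
  simp only [smul_eq_mul]
  field_simp
  ring

theorem TwoActions.proj_add : proj A N k e f + proj A N k f e + N⁻¹ • oneM = 1 := by
  have h1 : e - f ≠ 0 := sub_ne_zero.2 T.hef
  have h3 : f - e ≠ 0 := sub_ne_zero.2 T.hef.symm
  have h2 := T.npos
  simp only [proj]
  match_scalars <;> field_simp <;> ring

/-- If the invariant matrix sees the eigenspace of `e`, the two characters agree there. -/
theorem TwoActions.trace_eq {M : Matrix V V ℚ} (hM : InvM q p M) (hMJ : oneM * M = 0)
    (hne : M * proj A N k e f ≠ 0) (i : I) :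
    permTr (q i) (proj A N k e f) = permTr (p i) (proj A N k e f) := by
  classical
  set E := proj A N k e f with hE
  set S := M * E with hS
  have hinvE : InvM p p E := invM_comb T.inv _ _ _
  have hinvS : InvM q p S := hM.mul hinvE
  obtain ⟨a₁, b₁, c₁, hMM⟩ := T.comm _ (hM.transpose.mul hM)
  set a := a₁ + b₁ * e
  have hStS : Sᵀ * S = a • E := by
    rw [hS, Matrix.transpose_mul, hE, T.proj_symm, ← hE,
      show E * Mᵀ * (M * E) = E * ((Mᵀ * M) * E) by simp only [Matrix.mul_assoc], hMM, hE, T.proj_mul,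
      Matrix.mul_smul, T.proj_sq]
  have ha : a ≠ 0 := by
    intro h
    refine hne (Matrix.ext fun x y => ?_)
    have h1 := congrFun (congrFun hStS y) y
    rw [h, zero_smul, Matrix.zero_apply] at h1
    simp only [Matrix.mul_apply, Matrix.transpose_apply] at h1
    exact mul_self_eq_zero.1 ((Finset.sum_eq_zero_iff_of_nonneg fun z _ => mul_self_nonneg (S z y)).1 h1 x
      (Finset.mem_univ _))
  have hinvY : InvM p p (S * Sᵀ) := by
    intro j x y
    obtain ⟨l, hl⟩ := T.same j
    rw [← hl]
    exact hinvS.mul hinvS.transpose l x y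
  obtain ⟨a₂, b₂, c₂, hY⟩ := T.comm _ hinvY
  have hSE : S * E = S := by rw [hS, Matrix.mul_assoc, hE, T.proj_sq]
  have hY2 : S * Sᵀ * (S * Sᵀ) = a • (S * Sᵀ) := by
    rw [show S * Sᵀ * (S * Sᵀ) = S * (Sᵀ * S) * Sᵀ by simp only [Matrix.mul_assoc], hStS, Matrix.mul_smul,
      hSE, Matrix.smul_mul]
  have hYJ : oneM * (S * Sᵀ) = 0 := by
    rw [hS, ← Matrix.mul_assoc, ← Matrix.mul_assoc, hMJ, Matrix.zero_mul, Matrix.zero_mul]
  -- the eigenvalues of the product
  set y := a₂ + b₂ * e
  set y' := a₂ + b₂ * f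
  have hYe : S * Sᵀ * E = y • E := by rw [hY, hE, T.proj_mul]
  have hYf : S * Sᵀ * proj A N k f e = y' • proj A N k f e := by rw [hY, T.swap.proj_mul]
  have hYsum : S * Sᵀ = y • E + y' • proj A N k f e := by
    have h0 : S * Sᵀ * oneM = 0 := by
      have h := congrArg Matrix.transpose hYJ
      rw [Matrix.transpose_mul, Matrix.transpose_mul, Matrix.transpose_transpose, Matrix.transpose_zero] at h
      exact h
    conv_lhs => rw [← Matrix.mul_one (S * Sᵀ), ← T.proj_add]
    rw [Matrix.mul_add, Matrix.mul_add, ← hE, hYe, hYf, Matrix.mul_smul, h0, smul_zero, add_zero]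
  have hy : y = 0 ∨ y = a := by
    have h := congrArg (fun X => Matrix.trace (X * E)) hY2
    simp only [Matrix.smul_mul, Matrix.mul_assoc (S * Sᵀ) (S * Sᵀ) E, hYe, Matrix.mul_smul, smul_smul,
      Matrix.trace_smul, smul_eq_mul] at h
    simp only [hE, T.proj_trace] at h
    have h' : y * (y - a) = 0 := by
      have := mul_right_cancel₀ T.mne.2.1 h
      linear_combination this
    rcases mul_eq_zero.1 h' with h'' | h''
    · exact Or.inl h''
    · exact Or.inr (sub_eq_zero.1 h'')
  have hy' : y' = 0 ∨ y' = a := by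
    have h := congrArg (fun X => Matrix.trace (X * proj A N k f e)) hY2
    simp only [Matrix.smul_mul, Matrix.mul_assoc (S * Sᵀ) (S * Sᵀ) (proj A N k f e), hYf, Matrix.mul_smul,
      smul_smul, Matrix.trace_smul, smul_eq_mul, T.swap.proj_trace] at h
    have h' : y' * (y' - a) = 0 := by
      have := mul_right_cancel₀ T.mne.2.2 h
      linear_combination this
    rcases mul_eq_zero.1 h' with h'' | h''
    · exact Or.inl h''
    · exact Or.inr (sub_eq_zero.1 h'')
  have htr : a * m = y * m + y' * m' := by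
    have h : Matrix.trace (Sᵀ * S) = Matrix.trace (S * Sᵀ) := Matrix.trace_mul_comm _ _
    rw [hStS, hYsum, Matrix.trace_add, Matrix.trace_smul, Matrix.trace_smul, Matrix.trace_smul, hE,
      T.proj_trace, T.swap.proj_trace] at h
    simpa using h
  have hyv : y = a ∧ y' = 0 := by
    rcases hy with h1 | h1 <;> rcases hy' with h2 | h2 <;> rw [h1, h2] at htr
    · exact absurd (mul_eq_zero.1 (show a * m = 0 by linarith)) (not_or.2 ⟨ha, T.mne.2.1⟩)
    · exact absurd (mul_left_cancel₀ ha (show a * m = a * m' by linarith)) T.mne.1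
    · exact ⟨h1, h2⟩
    · exact absurd (mul_eq_zero.1 (show a * m' = 0 by linarith)) (not_or.2 ⟨ha, T.mne.2.2⟩)
  rw [hyv.1, hyv.2, zero_smul, add_zero] at hYsum
  -- the traces
  refine mul_left_cancel₀ ha ?_
  have l1 : a * permTr (q i) E = permTr (q i) (S * Sᵀ) := by
    rw [hYsum]; simp [permTr, Finset.mul_sum]
  have l2 : a * permTr (p i) E = permTr (p i) (Sᵀ * S) := by
    rw [hStS]; simp [permTr, Finset.mul_sum]
  rw [l1, l2]
  simp only [permTr, Matrix.mul_apply, Matrix.transpose_apply]
  calc ∑ x, ∑ z, S (q i x) z * S x z = ∑ x, ∑ z, S (q i x) (p i z) * S x (p i z) :=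
        Finset.sum_congr rfl fun x _ => (Equiv.sum_comp (p i) fun z => S (q i x) z * S x z).symm
    _ = ∑ x, ∑ z, S x z * S x (p i z) := by simp only [hinvS i]
    _ = ∑ z, ∑ x, S x (p i z) * S x z := by
        rw [Finset.sum_comm]; simp only [mul_comm]

/-- One of the two characters agrees. -/
theorem TwoActions.some_eq {M : Matrix V V ℚ} (hM : InvM q p M) (hMJ : oneM * M = 0) (hJM : M * oneM = 0)
    (hne : M ≠ 0) (i : I) :
    permTr (q i) (proj A N k e f) = permTr (p i) (proj A N k e f) ∨
      permTr (q i) (proj A N k f e) = permTr (p i) (proj A N k f e) := by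
  by_cases h : M * proj A N k e f = 0
  · refine Or.inr (T.swap.trace_eq hM hMJ (fun h' => hne ?_) i)
    rw [← Matrix.mul_one M, ← T.proj_add, Matrix.mul_add, Matrix.mul_add, h, h', Matrix.mul_smul, hJM]
    simp
  · exact Or.inl (T.trace_eq hM hMJ h i)

end CfsgLib.Discon
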