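import Cfsg.Agent.Lib.Discon.CasePerm
import Cfsg.Agent.Lib.Discon.TwoActions
import Cfsg.Agent.Lib.M24.Facts
import Cfsg.Agent.S5375

/-!
The largest exceptional type has no twist: two characters would have to agree.
-/

set_option autoImplicit false
set_option linter.style.haveILetI false
set_option linter.unusedSectionVars false

namespace CfsgLib.Discon

open Cfsg
open CfsgLib.FischerClass CfsgLib.ThreeTransp CfsgLib.ThreeTransp.Relations
open Matrix

universe u

variable {H : Type u} [Group H] [Finite H] {C : Set H}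

/-- An element or its product with a member lies in the derived subgroup. -/
theorem mem_or_mul_mem (hC : IsThreeTranspositionClass C) (h : H) {c : H} (hc : c ∈ C) :
    h ∈ commutator H ∨ h * c ∈ commutator H := by
  by_cases hh : h ∈ commutator H
  · exact Or.inl hh
  right
  have hidx := index_le_two_of_commutator_le hC (le_refl (commutator H))
  have hc' : c ∉ commutator H := fun hcL => hh (by
    rw [eq_top_of_subset (H := commutator H) hC.2.2 fun e he => by
      obtain ⟨g, rfl⟩ := class_exists_conj hC hc he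
      exact Subgroup.Normal.conj_mem inferInstance c hcL g]
    exact Subgroup.mem_top h)
  have h2 : (commutator H).index = 2 := by
    have h0 := Nat.pos_of_ne_zero (Subgroup.index_ne_zero_of_finite (H := commutator H))
    rcases (by omega : (commutator H).index = 1 ∨ (commutator H).index = 2) with h1 | h1
    · exact absurd (Subgroup.index_eq_one.1 h1 ▸ Subgroup.mem_top h) hh
    · exact h1
  exact (Subgroup.mul_mem_iff_of_index_two h2).2 (iff_of_false hh hc')

/-- Counting in a subtype. -/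
theorem card_sub [Fintype ↥C] (Q : ↥C → Prop) [DecidablePred Q] (S : Set H)
    (h : ∀ x, x ∈ S ↔ ∃ hx : x ∈ C, Q ⟨x, hx⟩) : ({x | Q x} : Finset ↥C).card = S.ncard := by
  rw [← Set.ncard_coe_finset, ← Set.ncard_image_of_injective _ Subtype.val_injective]
  congr 1
  ext x
  simp [h]

variable (X : Ctx C)
include X

/-- The derived subgroup is transitive. -/
theorem derived_trans {x y : H} (hx : x ∈ C) (hy : y ∈ C) : ∃ l ∈ commutator H, l * x * l⁻¹ = y := by
  obtain ⟨g, hg⟩ := X.exists_conj hx hy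
  rcases mem_or_mul_mem X.cls g hx with h | h
  · exact ⟨g, h, hg⟩
  · exact ⟨g * x, h, by rw [← hg]; group⟩

/-- The derived subgroup is transitive on commuting pairs. -/
theorem derived_trans_commute {x y x' y' : H} (hx : x ∈ C) (hy : y ∈ C) (hx' : x' ∈ C) (hy' : y' ∈ C)
    (hne : x ≠ y) (hne' : x' ≠ y') (hc : Commute x y) (hc' : Commute x' y') :
    ∃ l ∈ commutator H, l * x * l⁻¹ = x' ∧ l * y * l⁻¹ = y' := by
  obtain ⟨g, hg⟩ := X.exists_conj hx hx'
  have hy1 : g * y * g⁻¹ ∈ C := X.hc g y hy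
  have hc1 : Commute x' (g * y * g⁻¹) := hg ▸ (commute_conjBy g x y).2 hc
  have hne1 : g * y * g⁻¹ ≠ x' := fun e => hne (mul_left_cancel (mul_right_cancel (hg.trans e.symm)))
  obtain ⟨k, hk, hke⟩ := transitive_commute X.hD X.hprim X.hw hx' hy1 hy' hne1 hne'.symm hc1 hc'
  have hkx : k * x' * k⁻¹ = x' := by rw [(commute_of_mem_perpGroup hk).eq, mul_inv_cancel_right]
  have h1 : k * g * x * (k * g)⁻¹ = x' := by
    rw [show k * g * x * (k * g)⁻¹ = k * (g * x * g⁻¹) * k⁻¹ by group, hg, hkx]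
  have h2 : k * g * y * (k * g)⁻¹ = y' := by rw [← hke]; group
  rcases mem_or_mul_mem X.cls (k * g) hx with h | h
  · exact ⟨_, h, h1, h2⟩
  refine ⟨_, h, ?_, ?_⟩
  · rw [← h1]; group
  · calc k * g * x * y * (k * g * x)⁻¹ = k * g * (x * y * x⁻¹) * (k * g)⁻¹ := by group
      _ = y' := by rw [hc.eq, mul_inv_cancel_right, h2]

/-- Two members that do not commute have a common neighbour, given one such pair. -/
theorem derived_trans_not {x y x' y' : H} (hx : x ∈ C) (hy : y ∈ C) (hx' : x' ∈ C) (hy' : y' ∈ C)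
    (hc : ¬ Commute x y) (hc' : ¬ Commute x' y') :
    ∃ l ∈ commutator H, l * x * l⁻¹ = x' ∧ l * y * l⁻¹ = y' := by
  obtain ⟨h, h1, h2⟩ := X.pair_conj hx hy hx' hy' hc hc'
  rcases mem_or_mul_mem X.cls h hx with hm | -
  · exact ⟨h, hm, h1, h2⟩
  obtain ⟨z, hz, -⟩ := X.cls.2.1
  obtain ⟨w, hw, hne⟩ : ∃ w, w ∈ nbr C z ∧ True := by
    obtain ⟨a, ha, b, hb, hab, hcom⟩ := X.hw
    obtain ⟨g, hg⟩ := X.exists_conj ha hz
    exact ⟨g * b * g⁻¹, ⟨X.hc g b hb, fun e => hab (mul_left_cancel (mul_right_cancel (hg.trans e.symm))),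
      hg ▸ (commute_conjBy g a b).2 hcom⟩, trivial⟩
  obtain ⟨v, hv, hwv⟩ := exists_not_commute_nbr X.cls X.hsep hz hw
  obtain ⟨k, k1, k2⟩ := X.pair_conj hw.1 hv.1 hx hy hwv hc
  set e := k * z * k⁻¹
  have he : e ∈ C := X.hc k z hz
  have hex : Commute e x := k1 ▸ (commute_conjBy k z w).2 hw.2.2
  have hey : Commute e y := k2 ▸ (commute_conjBy k z v).2 hv.2.2
  rcases mem_or_mul_mem X.cls h he with hm | hm
  · exact ⟨h, hm, h1, h2⟩
  refine ⟨_, hm, ?_, ?_⟩
  · calc h * e * x * (h * e)⁻¹ = h * (e * x * e⁻¹) * h⁻¹ := by group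
      _ = x' := by rw [hex.eq, mul_inv_cancel_right, h1]
  · calc h * e * y * (h * e)⁻¹ = h * (e * y * e⁻¹) * h⁻¹ := by group
      _ = y' := by rw [hey.eq, mul_inv_cancel_right, h2]

/-- The counts. -/
theorem m24_counts (ht : IsOfTypeM24 H C) :
    C.ncard = 306936 ∧ (∀ a ∈ C, (nbr C a).ncard = 31671) ∧
      ∀ a ∈ C, ∀ b ∈ nbr C a, (nbr C a ∩ nbr C b).ncard = 3510 := by
  obtain ⟨P, hP⟩ := M24.exists_pre X.hD X.hprim ht
  refine ⟨M24.Pre.D_card hP, fun a ha => ?_, fun a ha b hb => ?_⟩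
  · obtain ⟨ψ, hinj, -, hr⟩ := P.exists_view ha
    rw [← hr, ← Nat.card_coe_set_eq, Nat.card_range_of_injective hinj, Nat.card_fin]
    rfl
  · obtain ⟨ψ, hinj, hcom, hr⟩ := P.exists_view ha
    obtain ⟨p, rfl⟩ := (hr.symm ▸ hb : b ∈ Set.range ψ)
    have himg : nbr C a ∩ nbr C (ψ p) = ψ '' {q | q ≠ p ∧ M24.comB p q = true} := by
      ext w
      constructor
      · rintro ⟨h1, h2⟩
        obtain ⟨q, rfl⟩ := (hr.symm ▸ h1 : w ∈ Set.range ψ)
        exact ⟨q, ⟨fun e => h2.2.1 (by rw [e]), (hcom p q).1 h2.2.2⟩, rfl⟩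
      · rintro ⟨q, ⟨hq, hpq⟩, rfl⟩
        have hm : ψ q ∈ nbr C a := hr ▸ Set.mem_range_self q
        exact ⟨hm, hm.1, fun e => hq (hinj e), (hcom p q).2 hpq⟩
    rw [himg, Set.ncard_image_of_injective _ hinj, M24.near_card]

variable {φ : commutator H ≃* commutator H} (hφ : IsTwist C φ)
include hφ

theorem IsTwist.not_m24 (ht : IsOfTypeM24 H C) : False := by
  classical
  obtain ⟨hN, hk, hl⟩ := m24_counts X ht
  have hS := X.hS
  haveI : Fintype ↥C := Fintype.ofFinite _
  have hcardC : Fintype.card ↥C = 306936 := by rw [← Nat.card_eq_fintype_card]; exact hN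
  let p : commutator H → Equiv.Perm ↥C := fun l => FischerO2.setAct C X.hc (l : H)
  let q : commutator H → Equiv.Perm ↥C := fun l => FischerO2.setAct C X.hc ((φ l : commutator H) : H)
  have hp : ∀ l x, (p l x : H) = (l : H) * x * (l : H)⁻¹ := fun _ _ => rfl
  let adj : ↥C → ↥C → Prop := fun x y => x ≠ y ∧ Commute (x : H) y
  let A : Matrix ↥C ↥C ℚ := Matrix.of fun x y => if adj x y then 1 else 0
  have hadjp : ∀ l x y, adj (p l x) (p l y) ↔ adj x y := fun l x y =>
    and_congr (p l).injective.ne_iff (commute_conjBy (l : H) x y)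
  have hinvA : InvM p p A := fun l x y => by simp only [A, Matrix.of_apply, hadjp]
  have hsymm : Aᵀ = A := by
    ext x y
    simp only [Matrix.transpose_apply, A, Matrix.of_apply, adj]
    exact if_congr (and_congr ne_comm ⟨Commute.symm, Commute.symm⟩) rfl rfl
  -- counting in the graph
  have hdeg : ∀ x : ↥C, ({y : ↥C | adj x y} : Finset ↥C).card = 31671 := fun x => by
    rw [card_sub _ (nbr C (x : H)) fun y => ?_, hk x x.2]
    exact ⟨fun h => ⟨h.1, fun e => h.2.1 (congrArg Subtype.val e).symm, h.2.2⟩,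
      fun ⟨hy, h1, h2⟩ => ⟨hy, fun e => h1 (Subtype.ext e.symm), h2⟩⟩
  have hrow : A * oneM = (31671 : ℚ) • oneM := by
    ext x y
    simp only [A, Matrix.mul_apply, Matrix.of_apply, mul_one, Matrix.smul_apply, smul_eq_mul]
    rw [Finset.sum_boole, hdeg x]
    norm_num
  -- representatives of the three kinds of pairs
  obtain ⟨c, hc, c', hc', hne, hcom⟩ := X.hw
  obtain ⟨e', he', hce'⟩ := exists_not_commute X.cls ⟨c, hc, c', hc', hne⟩ hc
  have hcomm : ∀ Y : Matrix ↥C ↥C ℚ, InvM p p Y →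
      ∃ a b k : ℚ, Y = a • (1 : Matrix ↥C ↥C ℚ) + b • A + k • oneM := by
    intro Y hY
    refine ⟨Y ⟨c, hc⟩ ⟨c, hc⟩ - Y ⟨c, hc⟩ ⟨e', he'⟩, Y ⟨c, hc⟩ ⟨c', hc'⟩ - Y ⟨c, hc⟩ ⟨e', he'⟩,
      Y ⟨c, hc⟩ ⟨e', he'⟩, ?_⟩
    ext x y
    simp only [Matrix.add_apply, Matrix.smul_apply, smul_eq_mul, Matrix.of_apply, Matrix.one_apply, A, mul_one]
    by_cases hxy : x = y
    · subst hxy
      obtain ⟨l, hlL, hl⟩ := derived_trans X hc x.2
      have h1 : p ⟨l, hlL⟩ ⟨c, hc⟩ = x := Subtype.ext hl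
      have h2 : ¬ adj x x := fun h => h.1 rfl
      rw [if_pos rfl, if_neg h2, ← h1, hY]
      ring
    by_cases hcxy : Commute (x : H) y
    · obtain ⟨l, hlL, hl, hl'⟩ := derived_trans_commute X hc hc' x.2 y.2 hne
        (fun e => hxy (Subtype.ext e)) hcom hcxy
      have h1 : p ⟨l, hlL⟩ ⟨c, hc⟩ = x := Subtype.ext hl
      have h1' : p ⟨l, hlL⟩ ⟨c', hc'⟩ = y := Subtype.ext hl'
      rw [if_neg hxy, if_pos (show adj x y from ⟨hxy, hcxy⟩), ← h1, ← h1', hY]
      ring
    · obtain ⟨l, hlL, hl, hl'⟩ := derived_trans_not X hc he' x.2 y.2 hce' hcxy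
      have h1 : p ⟨l, hlL⟩ ⟨c, hc⟩ = x := Subtype.ext hl
      have h1' : p ⟨l, hlL⟩ ⟨e', he'⟩ = y := Subtype.ext hl'
      rw [if_neg hxy, if_neg (fun h : adj x y => hcxy h.2), ← h1, ← h1', hY]
      ring
  have hdiag : Matrix.trace A = 0 := by
    simp [Matrix.trace, A, adj]
  -- the quadratic relation
  have hcommon : (∑ z, A ⟨c, hc⟩ z * A z ⟨c', hc'⟩) = 3510 := by
    have h : ∀ z, A ⟨c, hc⟩ z * A z ⟨c', hc'⟩ = if adj ⟨c, hc⟩ z ∧ adj z ⟨c', hc'⟩ then 1 else 0 := fun z => by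
      simp only [A, Matrix.of_apply]
      by_cases h1 : adj ⟨c, hc⟩ z <;> simp [h1]
    rw [Finset.sum_congr rfl fun z _ => h z, Finset.sum_boole]
    rw [show ({z : ↥C | adj ⟨c, hc⟩ z ∧ adj z ⟨c', hc'⟩} : Finset ↥C).card = 3510 from ?_]
    · norm_num
    rw [card_sub _ (nbr C c ∩ nbr C c') fun z => ?_, hl c hc c' ⟨hc', hne.symm, hcom⟩]
    exact ⟨fun ⟨⟨hz, h1, h2⟩, _, h3, h4⟩ => ⟨hz, ⟨fun e => h1 (congrArg Subtype.val e).symm, h2⟩,
        fun e => h3 (congrArg Subtype.val e), h4.symm⟩,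
      fun ⟨hz, ⟨h1, h2⟩, h3, h4⟩ => ⟨⟨hz, fun e => h1 (Subtype.ext e.symm), h2⟩, hz,
        fun e => h3 (Subtype.ext e), h4.symm⟩⟩
  have hquad : ∃ μ : ℚ, A * A = ((351 : ℚ) + (-81)) • A + (-((351 : ℚ) * (-81))) • (1 : Matrix ↥C ↥C ℚ) + μ • oneM ∧
      (31671 - (351 : ℚ)) * (31671 - (-81)) = μ * 306936 := by
    obtain ⟨a, b, k, h⟩ := hcomm _ (hinvA.mul hinvA)
    have e1 : a + k = 31671 := by
      have h1 := congrFun (congrFun h ⟨c, hc⟩) ⟨c, hc⟩
      have h2 : (A * A) ⟨c, hc⟩ ⟨c, hc⟩ = 31671 := by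
        rw [Matrix.mul_apply, ← Finset.sum_congr rfl fun z _ => show (if adj ⟨c, hc⟩ z then (1 : ℚ) else 0) =
          A ⟨c, hc⟩ z * A z ⟨c, hc⟩ from ?_, Finset.sum_boole, hdeg]
        · norm_num
        have h3 : A z ⟨c, hc⟩ = A ⟨c, hc⟩ z := congrFun (congrFun hsymm ⟨c, hc⟩) z
        rw [h3]
        simp only [A, Matrix.of_apply]
        split_ifs <;> norm_num
      rw [h2] at h1
      simp [A, adj] at h1
      linarith
    have e2 : b + k = 3510 := by
      have h1 := congrFun (congrFun h ⟨c, hc⟩) ⟨c', hc'⟩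
      rw [Matrix.mul_apply, hcommon] at h1
      simp [A, adj, hne, hcom] at h1
      linarith
    have e3 : a + b * 31671 + k * 306936 = 31671 * 31671 := by
      have h0 : A * A * oneM = (a • (1 : Matrix ↥C ↥C ℚ) + b • A + k • oneM) * oneM := by rw [h]
      have h1 := congrFun (congrFun h0 ⟨c, hc⟩) ⟨c, hc⟩
      simp only [Matrix.mul_assoc, hrow, Matrix.mul_smul, Matrix.add_mul, Matrix.smul_mul, Matrix.one_mul,
        Matrix.add_apply, Matrix.smul_apply, Matrix.of_apply, smul_eq_mul, mul_one] at h1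
      rw [show ((oneM : Matrix ↥C ↥C ℚ) * (oneM : Matrix ↥C ↥C ℚ) : Matrix ↥C ↥C ℚ) ⟨c, hc⟩ ⟨c, hc⟩ = 306936 by
        simp [Matrix.mul_apply, hcardC]] at h1
      linarith
    have hk' : k = 3240 := by linarith
    have hb : b = 270 := by linarith
    have ha : a = 28431 := by linarith
    refine ⟨k, ?_, by rw [hk']; norm_num⟩
    rw [h, ha, hb]
    module
  have T : TwoActions A p q 306936 31671 351 (-81) 57477 249458 :=
    { card := by rw [hcardC]; norm_num
      inv := hinvA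
      symm := hsymm
      comm := hcomm
      same := fun l => ⟨φ.symm l, by simp only [p, q, MulEquiv.apply_symm_apply]⟩
      row := hrow
      quad := hquad
      diag := hdiag
      npos := by norm_num
      hef := by norm_num
      hm := by norm_num
      hm' := by norm_num
      mne := by norm_num }
  -- an invariant matrix that is not constant
  let B : Matrix ↥C ↥C ℚ := Matrix.of fun y x => if ∃ l, q l ⟨c, hc⟩ = y ∧ p l ⟨c, hc⟩ = x then 1 else 0
  have hpmul : ∀ l l' x, p (l * l') x = p l (p l' x) := fun l l' x => by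
    simp only [p, Subgroup.coe_mul, map_mul, Equiv.Perm.mul_apply]
  have hqmul : ∀ l l' x, q (l * l') x = q l (q l' x) := fun l l' x => by
    simp only [q, map_mul, Subgroup.coe_mul, Equiv.Perm.mul_apply]
  have hinvB : InvM q p B := fun i y x => by
    simp only [B, Matrix.of_apply]
    refine if_congr ⟨?_, ?_⟩ rfl rfl
    · rintro ⟨l, h1, h2⟩
      refine ⟨i⁻¹ * l, ?_, ?_⟩
      · rw [hqmul, h1, ← hqmul, inv_mul_cancel]; simp [q]
      · rw [hpmul, h2, ← hpmul, inv_mul_cancel]; simp [p]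
    · rintro ⟨l, h1, h2⟩
      exact ⟨i * l, by rw [hqmul, h1], by rw [hpmul, h2]⟩
  have hsumr : ∀ y, ∑ x, B y x = ∑ x, B ⟨c, hc⟩ x := by
    intro y
    obtain ⟨l, hlL, hly⟩ := derived_trans X hc y.2
    have h1 : q (φ.symm ⟨l, hlL⟩) ⟨c, hc⟩ = y := Subtype.ext (by simp only [q, MulEquiv.apply_symm_apply]; exact hly)
    rw [← h1, ← Equiv.sum_comp (p (φ.symm ⟨l, hlL⟩))]
    simp only [hinvB _]
  have hsumc : ∀ x, ∑ y, B y x = ∑ y, B y ⟨c, hc⟩ := by
    intro x
    obtain ⟨l, hlL, hlx⟩ := derived_trans X hc x.2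
    have h1 : p ⟨l, hlL⟩ ⟨c, hc⟩ = x := Subtype.ext hlx
    rw [← h1, ← Equiv.sum_comp (q ⟨l, hlL⟩)]
    simp only [hinvB _]
  set ρ := ∑ x, B ⟨c, hc⟩ x
  set κ := ∑ y, B y ⟨c, hc⟩
  have hκ : κ = ρ := by
    have h1 : ∑ x, ∑ y, B y x = ∑ y, ∑ x, B y x := Finset.sum_comm
    simp only [hsumr, hsumc, Finset.sum_const, Finset.card_univ, hcardC, nsmul_eq_mul] at h1
    push_cast at h1
    linarith
  set M : Matrix ↥C ↥C ℚ := B + (-(ρ / 306936)) • oneM with hM
  have hinvM : InvM q p M := fun i y x => by simp [hM, hinvB i]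
  have hMJ : oneM * M = 0 := by
    ext y x
    simp [hM, Matrix.mul_apply, Finset.sum_add_distrib, hcardC, hsumc, hκ]
    ring
  have hJM : M * oneM = 0 := by
    ext y x
    simp [hM, Matrix.mul_apply, Finset.sum_add_distrib, hcardC, hsumr]
    ring
  have hMne : M ≠ 0 := by
    intro h
    have hconst : ∀ y x, B y x = ρ / 306936 := fun y x => by
      have := congrFun (congrFun h y) x
      simp [hM] at this
      linarith
    have hall : ∀ y x : ↥C, ∃ l, q l ⟨c, hc⟩ = y ∧ p l ⟨c, hc⟩ = x := by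
      intro y x
      by_contra hne'
      have h1 := (hconst y x).trans (hconst ⟨c, hc⟩ ⟨c, hc⟩).symm
      simp only [B, Matrix.of_apply, if_neg hne'] at h1
      rw [if_pos ⟨1, by simp [q], by simp [p]⟩] at h1
      norm_num at h1
    let ψ : commutator H →* Equiv.Perm (↥C × ↥C) :=
      { toFun := fun l => (q l).prodCongr (p l)
        map_one' := Equiv.ext fun z => Prod.ext (by simp [q]) (by simp [p])
        map_mul' := fun l l' => Equiv.ext fun z => Prod.ext (hqmul l l' z.1) (hpmul l l' z.2) }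
    letI : MulAction (commutator H) (↥C × ↥C) := MulAction.compHom _ ψ
    have horb : MulAction.orbit (commutator H) ((⟨c, hc⟩, ⟨c, hc⟩) : ↥C × ↥C) = Set.univ :=
      Set.eq_univ_of_forall fun z => by
        obtain ⟨l, h1, h2⟩ := hall z.1 z.2
        exact ⟨l, Prod.ext h1 h2⟩
    have hdvd : 306936 * 306936 ∣ Nat.card (commutator H) := by
      rw [← hcardC, ← Nat.card_eq_fintype_card, ← Nat.card_prod,
        ← (MulAction.stabilizer (commutator H) ((⟨c, hc⟩, ⟨c, hc⟩) : ↥C × ↥C)).index_mul_card,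
        MulAction.index_stabilizer, horb, Set.ncard_univ]
      exact Dvd.intro _ rfl
    have hH := (Cfsg.Agent.S5375.result X.hD X.hprim ht).2.2.1
    have h2 : 306936 * 306936 ∣ Nat.card H := hdvd.trans (Subgroup.card_subgroup_dvd_card _)
    rw [hH] at h2
    norm_num at h2
  -- the traces of a product of two commuting members
  set u : commutator H := ⟨c * c', mul_mem_commutator X.cls hc hc'⟩ with hu
  have hperm : ∀ (σ : Equiv.Perm ↥C), permTr σ A = (({x : ↥C | adj (σ x) x} : Finset ↥C).card : ℚ) := fun σ => by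
    simp only [permTr, A, Matrix.of_apply]
    rw [Finset.sum_boole]
  have hfixp : ({x : ↥C | p u x = x} : Finset ↥C).card = 3512 := by
    have h1 : ∀ x : ↥C, p u x = x ↔ (Commute (x : H) c ∧ Commute (x : H) c') := fun x => by
      rw [← commute_mul_iff hS hc hc' x.2 hne, Subtype.ext_iff, hp]
      exact ⟨fun h => (mul_inv_eq_iff_eq_mul.1 h).symm, fun h => mul_inv_eq_iff_eq_mul.2 h.symm⟩
    rw [card_sub _ {x | x ∈ C ∧ Commute x c ∧ Commute x c'} fun x =>
      ⟨fun h => ⟨h.1, (h1 ⟨x, h.1⟩).2 h.2⟩, fun ⟨hx, h⟩ => ⟨hx, (h1 ⟨x, hx⟩).1 h⟩⟩]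
    have hset : {x | x ∈ C ∧ Commute x c ∧ Commute x c'} = insert c (insert c' (nbr C c ∩ nbr C c')) := by
      ext x
      simp only [Set.mem_insert_iff, Set.mem_inter_iff, Set.mem_ofPred_eq]
      constructor
      · rintro ⟨hx, h1, h2⟩
        by_cases e1 : x = c
        · exact Or.inl e1
        by_cases e2 : x = c'
        · exact Or.inr (Or.inl e2)
        exact Or.inr (Or.inr ⟨⟨hx, e1, h1.symm⟩, hx, e2, h2.symm⟩)
      · rintro (rfl | rfl | ⟨⟨hx, -, h1⟩, -, -, h2⟩)
        exacts [⟨hc, Commute.refl _, hcom⟩, ⟨hc', hcom.symm, Commute.refl _⟩, ⟨hx, h1.symm, h2.symm⟩]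
    rw [hset, Set.ncard_insert_of_notMem ?_ (Set.toFinite _),
      Set.ncard_insert_of_notMem (fun h => h.2.2.1 rfl) (Set.toFinite _), hl c hc c' ⟨hc', hne.symm, hcom⟩]
    rintro (h | h)
    · exact hne h
    · exact h.1.2.1 rfl
  have hfixq : ({x : ↥C | q u x = x} : Finset ↥C).card = 0 := by
    rw [Finset.card_eq_zero, Finset.filter_eq_empty_iff]
    intro x _ h
    exact hφ.fpf u c hc c' hc' hne rfl x x.2 (mul_inv_eq_iff_eq_mul.1 (congrArg Subtype.val h))
  have hadjq : ({x : ↥C | adj (q u x) x} : Finset ↥C).card = 306936 := by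
    rw [Finset.filter_true_of_mem, Finset.card_univ, hcardC]
    intro x _
    refine ⟨fun e => ?_, (hφ.adj u c hc c' hc' hne hcom rfl x x.2).symm⟩
    exact hφ.fpf u c hc c' hc' hne rfl x x.2 (mul_inv_eq_iff_eq_mul.1 (congrArg Subtype.val e))
  have hadjn : ({x : ↥C | adj (p u x) x} : Finset ↥C).card = 247104 := by
    have hiff : ∀ x : ↥C, adj (p u x) x ↔ ¬ (Commute (x : H) c ∨ Commute (x : H) c') := fun x => by
      have hxx : p u x = x ↔ (Commute (x : H) c ∧ Commute (x : H) c') := by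
        rw [← commute_mul_iff hS hc hc' x.2 hne, Subtype.ext_iff, hp]
        exact ⟨fun h => (mul_inv_eq_iff_eq_mul.1 h).symm, fun h => mul_inv_eq_iff_eq_mul.2 h.symm⟩
      have hval : (p u x : H) = c * (c' * x * c') * c := by
        rw [hp, hu, _root_.mul_inv_rev, inv_eq_self hS hc, inv_eq_self hS hc']; group
      constructor
      · rintro ⟨hn, hxy⟩ hor
        by_cases h1 : Commute (x : H) c
        · have h2 : ¬ Commute (x : H) c' := fun h2 => hn (hxx.2 ⟨h1, h2⟩)
          rw [hval, braid hS hc' x.2 (fun h => h2 h.symm)] at hxy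
          rw [show c * ((x : H) * c' * x) * c = (x : H) * c' * x by
            calc c * ((x : H) * c' * x) * c = c * x * c' * (x * c) := by group
              _ = x * c * c' * (c * x) := by rw [h1.eq]
              _ = x * (c * c' * c) * x := by group
              _ = _ := by rw [conj_eq_of_commute hS hc hcom]] at hxy
          refine h2 ((commute_conj_iff hS x.2 (x : H) c').1 ?_)
          rw [mul_self_eq_one hS x.2, one_mul]
          exact hxy.symm
        · have h2 : Commute (x : H) c' := hor.resolve_left h1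
          rw [hval, conj_eq_of_commute hS hc' h2.symm, braid hS hc x.2 (fun h => h1 h.symm)] at hxy
          refine h1 ((commute_conj_iff hS x.2 (x : H) c).1 ?_)
          rw [mul_self_eq_one hS x.2, one_mul]
          exact hxy.symm
      · intro hor
        rw [not_or] at hor
        refine ⟨fun e => hor.1 (hxx.1 e).1, ?_⟩
        rw [hval, braid hS hc' x.2 (fun h => hor.2 h.symm)]
        -- the conjugate is `(c x c) c' (c x c)`
        rw [show c * ((x : H) * c' * x) * c = (c * x * c) * (c * c' * c) * (c * x * c) by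
          simp only [mul_assoc, mul_self_cancel hS hc], conj_eq_of_commute hS hc hcom,
          braid hS hc x.2 (fun h => hor.1 h.symm)]
        have h3 : Commute ((x : H) * c * x) (x * c' * x) := (commute_conj_iff hS x.2 c c').2 hcom
        have h4 := (commute_conj_iff hS hc _ _).2 h3
        have e1 : c * ((x : H) * c * x) * c = x := by
          rw [← braid hS hc x.2 (fun h => hor.1 h.symm)]
          exact conj_conj hS hc x
        have e2 : c * ((x : H) * c' * x) * c = (x : H) * c * x * c' * (x * c * x) := by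
          rw [← braid hS hc x.2 (fun h => hor.1 h.symm)]
          conv_rhs => rw [show c' = c * c' * c from (conj_eq_of_commute hS hc hcom).symm]
          simp only [mul_assoc, mul_self_cancel hS hc]
        rw [e1, e2] at h4
        exact h4.symm
    rw [show ({x : ↥C | adj (p u x) x} : Finset ↥C) = ({x : ↥C | Commute (x : H) c ∨ Commute (x : H) c'} : Finset ↥C)ᶜ
      by ext x; simp [hiff x], Finset.card_compl, hcardC,
      card_sub _ {x | x ∈ C ∧ (Commute x c ∨ Commute x c')} fun x =>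
        ⟨fun h => ⟨h.1, h.2⟩, fun ⟨hx, h⟩ => ⟨hx, h⟩⟩]
    have hins : ∀ a ∈ C, {x | x ∈ C ∧ Commute x a} = insert a (nbr C a) := fun a ha => by
      ext x
      simp only [Set.mem_insert_iff, Set.mem_ofPred_eq]
      exact ⟨fun h => (em (x = a)).imp id fun e => ⟨h.1, e, h.2.symm⟩, by
        rintro (rfl | h)
        exacts [⟨ha, Commute.refl _⟩, ⟨h.1, h.2.2.symm⟩]⟩
    have hone : ∀ a ∈ C, {x | x ∈ C ∧ Commute x a}.ncard = 31672 := fun a ha => by
      rw [hins a ha, Set.ncard_insert_of_notMem (fun h => h.2.1 rfl) (Set.toFinite _), hk a ha]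
    have hu2 := Set.ncard_union_add_ncard_inter {x | x ∈ C ∧ Commute x c} {x | x ∈ C ∧ Commute x c'}
      (Set.toFinite _) (Set.toFinite _)
    rw [hone c hc, hone c' hc'] at hu2
    have hint : ({x | x ∈ C ∧ Commute x c} ∩ {x | x ∈ C ∧ Commute x c'}).ncard = 3512 := by
      have h1 : ∀ x : ↥C, p u x = x ↔ (Commute (x : H) c ∧ Commute (x : H) c') := fun x => by
        rw [← commute_mul_iff hS hc hc' x.2 hne, Subtype.ext_iff, hp]
        exact ⟨fun h => (mul_inv_eq_iff_eq_mul.1 h).symm, fun h => mul_inv_eq_iff_eq_mul.2 h.symm⟩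
      rw [← hfixp, card_sub _ _ fun x => ?_]
      exact ⟨fun h => ⟨h.1.1, (h1 ⟨x, h.1.1⟩).2 ⟨h.1.2, h.2.2⟩⟩,
        fun ⟨hx, h⟩ => ⟨⟨hx, ((h1 ⟨x, hx⟩).1 h).1⟩, hx, ((h1 ⟨x, hx⟩).1 h).2⟩⟩
    rw [show {x | x ∈ C ∧ (Commute x c ∨ Commute x c')} = {x | x ∈ C ∧ Commute x c} ∪ {x | x ∈ C ∧ Commute x c'} by
      ext x; simp only [Set.mem_union, Set.mem_ofPred_eq, and_or_left]]
    omega
  rcases T.some_eq hinvM hMJ hJM hMne u with h | h <;>
    · rw [proj, permTr_comb, permTr_comb, hperm, hperm, hfixp, hfixq, hadjq, hadjn] at h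
      norm_num at h

end CfsgLib.Discon
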