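import Mathlib

/-!
An isometry `g` with `g^(p^2) = g` and no vector fixed by its square leaves little room for commuting
isometries of order five: their group has order `5^j` with `8 j` at most the dimension.
-/

set_option autoImplicit false
set_option linter.unusedSectionVars false

namespace CfsgLib.Discon

variable {p : ℕ} [Fact p.Prime] {V : Type*} [AddCommGroup V] [Module (ZMod p) V] [Finite V]
  {𝔸 : Type*} [CommGroup 𝔸] [Finite 𝔸]

/-- The hypotheses of the bound. -/
structure FiveCtx (B : LinearMap.BilinForm (ZMod p) V) (g : Module.End (ZMod p) V)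
    (ρ : 𝔸 →* Module.End (ZMod p) V) : Prop where
  dvd : ∀ d : ℕ, 5 ∣ p ^ d - 1 → 4 ∣ d
  p_sq : 5 ∣ p ^ 2 + 1
  five : (5 : ZMod p) ≠ 0
  exp : ∀ a : 𝔸, a ^ 5 = 1
  pres : ∀ (a : 𝔸) (x y : V), B (ρ a x) (ρ a y) = B x y
  comm : ∀ a : 𝔸, Commute g (ρ a)
  g_pres : ∀ x y : V, B (g x) (g y) = B x y
  g_sq : ∀ v : V, g (g v) = v → v = 0
  g_pow : g ^ (p ^ 2) = g

/-- The restriction of `B` to `W` is nondegenerate. -/
def Reg (B : LinearMap.BilinForm (ZMod p) V) (W : Submodule (ZMod p) V) : Prop :=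
  ∀ x ∈ W, (∀ y ∈ W, B x y = 0) → x = 0

/-- `W` is invariant under `g` and the group. -/
def Inv (g : Module.End (ZMod p) V) (ρ : 𝔸 →* Module.End (ZMod p) V) (W : Submodule (ZMod p) V) :
    Prop :=
  (∀ w ∈ W, g w ∈ W) ∧ ∀ a : 𝔸, ∀ w ∈ W, ρ a w ∈ W

/-- The elements fixing `W` pointwise. -/
def fixer (ρ : 𝔸 →* Module.End (ZMod p) V) (W : Submodule (ZMod p) V) : Subgroup 𝔸 where
  carrier := {a | ∀ w ∈ W, ρ a w = w}
  one_mem' := fun w _ => by simp
  mul_mem' := fun {a b} ha hb w hw => by
    rw [map_mul, Module.End.mul_apply, hb w hw, ha w hw]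
  inv_mem' := fun {a} ha w hw => by
    have h : ρ (a⁻¹ * a) w = w := by simp
    rwa [map_mul, Module.End.mul_apply, ha w hw] at h

theorem mem_fixer {ρ : 𝔸 →* Module.End (ZMod p) V} {W : Submodule (ZMod p) V} {a : 𝔸} :
    a ∈ fixer ρ W ↔ ∀ w ∈ W, ρ a w = w := Iff.rfl

variable {B : LinearMap.BilinForm (ZMod p) V} {g : Module.End (ZMod p) V}
  {ρ : 𝔸 →* Module.End (ZMod p) V} (X : FiveCtx B g ρ)
include X

/-- The sum over the powers of `a`. -/
theorem FiveCtx.sum_fixed (a : 𝔸) (v : V) :
    ρ a (∑ k : Fin 5, ρ (a ^ (k : ℕ)) v) = ∑ k : Fin 5, ρ (a ^ (k : ℕ)) v := by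
  have h5 : ρ (a ^ 5) v = v := by rw [X.exp]; simp
  rw [map_sum]
  simp only [← Module.End.mul_apply, ← map_mul, ← pow_succ', Fin.sum_univ_five, Fin.val_zero, Fin.val_one,
    Fin.val_two, show ((3 : Fin 5) : ℕ) = 3 from rfl, show ((4 : Fin 5) : ℕ) = 4 from rfl]
  rw [map_pow ρ a 5] at h5
  norm_num [h5]
  abel

omit [Finite V] in
theorem FiveCtx.sum_mem {W : Submodule (ZMod p) V} (hW : Inv g ρ W) (a : 𝔸) {v : V} (hv : v ∈ W) :
    (∑ k : Fin 5, ρ (a ^ (k : ℕ)) v) ∈ W :=
  Submodule.sum_mem _ fun k _ => hW.2 _ v hv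

/-- If an element moves every nonzero vector of a nonzero `W`, its dimension is at least eight. -/
theorem FiveCtx.eight_le {W : Submodule (ZMod p) V} (hW : Inv g ρ W) (hR : Reg B W) (hne : W ≠ ⊥)
    {a : 𝔸} (ha : ∀ w ∈ W, ρ a w = w → w = 0) : 8 ≤ Module.finrank (ZMod p) W := by
  classical
  have h5 : Fact (Nat.Prime 5) := ⟨Nat.prime_five⟩
  have four : ∀ S : Submodule (ZMod p) V, S ≤ W → (∀ v ∈ S, ρ a v ∈ S) →
      4 ∣ Module.finrank (ZMod p) S := by
    intro S hS hinv
    refine X.dvd _ ?_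
    have hpow : ∀ k : ℕ, ∀ v ∈ S, ρ (a ^ k) v ∈ S := by
      intro k
      induction k with
      | zero => intro v hv; simpa using hv
      | succ k ih => intro v hv; rw [pow_succ', map_mul, Module.End.mul_apply]; exact hinv _ (ih v hv)
    have hz : ∀ b ∈ Subgroup.zpowers a, ∀ v ∈ S, ρ b v ∈ S := by
      intro b hb
      obtain ⟨k, rfl⟩ := (IsOfFinOrder.mem_powers_iff_mem_zpowers (isOfFinOrder_of_finite a)).2 hb
      exact hpow k
    let α : MulAction (Subgroup.zpowers a) S :=
      { smul := fun b v => ⟨ρ (b : 𝔸) (v : V), hz b b.2 v v.2⟩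
        one_smul := fun v => Subtype.ext (show ρ ((1 : Subgroup.zpowers a) : 𝔸) (v : V) = v by simp)
        mul_smul := fun b c v => Subtype.ext (show ρ ((b * c : Subgroup.zpowers a) : 𝔸) (v : V) = ρ b (ρ c v) by
          simp [map_mul]) }
    have hP : IsPGroup 5 (Subgroup.zpowers a) := fun b => ⟨1, Subtype.ext (by simpa using X.exp b)⟩
    have hfix : MulAction.fixedPoints (Subgroup.zpowers a) S = {0} := by
      ext v
      simp only [MulAction.mem_fixedPoints, Set.mem_singleton_iff]
      refine ⟨fun h => Subtype.ext (ha v (hS v.2) (congrArg Subtype.val (h ⟨a, Subgroup.mem_zpowers a⟩))), ?_⟩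
      rintro rfl b
      exact Subtype.ext (show ρ (b : 𝔸) (0 : V) = 0 by simp)
    have hmod := hP.card_modEq_card_fixedPoints S
    rw [hfix, Nat.card_eq_fintype_card (α := ({0} : Set S)), Set.card_singleton,
      Module.natCard_eq_pow_finrank (K := ZMod p), Nat.card_zmod] at hmod
    exact (Nat.modEq_iff_dvd' (Nat.one_le_pow _ _ (Fact.out : p.Prime).pos)).1 hmod.symm
  have h4 := four W le_rfl fun v hv => hW.2 a v hv
  have hpos : 0 < Module.finrank (ZMod p) W := by
    rcases Nat.eq_zero_or_pos (Module.finrank (ZMod p) W) with h | h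
    · exact absurd (Submodule.finrank_eq_zero.1 h) hne
    · exact h
  by_contra hlt
  have hd : Module.finrank (ZMod p) W = 4 := by omega
  obtain ⟨x, hx, hx0⟩ := Submodule.exists_mem_ne_zero_of_ne_bot hne
  -- `W` is cyclic
  let ev : Polynomial (ZMod p) →ₗ[ZMod p] V :=
    { toFun := fun f => Polynomial.aeval (ρ a) f x
      map_add' := fun f f' => by simp
      map_smul' := fun c f => by simp }
  have hSW : LinearMap.range ev ≤ W := by
    rintro _ ⟨f, rfl⟩
    induction f using Polynomial.induction_on' with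
    | add f f' hf hf' => rw [map_add]; exact W.add_mem hf hf'
    | monomial k c =>
        show Polynomial.aeval (ρ a) (Polynomial.monomial k c) x ∈ W
        rw [Polynomial.aeval_monomial, Module.End.mul_apply, ← map_pow, Module.algebraMap_end_apply]
        exact W.smul_mem _ (hW.2 _ x hx)
  have hev : ∀ f, ρ a (ev f) = ev (Polynomial.X * f) := fun f => by
    show _ = Polynomial.aeval (ρ a) (Polynomial.X * f) x
    rw [map_mul, Polynomial.aeval_X, Module.End.mul_apply]
    rfl
  have hSeq : LinearMap.range ev = W := by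
    have h := four _ hSW (by rintro _ ⟨f, rfl⟩; exact ⟨_, (hev f).symm⟩)
    have hne' : LinearMap.range ev ≠ ⊥ := fun e => hx0 (by
      have : ev 1 ∈ LinearMap.range ev := ⟨1, rfl⟩
      rw [e, Submodule.mem_bot] at this
      simpa [ev] using this)
    have hpos' : 0 < Module.finrank (ZMod p) (LinearMap.range ev) := by
      rcases Nat.eq_zero_or_pos (Module.finrank (ZMod p) (LinearMap.range ev)) with h' | h'
      · exact absurd (Submodule.finrank_eq_zero.1 h') hne'
      · exact h'
    have hle := Submodule.finrank_mono hSW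
    exact Submodule.eq_of_le_of_finrank_eq hSW (by omega)
  obtain ⟨P, hP⟩ : g x ∈ LinearMap.range ev := hSeq ▸ hW.1 x hx
  have hgP : ∀ w ∈ W, g w = Polynomial.aeval (ρ a) P w := by
    intro w hw
    rw [← hSeq] at hw
    obtain ⟨f, rfl⟩ := hw
    have hc : Commute g (Polynomial.aeval (ρ a) f) := by
      induction f using Polynomial.induction_on' with
      | add f f' hf hf' => rw [map_add]; exact hf.add_right hf'
      | monomial k c =>
          rw [Polynomial.aeval_monomial]
          exact (show Commute g (algebraMap (ZMod p) _ c) from (Algebra.commutes c g).symm).mul_right ((X.comm a).pow_right k)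
    show g (Polynomial.aeval (ρ a) f x) = Polynomial.aeval (ρ a) P (Polynomial.aeval (ρ a) f x)
    rw [← Module.End.mul_apply, hc.eq, Module.End.mul_apply, ← hP]
    show Polynomial.aeval (ρ a) f (Polynomial.aeval (ρ a) P x) = _
    rw [← Module.End.mul_apply, ← map_mul, mul_comm, map_mul, Module.End.mul_apply]
  have hpowP : ∀ k : ℕ, ∀ w ∈ W, (g ^ k) w = ((Polynomial.aeval (ρ a) P) ^ k) w ∧ (g ^ k) w ∈ W := by
    intro k
    induction k with
    | zero => intro w hw; simpa using hw
    | succ k ih =>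
        intro w hw
        obtain ⟨h1, h2⟩ := ih w hw
        rw [pow_succ', pow_succ', Module.End.mul_apply, Module.End.mul_apply, ← h1]
        exact ⟨hgP _ h2, hW.1 _ h2⟩
  have hfrob : ∀ w ∈ W, g w = Polynomial.aeval (ρ a⁻¹) P w := by
    intro w hw
    obtain ⟨m, hm⟩ := X.p_sq
    have hinv : (a ^ (p ^ 2)) = a⁻¹ := eq_inv_of_mul_eq_one_left (by
      rw [← pow_succ, hm, pow_mul, X.exp, one_pow])
    conv_lhs => rw [← X.g_pow]
    rw [(hpowP _ w hw).1, ← map_pow, ← hinv, map_pow ρ]
    congr 1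
    rw [pow_two, pow_mul, pow_mul, ← ZMod.expand_card, ← ZMod.expand_card, Polynomial.expand_aeval,
      Polynomial.expand_aeval]
  have hadj : ∀ (f : Polynomial (ZMod p)) (u w : V),
      B (Polynomial.aeval (ρ a) f u) w = B u (Polynomial.aeval (ρ a⁻¹) f w) := by
    intro f u w
    induction f using Polynomial.induction_on' with
    | add f f' hf hf' => simp [hf, hf']
    | monomial k c =>
        simp only [Polynomial.aeval_monomial, Module.End.mul_apply, ← map_pow, Module.algebraMap_end_apply,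
          map_smul, LinearMap.smul_apply]
        congr 1
        rw [← X.pres ((a⁻¹) ^ k) (ρ (a ^ k) u), ← Module.End.mul_apply, ← map_mul, inv_pow, inv_mul_cancel,
          map_one, Module.End.one_apply]
  refine hx0 (X.g_sq x ?_)
  refine sub_eq_zero.1 (hR _ (W.sub_mem (hW.1 _ (hW.1 x hx)) hx) fun y hy => ?_)
  have h1 : B (g (g x)) y = B (g x) (g y) := by
    conv_lhs => rw [hgP _ (hW.1 x hx)]
    rw [hadj, ← hfrob y hy]
  rw [map_sub, LinearMap.sub_apply, h1, X.g_pres, sub_self]

/-- The bound. -/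
theorem FiveCtx.relIndex_le : ∀ (n : ℕ) (W : Submodule (ZMod p) V), Module.finrank (ZMod p) W ≤ n →
    Inv g ρ W → Reg B W → ∀ A : Subgroup 𝔸,
      ((fixer ρ W).relIndex A) ^ 8 ≤ 5 ^ Module.finrank (ZMod p) W := by
  intro n
  induction n with
  | zero =>
    intro W hn _ _ A
    have hW : W = ⊥ := Submodule.finrank_eq_zero.1 (Nat.le_zero.1 hn)
    have : (fixer ρ W).relIndex A = 1 := Subgroup.relIndex_eq_one.2 fun a _ w hw => by
      rw [hW, Submodule.mem_bot] at hw
      simp [hw]
    rw [this, one_pow]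
    exact Nat.one_le_pow _ _ (by norm_num)
  | succ n ih =>
    intro W hn hW hR A
    by_cases hA : A ≤ fixer ρ W
    · rw [Subgroup.relIndex_eq_one.2 hA, one_pow]
      exact Nat.one_le_pow _ _ (by norm_num)
    obtain ⟨a, haA, haW⟩ := Set.not_subset.1 hA
    by_cases hsplit : ∃ b ∈ A, b ∉ fixer ρ W ∧ ∃ w ∈ W, ρ b w = w ∧ w ≠ 0
    · obtain ⟨b, hbA, hbW, w, hw, hbw, hw0⟩ := hsplit
      let C : Submodule (ZMod p) V := W ⊓ LinearMap.ker (ρ b - 1)
      let U : Submodule (ZMod p) V := W.map (ρ b - 1)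
      have hC : ∀ x, x ∈ C ↔ x ∈ W ∧ ρ b x = x := fun x => by
        simp [C, sub_eq_zero]
      have hUW : U ≤ W := by
        rintro _ ⟨x, hx, rfl⟩
        exact W.sub_mem (hW.2 b x hx) hx
      have horth : ∀ x ∈ C, ∀ y ∈ U, B y x = 0 ∧ B x y = 0 := by
        rintro x hx _ ⟨y, hy, rfl⟩
        have e := ((hC x).1 hx).2
        constructor
        · rw [LinearMap.sub_apply, Module.End.one_apply, map_sub, LinearMap.sub_apply]
          nth_rw 1 [← e]
          rw [X.pres, sub_self]
        · rw [LinearMap.sub_apply, Module.End.one_apply, map_sub]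
          nth_rw 1 [← e]
          rw [X.pres, sub_self]
      have hdec : ∀ x ∈ W, ∃ c ∈ C, x - c ∈ U := by
        intro x hx
        refine ⟨(5 : ZMod p)⁻¹ • ∑ k : Fin 5, ρ (b ^ (k : ℕ)) x, (hC _).2
          ⟨W.smul_mem _ (X.sum_mem hW b hx), by rw [map_smul, X.sum_fixed b x]⟩, ?_⟩
        refine ⟨(5 : ZMod p)⁻¹ • ((-4 : ZMod p) • x - (3 : ZMod p) • ρ b x - (2 : ZMod p) • ρ (b ^ 2) x -
          ρ (b ^ 3) x), ?_, ?_⟩
        · exact W.smul_mem _ (W.sub_mem (W.sub_mem (W.sub_mem (W.smul_mem _ hx)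
            (W.smul_mem _ (hW.2 _ x hx))) (W.smul_mem _ (hW.2 _ x hx))) (hW.2 _ x hx))
        · have hb : ∀ k : ℕ, ρ b (ρ (b ^ k) x) = ρ (b ^ (k + 1)) x := fun k => by
            rw [← Module.End.mul_apply, ← map_mul, ← pow_succ']
          simp only [LinearMap.sub_apply, Module.End.one_apply, map_smul, map_sub, hb,
            Fin.sum_univ_five, Fin.val_zero, Fin.val_one,
            Fin.val_two, show ((3 : Fin 5) : ℕ) = 3 from rfl, show ((4 : Fin 5) : ℕ) = 4 from rfl,
            pow_one, pow_zero, map_one]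
          rw [show ρ b (ρ b x) = ρ (b ^ 2) x by simpa using hb 1]
          calc _ = (5 : ZMod p)⁻¹ • ((5 : ZMod p) • x) -
                (5 : ZMod p)⁻¹ • (x + ρ b x + ρ (b ^ 2) x + ρ (b ^ 3) x + ρ (b ^ (3 + 1)) x) := by
                  module
            _ = _ := by rw [inv_smul_smul₀ X.five]
      have hInvC : Inv g ρ C := by
        refine ⟨fun x hx => ?_, fun c x hx => ?_⟩ <;> rw [hC] at hx ⊢
        · refine ⟨hW.1 x hx.1, ?_⟩
          rw [← Module.End.mul_apply, ← (X.comm b).eq, Module.End.mul_apply, hx.2]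
        · refine ⟨hW.2 c x hx.1, ?_⟩
          rw [← Module.End.mul_apply, ← map_mul, mul_comm, map_mul, Module.End.mul_apply, hx.2]
      have hInvU : Inv g ρ U := by
        refine ⟨?_, fun c => ?_⟩ <;> rintro _ ⟨x, hx, rfl⟩
        · refine ⟨g x, hW.1 x hx, ?_⟩
          rw [← Module.End.mul_apply, ← Module.End.mul_apply]
          exact congrArg (fun f : Module.End (ZMod p) V => f x) ((X.comm b).sub_right (Commute.one_right g)).eq.symm
        · refine ⟨ρ c x, hW.2 c x hx, ?_⟩
          rw [← Module.End.mul_apply, ← Module.End.mul_apply]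
          refine congrArg (fun f : Module.End (ZMod p) V => f x) ?_
          exact (((show Commute b c from mul_comm b c).map ρ).sub_left (Commute.one_left _)).eq
      have hRC : Reg B C := fun x hx h => hR x ((hC x).1 hx).1 fun y hy => by
        obtain ⟨c, hc, hu⟩ := hdec y hy
        have := (horth x hx _ hu).2
        rw [map_sub, sub_eq_zero] at this
        rw [this, h c hc]
      have hRU : Reg B U := fun x hx h => hR x (hUW hx) fun y hy => by
        obtain ⟨c, hc, hu⟩ := hdec y hy
        have := h _ hu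
        rw [map_sub, (horth c hc x hx).1, sub_zero] at this
        exact this
      have hdisj : Disjoint C U := Submodule.disjoint_def.2 fun x hxC hxU => hRC x hxC fun y hy =>
        (horth y hy x hxU).1
      have hsup : C ⊔ U = W := le_antisymm (sup_le inf_le_left hUW) fun x hx => by
        obtain ⟨c, hc, hu⟩ := hdec x hx
        exact Submodule.mem_sup.2 ⟨c, hc, x - c, hu, by abel⟩
      have hdim : Module.finrank (ZMod p) C + Module.finrank (ZMod p) U = Module.finrank (ZMod p) W := by
        rw [← Submodule.finrank_sup_add_finrank_inf_eq, hsup, hdisj.eq_bot, finrank_bot, add_zero]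
      have hC0 : C ≠ ⊥ := fun e => hw0 (by
        have : w ∈ C := (hC w).2 ⟨hw, hbw⟩
        rwa [e, Submodule.mem_bot] at this)
      have hU0 : U ≠ ⊥ := fun e => hbW fun x hx => by
        have : (ρ b - 1) x ∈ U := ⟨x, hx, rfl⟩
        rwa [e, Submodule.mem_bot, LinearMap.sub_apply, sub_eq_zero, Module.End.one_apply] at this
      have hp1 : ∀ S : Submodule (ZMod p) V, S ≠ ⊥ → 0 < Module.finrank (ZMod p) S := fun S hS =>
        Nat.pos_of_ne_zero fun e => hS (Submodule.finrank_eq_zero.1 e)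
      have h1 := ih C (by have := hp1 U hU0; omega) hInvC hRC A
      have h2 := ih U (by have := hp1 C hC0; omega) hInvU hRU (fixer ρ C ⊓ A)
      have hfW : fixer ρ W ⊓ A = fixer ρ U ⊓ (fixer ρ C ⊓ A) := by
        ext c
        simp only [Subgroup.mem_inf, mem_fixer]
        constructor
        · exact fun h => ⟨fun x hx => h.1 x (hUW hx), fun x hx => h.1 x ((hC x).1 hx).1, h.2⟩
        · refine fun h => ⟨fun x hx => ?_, h.2.2⟩
          obtain ⟨d, hd, hu⟩ := hdec x hx
          have := h.1 _ hu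
          rw [map_sub, h.2.1 d hd, sub_left_inj] at this
          exact this
      have hle : fixer ρ W ⊓ A ≤ fixer ρ C ⊓ A := hfW ▸ inf_le_right
      have hmul : (fixer ρ W).relIndex A = (fixer ρ U).relIndex (fixer ρ C ⊓ A) * (fixer ρ C).relIndex A := by
        rw [← Subgroup.inf_relIndex_right (fixer ρ W) A, ← Subgroup.inf_relIndex_right (fixer ρ C) A,
          ← Subgroup.relIndex_mul_relIndex _ _ _ hle inf_le_right, hfW, Subgroup.inf_relIndex_right]
      rw [hmul, mul_pow, ← hdim, pow_add]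
      rw [mul_comm (5 ^ Module.finrank (ZMod p) C)]
      exact Nat.mul_le_mul h2 h1
    · push Not at hsplit
      have hne : W ≠ ⊥ := fun e => haW fun x hx => by
        rw [e, Submodule.mem_bot] at hx
        simp [hx]
      have hfp : ∀ c ∈ A, c ∉ fixer ρ W → ∀ x ∈ W, ∑ k : Fin 5, ρ (c ^ (k : ℕ)) x = 0 := fun c hc hcW x hx =>
        hsplit c hc hcW _ (X.sum_mem hW c hx) (X.sum_fixed c x)
      have hcyc : ∀ c ∈ A, ∃ i : Fin 5, c * a ^ (i : ℕ) ∈ fixer ρ W := by
        intro c hc
        by_contra hno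
        push Not at hno
        obtain ⟨x, hx, hx0⟩ := Submodule.exists_mem_ne_zero_of_ne_bot hne
        have h0 : ∑ i : Fin 5, ∑ k : Fin 5, ρ ((c * a ^ (i : ℕ)) ^ (k : ℕ)) x = 0 :=
          Finset.sum_eq_zero fun i _ => hfp _ (mul_mem hc (pow_mem haA _)) (hno i) x hx
        rw [Finset.sum_comm] at h0
        have hk : ∀ k : Fin 5, k ≠ 0 → ∑ i : Fin 5, ρ ((c * a ^ (i : ℕ)) ^ (k : ℕ)) x = 0 := by
          intro k hk
          have hperm : ∀ i : Fin 5, (a ^ (i : ℕ)) ^ (k : ℕ) = a ^ ((i * k : Fin 5) : ℕ) := fun i => by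
            rw [← pow_mul, Fin.val_mul]
            exact pow_eq_pow_mod _ (X.exp a)
          have hb : Function.Bijective fun i : Fin 5 => i * k :=
            (by decide : ∀ k : Fin 5, k ≠ 0 → Function.Bijective fun i : Fin 5 => i * k) k hk
          calc ∑ i : Fin 5, ρ ((c * a ^ (i : ℕ)) ^ (k : ℕ)) x
              = ∑ i : Fin 5, ρ (a ^ ((i * k : Fin 5) : ℕ)) (ρ (c ^ (k : ℕ)) x) := by
                refine Finset.sum_congr rfl fun i _ => ?_
                rw [mul_pow, hperm, mul_comm, map_mul, Module.End.mul_apply]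
            _ = ∑ j : Fin 5, ρ (a ^ (j : ℕ)) (ρ (c ^ (k : ℕ)) x) :=
                hb.sum_comp fun j : Fin 5 => ρ (a ^ (j : ℕ)) (ρ (c ^ (k : ℕ)) x)
            _ = 0 := hfp a haA haW _ (hW.2 _ x hx)
        rw [Finset.sum_eq_single (0 : Fin 5) (fun k _ hk0 => hk k hk0) (by simp)] at h0
        simp only [Fin.val_zero, pow_zero, map_one, Module.End.one_apply, Finset.sum_const,
          Finset.card_univ, Fintype.card_fin] at h0
        refine hx0 ?_
        rw [← Nat.cast_smul_eq_nsmul (ZMod p), smul_eq_zero] at h0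
        exact h0.resolve_left (by exact_mod_cast X.five)
      have h5 : (fixer ρ W).relIndex A ≤ 5 := by
        let f : Fin 5 → A ⧸ (fixer ρ W).subgroupOf A := fun i =>
          QuotientGroup.mk ((⟨a, haA⟩ : A) ^ (i : ℕ))⁻¹
        have hf : Function.Surjective f := by
          intro q
          obtain ⟨c, rfl⟩ := QuotientGroup.mk_surjective q
          obtain ⟨i, hi⟩ := hcyc c c.2
          refine ⟨i, QuotientGroup.eq.2 ?_⟩
          rw [inv_inv, Subgroup.mem_subgroupOf]
          simpa [mul_comm] using hi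
        exact (Nat.card_le_card_of_surjective f hf).trans_eq (by simp)
      have h8 := X.eight_le hW hR hne (a := a) fun w hw e => hsplit a haA haW w hw e
      exact le_trans (Nat.pow_le_pow_left h5 8) (Nat.pow_le_pow_right (by norm_num) h8)

/-- The bound for a group acting faithfully on the whole space. -/
theorem FiveCtx.card_le (hB : Reg B ⊤) (hf : Function.Injective ρ) :
    Nat.card 𝔸 ^ 8 ≤ 5 ^ Module.finrank (ZMod p) V := by
  have h := X.relIndex_le _ ⊤ le_rfl ⟨fun _ _ => trivial, fun _ _ _ => trivial⟩ hB ⊤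
  have hbot : fixer ρ (⊤ : Submodule (ZMod p) V) = ⊥ := (Subgroup.eq_bot_iff_forall _).2 fun a ha =>
    hf (by rw [map_one]; exact LinearMap.ext fun w => ha w trivial)
  rwa [hbot, Subgroup.relIndex_bot_left, finrank_top, Subgroup.card_top] at h

end CfsgLib.Discon
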