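import Cfsg.Agent.Lib.Discon.CasePerm
import Cfsg.Agent.Lib.Discon.CaseTwentyFour
import Cfsg.Agent.Lib.Discon.Blocks
import Cfsg.Agent.Lib.Discon.FiveRank
import Cfsg.Agent.Lib.Classical.OrthForms
import Cfsg.Agent.Lib.FischerTypes.OmegaCongr

/-!
Orthogonal transvections over the field with two elements: a twist forces the hyperbolic space of
dimension eight.
-/

set_option autoImplicit false
set_option linter.style.haveILetI false
set_option linter.unusedSectionVars false

namespace CfsgLib.Discon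

open Cfsg CfsgLib.Orth
open CfsgLib.FischerClass CfsgLib.ThreeTransp

variable {ι : Type} [Fintype ι] [DecidableEq ι]

/-- An isometric space has an isomorphic group. -/
theorem grp_congr {F : Type*} [Field F] {κ : Type} [Fintype κ] [DecidableEq κ] {q : (ι → F) → F}
    {r : (κ → F) → F} (f : (ι → F) ≃ₗ[F] (κ → F)) (h : ∀ v, r (f v) = q v) :
    Nonempty (↥(isometryGroup F q) ≃* ↥(isometryGroup F r)) := by
  set M := LinearMap.toMatrix' f.toLinearMap
  set N := LinearMap.toMatrix' f.symm.toLinearMap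
  have hMN : M * N = 1 := by rw [← LinearMap.toMatrix'_comp]; simp
  have hNM : N * M = 1 := by rw [← LinearMap.toMatrix'_comp]; simp
  have hM : ∀ v, r (Matrix.mulVec M v) = q v := fun v => by
    rw [LinearMap.toMatrix'_mulVec]; exact h v
  exact ⟨{ toFun := fun g => ⟨FischerTypes.glConj M N hMN hNM g,
             (FischerTypes.glConj_mem M N hMN hNM hM g).2 g.2⟩
           invFun := fun g => ⟨(FischerTypes.glConj M N hMN hNM).symm g,
             (FischerTypes.glConj_mem M N hMN hNM hM _).1 (by rw [MulEquiv.apply_symm_apply]; exact g.2)⟩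
           left_inv := fun g => Subtype.ext ((FischerTypes.glConj M N hMN hNM).symm_apply_apply g.1)
           right_inv := fun g => Subtype.ext ((FischerTypes.glConj M N hMN hNM).apply_symm_apply g.1)
           map_mul' := fun x y => Subtype.ext (map_mul (FischerTypes.glConj M N hMN hNM) x.1 y.1) }⟩

/-- The linear map of an isometry. -/
def grpEnd {F : Type*} [Field F] (Q : QuadraticForm F (ι → F)) : Grp Q →* Module.End F (ι → F) where
  toFun g := Matrix.mulVecLin ((g : GL ι F) : Matrix ι ι F)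
  map_one' := by simp [Module.End.one_eq_id]
  map_mul' g h := by simp [Matrix.mulVecLin_mul, Module.End.mul_eq_comp]

theorem grpEnd_apply {F : Type*} [Field F] {Q : QuadraticForm F (ι → F)} (g : Grp Q) (x : ι → F) :
    grpEnd Q g x = ap g x := rfl

theorem grpEnd_injective {F : Type*} [Field F] (Q : QuadraticForm F (ι → F)) :
    Function.Injective (grpEnd Q) := fun g h e => ext_ap fun x => by
  rw [← grpEnd_apply, e, grpEnd_apply]

/-- Two of three elements are congruent modulo a subgroup of index at most two. -/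
theorem two_of_three {H : Type*} [Group H] {L : Subgroup H} (hL : L.index ≤ 2) [Finite H] {a b : H} :
    a ∈ L ∨ b ∈ L ∨ b * a⁻¹ ∈ L := by
  by_cases ha : a ∈ L
  · exact Or.inl ha
  by_cases hb : b ∈ L
  · exact Or.inr (Or.inl hb)
  refine Or.inr (Or.inr ?_)
  have h0 := Nat.pos_of_ne_zero (Subgroup.index_ne_zero_of_finite (H := L))
  rcases (by omega : L.index = 1 ∨ L.index = 2) with h | h
  · exact absurd (Subgroup.index_eq_one.1 h ▸ Subgroup.mem_top a) ha
  · exact (Subgroup.mul_mem_iff_of_index_two h).2 (iff_of_false hb fun h' => ha (inv_mem_iff.1 h'))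

theorem five_exp : ∀ z : Multiplicative (ZMod 5), z ^ 5 = 1 := by decide

variable {Q : QuadraticForm (ZMod 2) (ι → ZMod 2)}

local notation "B" => QuadraticMap.polar (DFunLike.coe Q)

theorem self_zero (x : ι → ZMod 2) : B x x = 0 := by
  rw [b_self, show (2 : ZMod 2) = 0 from rfl, zero_mul]

theorem vec_add (x : ι → ZMod 2) : x + x = 0 := funext fun _ => CharTwo.add_self_eq_zero _

theorem otwo_refl (hB : Nondeg Q) {x : Grp Q} (hx : x ∈ OTwoE Q) : ∃ v, Q v = 1 ∧ IsRefl v x :=
  (Fischer.rank_one_iff hB x).1 hx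

theorem otwo_mem (hB : Nondeg Q) {v : ι → ZMod 2} (hv : Q v = 1) {x : Grp Q} (hx : IsRefl v x) :
    x ∈ OTwoE Q := (Fischer.rank_one_iff hB x).2 ⟨v, hv, hx⟩

theorem otwo_commute (hB : Nondeg Q) {u v : ι → ZMod 2} {r s : Grp Q} (hu : Q u = 1) (hv : Q v = 1)
    (hr : IsRefl u r) (hs : IsRefl v s) (hne : u ≠ v) : Commute r s ↔ B u v = 0 := by
  refine ⟨fun h => ?_, refl_commute hr hs⟩
  have h1 := refl_conj hs r
  rw [refl_inv hr, h.eq, mul_assoc, refl_mul_self hr, mul_one] at h1
  have h2 := FischerClass.refl_vec hB (v := ap r v) (w := v) (by rw [ap_q, hv]) h1 hs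
  rw [refl_apply_norm hr hu, sub_eq_self, smul_eq_zero] at h2
  exact h2.resolve_right fun e => by rw [e, QuadraticMap.map_zero] at hu; exact zero_ne_one hu

/-- An isometry of order three without fixed vectors. -/
structure Fix0 (g : Grp Q) : Prop where
  three : g * g * g = 1
  fix : ∀ x, ap g x = x → x = 0

theorem Fix0.sq {g : Grp Q} (X : Fix0 g) (x : ι → ZMod 2) : ap g (ap g x) = x + ap g x := by
  have h : x + ap g x + ap g (ap g x) = 0 := X.fix _ (by
    rw [ap_add, ap_add, ← ap_mul g g (ap g x), ← ap_mul (g * g) g, X.three, ap_one]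
    abel)
  calc ap g (ap g x) = (x + ap g x + (x + ap g x)) + ap g (ap g x) := by rw [vec_add, zero_add]
    _ = x + ap g x := by rw [add_assoc, h, add_zero]

theorem Fix0.pair {g : Grp Q} (X : Fix0 g) {v : ι → ZMod 2} (hv : Q v = 1) : B v (ap g v) = 1 := by
  have h := q_add (Q := Q) v (ap g v)
  rw [← X.sq, ap_q, ap_q, hv] at h
  have h2 : (2 : ZMod 2) = 0 := rfl
  linear_combination -h - h2

theorem Fix0.flip {g : Grp Q} (X : Fix0 g) (u v : ι → ZMod 2) :
    B (ap g u) v = B u v + B u (ap g v) := by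
  rw [← b_add_right, ← X.sq, ← ap_b g u (ap g (ap g v)), ← ap_mul g g, ← ap_mul, X.three, ap_one]

/-- Mutually orthogonal invariant planes. -/
structure Planes (g : Grp Q) {κ : Type} (f : κ → (ι → ZMod 2)) : Prop where
  norm : ∀ k, Q (f k) = 1
  vv : ∀ k l, QuadraticMap.polar (⇑Q) (f k) (f l) = 0
  vw : ∀ k l, k ≠ l → QuadraticMap.polar (⇑Q) (f k) (ap g (f l)) = 0

/-- The coordinates of the planes. -/
def planeMap (g : Grp Q) {κ : Type} [Fintype κ] (f : κ → (ι → ZMod 2)) :
    (κ → ZMod 2 × ZMod 2) →ₗ[ZMod 2] (ι → ZMod 2) where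
  toFun a := ∑ k, ((a k).1 • f k + (a k).2 • ap g (f k))
  map_add' a b := by
    rw [← Finset.sum_add_distrib]
    exact Finset.sum_congr rfl fun k _ => by simp only [Pi.add_apply, Prod.fst_add, Prod.snd_add]; module
  map_smul' c a := by
    rw [Finset.smul_sum]
    exact Finset.sum_congr rfl fun k _ => by
      simp only [Pi.smul_apply, Prod.smul_fst, Prod.smul_snd, RingHom.id_apply, smul_eq_mul]; module

theorem planeMap_apply (g : Grp Q) {κ : Type} [Fintype κ] (f : κ → (ι → ZMod 2)) (a : κ → ZMod 2 × ZMod 2) :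
    planeMap g f a = ∑ k, ((a k).1 • f k + (a k).2 • ap g (f k)) := rfl

theorem q_sum {α : Type*} (s : Finset α) (y : α → (ι → ZMod 2)) (h : ∀ a ∈ s, ∀ b ∈ s, a ≠ b → B (y a) (y b) = 0) :
    Q (∑ a ∈ s, y a) = ∑ a ∈ s, Q (y a) := by
  classical
  induction s using Finset.induction with
  | empty => simp
  | insert a s ha ih =>
    rw [Finset.sum_insert ha, Finset.sum_insert ha, q_add, ih fun b hb c hc =>
      h b (Finset.mem_insert_of_mem hb) c (Finset.mem_insert_of_mem hc)]
    have h0 : B (y a) (∑ b ∈ s, y b) = 0 := by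
      rw [← QuadraticMap.polarBilin_apply_apply, map_sum]
      exact Finset.sum_eq_zero fun b hb => h a (Finset.mem_insert_self a s) b (Finset.mem_insert_of_mem hb)
        fun e => ha (e ▸ hb)
    rw [h0, add_zero]

section Planes

variable {g : Grp Q} (X : Fix0 g) {κ : Type} [Fintype κ] [DecidableEq κ] {f : κ → (ι → ZMod 2)} (P : Planes g f)
include X P

theorem Planes.wv (k l : κ) (h : k ≠ l) : B (ap g (f k)) (f l) = 0 := by
  rw [b_comm, P.vw l k h.symm]

theorem Planes.ww (k l : κ) : B (ap g (f k)) (ap g (f l)) = 0 := by rw [ap_b, P.vv]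

theorem Planes.coord (a : κ → ZMod 2 × ZMod 2) (j : κ) :
    B (f j) (planeMap g f a) = (a j).2 ∧ B (ap g (f j)) (planeMap g f a) = (a j).1 := by
  constructor
  · rw [planeMap_apply, ← QuadraticMap.polarBilin_apply_apply, map_sum]
    rw [Finset.sum_eq_single j (fun k _ hk => ?_) (fun h => absurd (Finset.mem_univ j) h)]
    · rw [QuadraticMap.polarBilin_apply_apply, b_add_right, b_smul_right, b_smul_right, P.vv, X.pair (P.norm j),
        mul_zero, zero_add, mul_one]
    · rw [QuadraticMap.polarBilin_apply_apply, b_add_right, b_smul_right, b_smul_right, P.vv, P.vw j k hk.symm,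
        mul_zero, mul_zero, add_zero]
  · rw [planeMap_apply, ← QuadraticMap.polarBilin_apply_apply, map_sum]
    rw [Finset.sum_eq_single j (fun k _ hk => ?_) (fun h => absurd (Finset.mem_univ j) h)]
    · rw [QuadraticMap.polarBilin_apply_apply, b_add_right, b_smul_right, b_smul_right, Planes.ww X P, b_comm,
        X.pair (P.norm j), mul_zero, add_zero, mul_one]
    · rw [QuadraticMap.polarBilin_apply_apply, b_add_right, b_smul_right, b_smul_right, Planes.ww X P,
        Planes.wv X P j k hk.symm, mul_zero, mul_zero, add_zero]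

theorem Planes.injective : Function.Injective (planeMap g f) :=
  (injective_iff_map_eq_zero _).2 fun a ha => funext fun j => by
    obtain ⟨h1, h2⟩ := Planes.coord X P a j
    rw [ha, b_zero_right] at h1 h2
    exact Prod.ext h2.symm h1.symm

theorem Planes.two_mul_le : 2 * Fintype.card κ ≤ Fintype.card ι := by
  have h := LinearMap.finrank_le_finrank_of_injective (Planes.injective X P)
  rw [Module.finrank_fintype_fun_eq_card, Module.finrank_pi_fintype] at h
  simpa [mul_comm, Finset.sum_const, Module.finrank_prod] using h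

theorem Planes.q_map (a : κ → ZMod 2 × ZMod 2) :
    Q (planeMap g f a) = ∑ k, ((a k).1 * (a k).1 + (a k).2 * (a k).2 + (a k).1 * (a k).2) := by
  rw [planeMap_apply, q_sum]
  · refine Finset.sum_congr rfl fun k _ => ?_
    rw [q_add, q_smul, q_smul, ap_q, P.norm, b_smul_left, b_smul_right, X.pair (P.norm k), mul_one, mul_one, mul_one]
  · intro k _ l _ hkl
    simp only [b_add_left, b_add_right, b_smul_left, b_smul_right, P.vv, Planes.ww X P, P.vw k l hkl,
      Planes.wv X P k l hkl, mul_zero, add_zero]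

end Planes

theorem Fix0.planes (hB : Nondeg Q) {g : Grp Q} (X : Fix0 g) :
    ∃ m, Fintype.card ι = 2 * m ∧ ∃ f : Fin m → (ι → ZMod 2), Planes g f := by
  classical
  have key : ∀ k, ∀ f : Fin k → (ι → ZMod 2), Planes g f →
      Fintype.card ι = 2 * k ∨ ∃ f' : Fin (k + 1) → (ι → ZMod 2), Planes g f' := by
    intro k f P
    set W := orth Q (LinearMap.range (planeMap g f)) with hW
    have hlow := Planes.two_mul_le X P
    rw [Fintype.card_fin] at hlow
    by_cases hex : ∃ w ∈ W, Q w = 1
    · obtain ⟨w, hw, hQw⟩ := hex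
      right
      have hb : ∀ l, B (f l) w = 0 ∧ B (ap g (f l)) w = 0 := by
        intro l
        have h1 : planeMap g f (Pi.single l (1, 0)) = f l := by
          rw [planeMap_apply, Finset.sum_eq_single l (fun j _ hj => by simp [Pi.single_eq_of_ne hj])
            (fun h => absurd (Finset.mem_univ l) h)]
          simp
        have h2 : planeMap g f (Pi.single l (0, 1)) = ap g (f l) := by
          rw [planeMap_apply, Finset.sum_eq_single l (fun j _ hj => by simp [Pi.single_eq_of_ne hj])
            (fun h => absurd (Finset.mem_univ l) h)]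
          simp
        exact ⟨hw _ ⟨_, h1⟩, hw _ ⟨_, h2⟩⟩
      refine ⟨Fin.cons w f, ⟨Fin.cases hQw P.norm, ?_, ?_⟩⟩
      · intro i j
        induction i using Fin.cases <;> induction j using Fin.cases <;> simp only [Fin.cons_zero, Fin.cons_succ]
        · exact self_zero w
        · rw [b_comm]; exact (hb _).1
        · exact (hb _).1
        · exact P.vv _ _
      · intro i j hij
        induction i using Fin.cases <;> induction j using Fin.cases <;> simp only [Fin.cons_zero, Fin.cons_succ]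
        · exact absurd rfl hij
        · rw [b_comm]; exact (hb _).2
        · rename_i i
          have h := X.flip (f i) w
          rw [(hb i).1, (hb i).2, zero_add] at h
          exact h.symm
        · exact P.vw _ _ (fun e => hij (by rw [e]))
    left
    push Not at hex
    have h0 : ∀ w ∈ W, Q w = 0 := fun w hw => (two_cases _).resolve_right (hex w hw)
    have hWW := le_orth_of_singular h0
    rw [hW, orth_orth hB] at hWW
    have hbot : W = ⊥ := by
      refine (Submodule.eq_bot_iff _).2 fun x hx => ?_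
      obtain ⟨a, rfl⟩ := hWW hx
      have hz : a = 0 := funext fun j => by
        obtain ⟨h1, h2⟩ := Planes.coord X P a j
        have m1 : planeMap g f (Pi.single j (1, 0)) = f j := by
          rw [planeMap_apply, Finset.sum_eq_single j (fun l _ hl => by simp [Pi.single_eq_of_ne hl])
            (fun h => absurd (Finset.mem_univ j) h)]
          simp
        have m2 : planeMap g f (Pi.single j (0, 1)) = ap g (f j) := by
          rw [planeMap_apply, Finset.sum_eq_single j (fun l _ hl => by simp [Pi.single_eq_of_ne hl])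
            (fun h => absurd (Finset.mem_univ j) h)]
          simp
        exact Prod.ext (h2.symm.trans (hx _ ⟨_, m2⟩)) (h1.symm.trans (hx _ ⟨_, m1⟩))
      rw [hz, map_zero]
    have hdim := finrank_orth hB (LinearMap.range (planeMap g f))
    rw [← hW, hbot, finrank_bot, LinearMap.finrank_range_of_inj (Planes.injective X P),
      Module.finrank_fintype_fun_eq_card, Module.finrank_pi_fintype] at hdim
    simpa [mul_comm, Finset.sum_const, Module.finrank_prod] using hdim.symm
  by_contra hno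
  push Not at hno
  have hall : ∀ k, ∃ f : Fin k → (ι → ZMod 2), Planes g f := by
    intro k
    induction k with
    | zero => exact ⟨Fin.elim0, ⟨fun a => a.elim0, fun a => a.elim0, fun a => a.elim0⟩⟩
    | succ k ih =>
      obtain ⟨f, P⟩ := ih
      rcases key k f P with h | h
      · exact absurd P (hno k h f)
      · exact h
  obtain ⟨f, P⟩ := hall (Fintype.card ι + 1)
  have := Planes.two_mul_le X P
  rw [Fintype.card_fin] at this
  omega

theorem planeMap_equiv {g : Grp Q} (X : Fix0 g) {m : ℕ} {f : Fin m → (ι → ZMod 2)} (P : Planes g f)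
    (hm : Fintype.card ι = 2 * m) : ∃ E : (Fin m → ZMod 2 × ZMod 2) ≃ₗ[ZMod 2] (ι → ZMod 2),
      ∀ a, E a = planeMap g f a := by
  refine ⟨LinearMap.linearEquivOfInjective (planeMap g f) (Planes.injective X P) ?_, fun a => rfl⟩
  rw [Module.finrank_fintype_fun_eq_card, Module.finrank_pi_fintype, hm]
  simp [Finset.sum_const, Module.finrank_prod, mul_comm]

/-- Two such elements with as many planes are conjugate. -/
theorem Fix0.conj (hB : Nondeg Q) {g g' : Grp Q} (X : Fix0 g) (X' : Fix0 g') {m : ℕ}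
    (hm : Fintype.card ι = 2 * m) : ∃ o : Grp Q, o * g * o⁻¹ = g' := by
  obtain ⟨m₁, h1, f, P⟩ := X.planes hB
  obtain ⟨m₂, h2, f', P'⟩ := X'.planes hB
  obtain rfl : m₁ = m := by omega
  obtain rfl : m₂ = m₁ := by omega
  obtain ⟨E, hE⟩ := planeMap_equiv X P hm
  obtain ⟨E', hE'⟩ := planeMap_equiv X' P' hm
  obtain ⟨o, ho⟩ := exists_iso hB (E'.toLinearMap.comp E.symm.toLinearMap) fun x => by
    obtain ⟨a, rfl⟩ := E.surjective x
    simp only [LinearMap.comp_apply, LinearEquiv.coe_coe, LinearEquiv.symm_apply_apply]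
    rw [hE', hE, Planes.q_map X' P', Planes.q_map X P]
  refine ⟨o, mul_inv_eq_iff_eq_mul.2 (ext_ap fun x => ?_)⟩
  obtain ⟨a, rfl⟩ := E.surjective x
  have hstep : ∀ {g : Grp Q} (X : Fix0 g) {f : Fin m₂ → (ι → ZMod 2)} (a : Fin m₂ → ZMod 2 × ZMod 2),
      ap g (planeMap g f a) = planeMap g f fun k => ((a k).2, (a k).1 + (a k).2) := by
    intro g X f a
    rw [planeMap_apply, planeMap_apply, ← grpEnd_apply, map_sum]
    refine Finset.sum_congr rfl fun k _ => ?_
    rw [grpEnd_apply, ap_add, ap_smul, ap_smul, X.sq]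
    module
  rw [ap_mul, ap_mul, hE, hstep X, ← hE, ← hE, ho, ho]
  simp only [LinearMap.comp_apply, LinearEquiv.coe_coe, LinearEquiv.symm_apply_apply]
  rw [hE', hE', hstep X']

/-- In dimension eight the space is hyperbolic. -/
theorem eight_hyperbolic (hB : Nondeg Q) {g : Grp Q} (X : Fix0 g) {f : Fin 4 → (ι → ZMod 2)} (P : Planes g f)
    (h8 : Fintype.card ι = 8) :
    Nonempty (↥(isometryGroup (ZMod 2) ⇑Q) ≃* ↥(isometryGroup (ZMod 2) (quadFormPlus 4 (ZMod 2)))) := by
  obtain ⟨E, hE⟩ := planeMap_equiv X P (m := 4) h8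
  let T : (Fin 4 ⊕ Fin 4 → ZMod 2) →ₗ[ZMod 2] (Fin 4 → ZMod 2 × ZMod 2) :=
    { toFun := fun x => ![
        (x (.inl 1) + x (.inr 1) + x (.inr 0), x (.inl 0) + x (.inr 0)),
        (x (.inl 0) + x (.inl 1) + x (.inr 0), x (.inl 0) + x (.inr 0) + x (.inr 1)),
        (x (.inl 3) + x (.inr 3) + x (.inr 2), x (.inl 2) + x (.inr 2)),
        (x (.inl 2) + x (.inl 3) + x (.inr 2), x (.inl 2) + x (.inr 2) + x (.inr 3))]
      map_add' := fun x y => by
        funext k; fin_cases k <;> simp [Prod.ext_iff] <;> constructor <;> abel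
      map_smul' := fun c x => by
        funext k; fin_cases k <;> simp [Prod.ext_iff, mul_add] }
  have hq : ∀ x, Q (E (T x)) = quadFormPlus 4 (ZMod 2) x := by
    intro x
    rw [hE, Planes.q_map X P]
    simp only [T, LinearMap.coe_mk, AddHom.coe_mk, Fin.sum_univ_four, quadFormPlus]
    dsimp
    generalize x (.inl 0) = a0, x (.inl 1) = a1, x (.inl 2) = a2, x (.inl 3) = a3, x (.inr 0) = b0,
      x (.inr 1) = b1, x (.inr 2) = b2, x (.inr 3) = b3
    have key : ∀ a0 a1 b0 b1 : ZMod 2,
        (a1 + b1 + b0) * (a1 + b1 + b0) + (a0 + b0) * (a0 + b0) + (a1 + b1 + b0) * (a0 + b0) +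
        ((a0 + a1 + b0) * (a0 + a1 + b0) + (a0 + b0 + b1) * (a0 + b0 + b1) + (a0 + a1 + b0) * (a0 + b0 + b1)) =
          a0 * b0 + a1 * b1 := by decide
    linear_combination key a0 a1 b0 b1 + key a2 a3 b2 b3
  have hinj : Function.Injective (E.toLinearMap.comp T) := by
    obtain ⟨R, hR, hRB⟩ := exists_quadForm_plus (F := ZMod 2) 4
    refine (injective_iff_map_eq_zero _).2 fun x hx => hRB x fun y => ?_
    have e : ∀ z, R z = Q (E (T z)) := fun z => by rw [hq, hR]
    change E (T x) = 0 at hx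
    simp only [QuadraticMap.polar, e, map_add, hx, QuadraticMap.map_zero, zero_add, sub_zero, sub_self]
  let F := LinearMap.linearEquivOfInjective (E.toLinearMap.comp T) hinj (by
    rw [Module.finrank_fintype_fun_eq_card, Module.finrank_fintype_fun_eq_card, h8]; rfl)
  obtain ⟨e⟩ := grp_congr F (q := quadFormPlus 4 (ZMod 2)) (r := ⇑Q) hq
  exact ⟨e.symm⟩

/-- The vectors of one or two paths in four planes. -/
def planeBlock (g : Grp Q) {κ : Type} (f : κ → (ι → ZMod 2)) (i : Fin 4 → κ) :
    Fin 2 → Fin 4 → (ι → ZMod 2) :=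
  ![![f (i 0), ap g (f (i 0)), f (i 0) + f (i 1) + f (i 2), ap g (f (i 1))],
    ![f (i 3), ap g (f (i 3)), ap g (f (i 1)) + ap g (f (i 2)) + f (i 3), f (i 2)]]

variable {φ : commutator (Grp Q) ≃* commutator (Grp Q)}

theorem IsTwist.fix0 (hB : Nondeg Q) (hn : 6 ≤ Fintype.card ι) (hφ : IsTwist (OTwoE Q) φ) {a b : ι → ZMod 2}
    (ha : Q a = 1) (hb : Q b = 1) (hab : B a b = 1) :
    ∃ (r s : Grp Q) (u : commutator (Grp Q)), IsRefl a r ∧ IsRefl b s ∧ r ≠ s ∧ (u : Grp Q) = r * s ∧
      Fix0 ((φ u : commutator (Grp Q)) : Grp Q) := by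
  have hcls := (otwo_model hB hn).1.cls
  obtain ⟨r, hr⟩ := exists_refl hB (show Q a ≠ 0 by rw [ha]; exact one_ne_zero)
  obtain ⟨s, hs⟩ := exists_refl hB (show Q b ≠ 0 by rw [hb]; exact one_ne_zero)
  have hne : a ≠ b := fun e => by rw [e, self_zero] at hab; exact zero_ne_one hab
  have hnc : ¬ Commute r s := fun h => by
    rw [(otwo_commute hB ha hb hr hs hne).1 h] at hab; exact zero_ne_one hab
  have hrs : r ≠ s := fun e => hnc (e ▸ Commute.refl r)
  have hrC := otwo_mem hB ha hr
  have hsC := otwo_mem hB hb hs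
  refine ⟨r, s, ⟨r * s, mul_mem_commutator hcls hrC hsC⟩, hr, hs, hrs, rfl, ?_, ?_⟩
  · rw [← Subgroup.coe_mul, ← Subgroup.coe_mul, ← map_mul, ← map_mul]
    have h3 := mul_pow_three_of_not_commute hcls.1 hrC hsC hnc
    rw [show (⟨r * s, mul_mem_commutator hcls hrC hsC⟩ : commutator (Grp Q)) *
      ⟨r * s, mul_mem_commutator hcls hrC hsC⟩ * ⟨r * s, mul_mem_commutator hcls hrC hsC⟩ = 1 from
        Subtype.ext (by rw [Subgroup.coe_one, ← h3]; simp [pow_succ]), map_one, Subgroup.coe_one]
  set g : Grp Q := ((φ ⟨r * s, mul_mem_commutator hcls hrC hsC⟩ : commutator (Grp Q)) : Grp Q)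
  intro x hx
  have hsing : ∀ y, ap g y = y → Q y = 0 := fun y hy => (two_cases _).resolve_right fun h1 => by
    obtain ⟨t, ht⟩ := exists_refl hB (show Q y ≠ 0 by rw [h1]; exact one_ne_zero)
    refine hφ.fpf ⟨r * s, mul_mem_commutator hcls hrC hsC⟩ r hrC s hsC hrs rfl t (otwo_mem hB h1 ht) ?_
    have hconj := refl_conj ht g
    rw [hy] at hconj
    exact mul_inv_eq_iff_eq_mul.1 (refl_unique hconj ht)
  have h3g : g * g * g = 1 := by
    rw [← Subgroup.coe_mul, ← Subgroup.coe_mul, ← map_mul, ← map_mul,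
      show (⟨r * s, mul_mem_commutator hcls hrC hsC⟩ : commutator (Grp Q)) *
        ⟨r * s, mul_mem_commutator hcls hrC hsC⟩ * ⟨r * s, mul_mem_commutator hcls hrC hsC⟩ = 1 from
        Subtype.ext (by rw [Subgroup.coe_one, ← mul_pow_three_of_not_commute hcls.1 hrC hsC hnc]; simp [pow_succ]),
      map_one, Subgroup.coe_one]
  refine hB x fun y => ?_
  set z := y + ap g y + ap g (ap g y) with hz
  have hgz : ap g z = z := by
    rw [hz, ap_add, ap_add, ← ap_mul g g (ap g y), ← ap_mul (g * g) g, h3g, ap_one]; abel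
  have h1 : B x z = B x y := by
    rw [hz, b_add_right, b_add_right]
    have e1 : B x (ap g y) = B x y := by
      conv_lhs => rw [← hx, ap_b]
    have e2 : B x (ap g (ap g y)) = B x y := by
      conv_lhs => rw [← hx, ap_b, e1]
    rw [e1, e2, CharTwo.add_self_eq_zero, zero_add]
  have h2 : B x z = 0 := by
    have h := q_add (Q := Q) x z
    rw [hsing x hx, hsing z hgz, hsing (x + z) (by rw [ap_add, hx, hgz])] at h
    linear_combination -h
  rw [← h1, h2]

theorem IsTwist.dim_eight (hB : Nondeg Q) (hn : 8 ≤ Fintype.card ι) (hφ : IsTwist (OTwoE Q) φ) :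
    Fintype.card ι = 8 ∧ ∃ g : Grp Q, Fix0 g ∧ ∃ f : Fin 4 → (ι → ZMod 2), Planes g f := by
  classical
  have hcls := (otwo_model hB (show 6 ≤ Fintype.card ι by omega)).1.cls
  obtain ⟨a, b, ha, hb, hab⟩ : ∃ a b, Q a = 1 ∧ Q b = 1 ∧ B a b = 1 := by
    obtain ⟨c, hc, -⟩ := hcls.2.1
    obtain ⟨e, he, hce⟩ : ∃ e ∈ OTwoE Q, ¬ Commute c e := by
      by_contra! h
      have h1 : c ∈ Subgroup.center (Grp Q) := le_center_of_forall hcls.2.2 (H := Subgroup.zpowers c)
        (fun x hx e he => by
          obtain ⟨k, rfl⟩ := Subgroup.mem_zpowers_iff.1 hx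
          exact (h e he).symm.zpow_right k) (Subgroup.mem_zpowers c)
      rw [(otwo_model hB (show 6 ≤ Fintype.card ι by omega)).1.hZ, Subgroup.mem_bot] at h1
      exact ne_one_of_mem hcls.1 hc h1
    obtain ⟨a, ha, hra⟩ := otwo_refl hB hc
    obtain ⟨b, hb, hrb⟩ := otwo_refl hB he
    refine ⟨a, b, ha, hb, (two_cases _).resolve_left fun h => hce (refl_commute hra hrb h)⟩
  obtain ⟨_, _, u, -, -, -, -, X⟩ := hφ.fix0 hB (by omega) ha hb hab
  obtain ⟨m, hm, f, P⟩ := X.planes hB
  by_cases hm4 : m = 4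
  · subst hm4
    exact ⟨by omega, _, X, f, P⟩
  exfalso
  set g : Grp Q := ((φ u : commutator (Grp Q)) : Grp Q)
  have hm5 : 5 ≤ m := by omega
  -- a pair in the first plane
  obtain ⟨r, s, u', hr, hs, hrs, hu', X'⟩ := hφ.fix0 hB (by omega) (P.norm ⟨0, by omega⟩)
    (show Q (ap g (f ⟨0, by omega⟩)) = 1 by rw [ap_q, P.norm]) (X.pair (P.norm _))
  set q := (m - 1) / 4 with hq
  set e := (m - 1) % 4 / 3 with he
  let idx : Fin q ⊕ Fin e → Fin 4 → Fin m := fun k i => match k with
    | .inl k => ⟨1 + 4 * k.1 + i.1, by have := k.2; have := i.2; omega⟩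
    | .inr _ => if h : 1 + 4 * q + i.1 < m then ⟨1 + 4 * q + i.1, h⟩ else ⟨0, by omega⟩
  let v : (Fin q × Fin 2) ⊕ Fin e → Fin 4 → (ι → ZMod 2) := fun k => match k with
    | .inl k => planeBlock g f (idx (.inl k.1)) k.2
    | .inr k => planeBlock g f (idx (.inr k)) 0
  have i_inl : ∀ (k : Fin q) (i : Fin 4), (idx (.inl k) i).1 = 1 + 4 * k.1 + i.1 := fun _ _ => rfl
  have i_inr : ∀ (k : Fin e) (i : Fin 4), i.1 < 3 → (idx (.inr k) i).1 = 1 + 4 * q + i.1 := fun k i hi => by
    have := k.2
    have h : 1 + 4 * q + i.1 < m := by omega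
    simp only [idx, dif_pos h]
  have hgram : ∀ i : Fin 4 → Fin m, i 0 ≠ i 1 → i 0 ≠ i 2 → i 1 ≠ i 2 → Block Q (planeBlock g f i 0) := by
    intro i h01 h02 h12
    have hv := fun k => X.pair (P.norm k)
    have hw : ∀ k, B (ap g (f k)) (f k) = 1 := fun k => by rw [b_comm]; exact hv k
    refine ⟨fun a => ?_, ?_, ?_, ?_, ?_, ?_, ?_⟩
    · fin_cases a <;> simp [planeBlock, P.norm, ap_q, q_add, b_add_left, P.vv]
      decide
    all_goals simp [planeBlock, b_add_left, b_add_right, P.vv, Planes.ww X P, hv, hw, P.vw _ _ h01, P.vw _ _ h02,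
      P.vw _ _ h12, P.vw _ _ h01.symm, P.vw _ _ h02.symm, P.vw _ _ h12.symm, Planes.wv X P _ _ h01,
      Planes.wv X P _ _ h02, Planes.wv X P _ _ h12, Planes.wv X P _ _ h01.symm, Planes.wv X P _ _ h02.symm,
      Planes.wv X P _ _ h12.symm]
  have hgram' : ∀ i : Fin 4 → Fin m, Function.Injective i → Block Q (planeBlock g f i 1) ∧
      ∀ a b, B (planeBlock g f i 0 a) (planeBlock g f i 1 b) = 0 := by
    intro i hi
    have hv := fun k => X.pair (P.norm k)
    have hw : ∀ k, B (ap g (f k)) (f k) = 1 := fun k => by rw [b_comm]; exact hv k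
    have ne : ∀ x y : Fin 4, x ≠ y → i x ≠ i y := fun x y h e => h (hi e)
    have hz : ∀ x y : Fin 4, x ≠ y → B (f (i x)) (ap g (f (i y))) = 0 := fun x y h => P.vw _ _ (ne x y h)
    have hz' : ∀ x y : Fin 4, x ≠ y → B (ap g (f (i x))) (f (i y)) = 0 := fun x y h => Planes.wv X P _ _ (ne x y h)
    refine ⟨⟨fun a => ?_, ?_, ?_, ?_, ?_, ?_, ?_⟩, fun a b => ?_⟩
    · fin_cases a <;> simp [planeBlock, P.norm, ap_q, q_add, b_add_left, P.vv, Planes.ww X P,
        hz' 1 3 (by decide), hz' 2 3 (by decide)]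
      decide
    iterate 6
      simp [planeBlock, b_add_left, b_add_right, P.vv, Planes.ww X P, hv, hw, hz 3 1 (by decide), hz 3 2 (by decide),
        hz' 1 2 (by decide), hz' 2 3 (by decide), hz' 1 3 (by decide), hz 2 3 (by decide), hz' 3 2 (by decide),
        hz' 3 1 (by decide)]
    fin_cases a <;> fin_cases b <;> simp [planeBlock, b_add_left, b_add_right, P.vv, Planes.ww X P, hv, hw,
      hz 0 1 (by decide), hz 0 2 (by decide), hz 0 3 (by decide), hz 1 0 (by decide), hz 1 2 (by decide),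
      hz 1 3 (by decide), hz 2 0 (by decide), hz 2 1 (by decide), hz 2 3 (by decide), hz 3 0 (by decide),
      hz 3 1 (by decide), hz 3 2 (by decide), hz' 0 1 (by decide), hz' 0 2 (by decide), hz' 0 3 (by decide),
      hz' 1 0 (by decide), hz' 1 2 (by decide), hz' 1 3 (by decide), hz' 2 0 (by decide), hz' 2 1 (by decide),
      hz' 2 3 (by decide), hz' 3 0 (by decide), hz' 3 1 (by decide), hz' 3 2 (by decide)] <;> decide
  have hfar : ∀ (i j : Fin 4 → Fin m) (x y : Fin 2) (a b : Fin 4),
      (∀ p p' : Fin 4, (p.1 < 3 ∨ x = 1) → (p'.1 < 3 ∨ y = 1) → i p ≠ j p') →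
      B (planeBlock g f i x a) (planeBlock g f j y b) = 0 := by
    intro i j x y a b h
    have hv' : ∀ p p' : Fin 4, (p.1 < 3 ∨ x = 1) → (p'.1 < 3 ∨ y = 1) →
        B (f (i p)) (ap g (f (j p'))) = 0 ∧ B (ap g (f (i p))) (f (j p')) = 0 := fun p p' hp hp' =>
      ⟨P.vw _ _ (h p p' hp hp'), Planes.wv X P _ _ (h p p' hp hp')⟩
    fin_cases x <;> fin_cases y <;> fin_cases a <;> fin_cases b <;>
      simp [planeBlock, b_add_left, b_add_right, P.vv, Planes.ww X P, hv']
  have hoff : ∀ (i : Fin 4 → Fin m) (x : Fin 2) (a : Fin 4), (∀ p : Fin 4, (p.1 < 3 ∨ x = 1) → i p ≠ ⟨0, by omega⟩) →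
      B (f ⟨0, by omega⟩) (planeBlock g f i x a) = 0 ∧ B (ap g (f ⟨0, by omega⟩)) (planeBlock g f i x a) = 0 := by
    intro i x a h
    have h1 : ∀ p : Fin 4, (p.1 < 3 ∨ x = 1) → B (f ⟨0, by omega⟩) (ap g (f (i p))) = 0 ∧
        B (ap g (f ⟨0, by omega⟩)) (f (i p)) = 0 := fun p hp =>
      ⟨P.vw _ _ (Ne.symm (h p hp)), Planes.wv X P _ _ (Ne.symm (h p hp))⟩
    fin_cases x <;> fin_cases a <;> simp [planeBlock, b_add_right, P.vv, Planes.ww X P, h1]
  have hinj : ∀ k, Function.Injective (idx (.inl k)) := fun k x y h => by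
    have := congrArg Fin.val h
    rw [i_inl, i_inl] at this
    exact Fin.ext (by omega)
  have hthree : ∀ k, idx (.inr k) 0 ≠ idx (.inr k) 1 ∧ idx (.inr k) 0 ≠ idx (.inr k) 2 ∧
      idx (.inr k) 1 ≠ idx (.inr k) 2 := fun k => by
    refine ⟨?_, ?_, ?_⟩ <;> intro h <;> have h' := congrArg Fin.val h <;>
      rw [i_inr k _ (by decide), i_inr k _ (by decide)] at h' <;> simp at h'
  have F : Frame Q (f ⟨0, by omega⟩) (ap g (f ⟨0, by omega⟩)) v := by
    refine ⟨?_, ?_, ?_⟩
    · rintro (⟨k, x⟩ | k)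
      · fin_cases x
        · exact hgram _ ((hinj k).ne (by decide)) ((hinj k).ne (by decide)) ((hinj k).ne (by decide))
        · exact (hgram' _ (hinj k)).1
      · exact hgram _ (hthree k).1 (hthree k).2.1 (hthree k).2.2
    · rintro (⟨k, x⟩ | k) (⟨l, y⟩ | l) hkl a b
      · by_cases hk : k = l
        · subst hk
          fin_cases x <;> fin_cases y
          · exact absurd rfl hkl
          · exact (hgram' _ (hinj k)).2 a b
          · rw [b_comm]; exact (hgram' _ (hinj k)).2 b a
          · exact absurd rfl hkl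
        refine hfar _ _ _ _ a b fun p p' _ _ h => hk ?_
        have h' := congrArg Fin.val h
        rw [i_inl, i_inl] at h'
        dsimp only at h'
        exact Fin.ext (by omega)
      · refine hfar _ _ _ _ a b fun p p' _ hp' h => ?_
        have h' := congrArg Fin.val h
        rw [i_inl, i_inr l _ (hp'.resolve_right (by decide))] at h'
        dsimp only at h'
        have := k.2
        omega
      · refine hfar _ _ _ _ a b fun p p' hp _ h => ?_
        have h' := congrArg Fin.val h
        rw [i_inl, i_inr k _ (hp.resolve_right (by decide))] at h'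
        dsimp only at h'
        have := l.2
        omega
      · exact absurd (show k = l from Fin.ext (by have := k.2; have := l.2; omega)) fun h => hkl (by rw [h])
    · rintro (⟨k, x⟩ | k) a
      · refine hoff _ _ a fun p _ h => ?_
        have h' := congrArg Fin.val h
        rw [i_inl] at h'
        simp at h'
      · refine hoff _ _ a fun p hp h => ?_
        have h' := congrArg Fin.val h
        rw [i_inr k _ (hp.resolve_right (by decide))] at h'
        simp at h'
  obtain ⟨θ, hθi, hθc, hθm⟩ := exists_five hB F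
  have hmem : ∀ a, θ a ∈ commutator (Grp Q) := fun a => (Subgroup.closure_le _).2 (by
    rintro _ ⟨x, y, w, w', hw, hw', hx, hy, rfl⟩
    exact mul_mem_commutator hcls (otwo_mem hB hw hx) (otwo_mem hB hw' hy)) (hθm a)
  let ω : ((Fin q × Fin 2) ⊕ Fin e → Multiplicative (ZMod 5)) →* commutator (Grp Q) :=
    φ.toMonoidHom.comp (θ.codRestrict _ hmem)
  have hωi : Function.Injective ω := φ.injective.comp fun a b h => hθi (congrArg Subtype.val h)
  set g' : Grp Q := ((φ u' : commutator (Grp Q)) : Grp Q)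
  have hcomm : ∀ a, Commute g' ((ω a : commutator (Grp Q)) : Grp Q) := fun a => by
    have h : Commute u' (θ.codRestrict _ hmem a) := Subtype.ext (by
      show (u' : Grp Q) * θ a = θ a * u'
      rw [hu']
      exact (((hθc a r (Or.inl hr)).symm.mul_left (hθc a s (Or.inr hs)).symm)).eq)
    exact (h.map φ.toMonoidHom).map (commutator (Grp Q)).subtype
  let ρ := (grpEnd Q).comp ((commutator (Grp Q)).subtype.comp ω)
  have ctx : FiveCtx (QuadraticMap.polarBilin Q) (grpEnd Q g') ρ :=
    { dvd := fun d hd => by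
        have h1 := Nat.div_add_mod d 4
        rcases (by omega : d % 4 = 0 ∨ d % 4 = 1 ∨ d % 4 = 2 ∨ d % 4 = 3) with h | h | h | h
        · exact Nat.dvd_of_mod_eq_zero h
        all_goals
          exfalso
          have h5 : (16 : ℕ) ^ (d / 4) % 5 = 1 := by rw [Nat.pow_mod]; norm_num
          have hpos : 1 ≤ (16 : ℕ) ^ (d / 4) := Nat.one_le_pow _ _ (by norm_num)
          rw [← h1, h, pow_add, pow_mul] at hd
          norm_num at hd
          omega
      p_sq := by norm_num
      five := by decide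
      exp := fun a => funext fun k => by
        exact five_exp (a k)
      pres := fun a x y => ap_b _ x y
      comm := fun a => (hcomm a).map (grpEnd Q)
      g_pres := fun x y => ap_b _ x y
      g_sq := fun x hx => by
        have hgx : ap g' x = 0 := left_eq_add.1 ((hx : ap g' (ap g' x) = x).symm.trans (X'.sq x))
        exact ap_inj g' (hgx.trans (ap_zero g').symm)
      g_pow := by
        rw [← map_pow, show (2 : ℕ) ^ 2 = 3 + 1 from rfl, pow_succ]
        congr 1
        rw [show g' ^ 3 = g' * g' * g' by simp [pow_succ], X'.three, one_mul] }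
  have hreg : Reg (QuadraticMap.polarBilin Q) ⊤ := fun x _ h => hB x fun y => h y trivial
  have hb := ctx.card_le hreg ((grpEnd_injective Q).comp (Subtype.val_injective.comp hωi))
  rw [Module.finrank_fintype_fun_eq_card, Nat.card_pi, Finset.prod_const, Finset.card_univ, Fintype.card_sum,
    Fintype.card_prod, Fintype.card_fin, Fintype.card_fin, Fintype.card_fin] at hb
  rw [show Nat.card (Multiplicative (ZMod 5)) = 5 by simp, ← pow_mul] at hb
  have := (Nat.pow_le_pow_iff_right (by norm_num)).1 hb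
  omega

theorem otwo_goal (hB : Nondeg Q) (hn : 8 ≤ Fintype.card ι) (hφ : IsTwist (OTwoE Q) φ) : Goal (OTwoE Q) := by
  obtain ⟨h8, g, X, f, P⟩ := hφ.dim_eight hB hn
  have hcls := (otwo_model hB (show 6 ≤ Fintype.card ι by omega)).1.cls
  obtain ⟨E⟩ := eight_hyperbolic hB X P h8
  refine ⟨Or.inl ⟨comEquiv E⟩, ?_⟩
  obtain ⟨r, hr⟩ := exists_refl hB (show Q (f 0) ≠ 0 by rw [P.norm]; exact one_ne_zero)
  obtain ⟨s, hs⟩ := exists_refl hB (show Q (ap g (f 0)) ≠ 0 by rw [ap_q, P.norm]; exact one_ne_zero)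
  obtain ⟨x, hx⟩ := exists_refl hB (show Q (f 1) ≠ 0 by rw [P.norm]; exact one_ne_zero)
  have hrC := otwo_mem hB (P.norm 0) hr
  have hsC := otwo_mem hB (show Q (ap g (f 0)) = 1 by rw [ap_q, P.norm]) hs
  have hrs : r ≠ s := fun e => by
    have h := FischerClass.refl_vec hB (P.norm 0) hr (e ▸ hs)
    have hp := X.pair (P.norm 0)
    rw [← h, self_zero] at hp
    exact zero_ne_one hp
  refine ⟨⟨r * s, mul_mem_commutator hcls hrC hsC⟩, r, s, x, hrC, hsC, otwo_mem hB (P.norm 1) hx, hrs, rfl,
    (refl_commute hx hr (P.vv 1 0)).mul_right (refl_commute hx hs (P.vw 1 0 (by decide))), fun ψ hψ => ?_⟩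
  have hX : ∀ i, Fix0 ((ψ i ⟨r * s, mul_mem_commutator hcls hrC hsC⟩ : commutator (Grp Q)) : Grp Q) := fun i => by
    obtain ⟨r', s', u, hr', hs', -, hu, X'⟩ := (hψ i).fix0 hB (by omega) (P.norm 0)
      (show Q (ap g (f 0)) = 1 by rw [ap_q, P.norm]) (X.pair (P.norm 0))
    obtain rfl : r' = r := refl_unique hr' hr
    obtain rfl : s' = s := refl_unique hs' hs
    rwa [show u = ⟨r' * s', mul_mem_commutator hcls hrC hsC⟩ from Subtype.ext hu] at X'
  obtain ⟨a, ha⟩ := (hX 0).conj hB (hX 1) (m := 4) h8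
  obtain ⟨b, hb⟩ := (hX 0).conj hB (hX 2) (m := 4) h8
  have hidx := index_le_two_of_commutator_le hcls (le_refl (commutator (Grp Q)))
  rcases two_of_three hidx (a := a) (b := b) with h | h | h
  · exact ⟨0, 1, by decide, ⟨a, h⟩, Subtype.ext ha.symm⟩
  · exact ⟨0, 2, by decide, ⟨b, h⟩, Subtype.ext hb.symm⟩
  · refine ⟨1, 2, by decide, ⟨_, h⟩, Subtype.ext ?_⟩
    simp only [Subgroup.coe_mul, InvMemClass.coe_inv]
    rw [← hb, ← ha]
    group

end CfsgLib.Discon
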