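import Cfsg.Agent.Lib.Discon.Twist
import Cfsg.Agent.Lib.FischerClass.Models
import Cfsg.Agent.Lib.Classical.UnitaryOrder
import Cfsg.Agent.S5373
import Cfsg.Agent.S5374
import Cfsg.Agent.S5401

/-!
Classes without twists: transpositions, symplectic and unitary transvections, and the two smaller
exceptional types.
-/

set_option autoImplicit false
set_option linter.style.haveILetI false
set_option linter.unusedSectionVars false

namespace CfsgLib.Discon

open Cfsg
open CfsgLib.HePres (K4)
open CfsgLib.FischerClass CfsgLib.ThreeTransp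
open scoped commutatorElement

universe u

variable {H : Type u} [Group H] [Finite H] {C : Set H}

/-- The product of two members lies in the derived subgroup. -/
theorem mul_mem_commutator (hC : IsThreeTranspositionClass C) {c c' : H} (hc : c ∈ C) (hc' : c' ∈ C) :
    c * c' ∈ commutator H := by
  obtain ⟨g, rfl⟩ := class_exists_conj hC hc hc'
  have h : c * (g * c * g⁻¹) = ⁅c, g⁆ := by
    rw [commutatorElement_def, inv_eq_self hC.1 hc]; group
  rw [h]
  exact Subgroup.commutator_mem_commutator (Subgroup.mem_top c) (Subgroup.mem_top g)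

variable {φ : commutator H ≃* commutator H} (hC : IsThreeTranspositionClass C) (hφ : IsTwist C φ)
include hC hφ

/-- The image of the product of two commuting members is an involution moving all members. -/
theorem IsTwist.image_invol {c c' : H} (hc : c ∈ C) (hc' : c' ∈ C) (hne : c ≠ c') (hcom : Commute c c') :
    ∃ g : H, (g * g = 1 ∧ g ≠ 1) ∧ (∀ x ∈ C, ¬ Commute g x) ∧
      g = ((φ ⟨c * c', mul_mem_commutator hC hc hc'⟩ : commutator H) : H) := by
  refine ⟨_, ⟨?_, hφ.ne_one _ hc hc' hne rfl⟩, hφ.fpf _ c hc c' hc' hne rfl, rfl⟩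
  rw [← Subgroup.coe_mul, ← map_mul, show (⟨c * c', mul_mem_commutator hC hc hc'⟩ : commutator H) *
    ⟨c * c', mul_mem_commutator hC hc hc'⟩ = 1 from Subtype.ext ?_, map_one, Subgroup.coe_one]
  show c * c' * (c * c') = 1
  rw [← pow_two]
  exact (commute_iff_mul_pow_two hC.1 hc hc').1 hcom

/-- An involution moving every member, for a class in a non-solvable group. -/
theorem IsTwist.exists_invol (hns : ¬ Group.IsSolvable H) :
    ∃ g : H, (g * g = 1 ∧ g ≠ 1) ∧ ∀ x ∈ C, ¬ Commute g x := by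
  obtain ⟨c, hc, c', hc', hne, hcom⟩ := exists_commuting_pair hC.1 (class_conjClosed hC) hC.2.2 hns
  obtain ⟨g, h1, h2, -⟩ := hφ.image_invol hC hc hc' hne hcom
  exact ⟨g, h1, h2⟩

omit hC hφ in
/-- Every involution of a symmetric group commutes with a transposition. -/
theorem sym_no_invol {n : ℕ} {g : Equiv.Perm (Fin n)} (hg : g * g = 1) (h1 : g ≠ 1) :
    ∃ x ∈ SymE n, Commute g x := by
  obtain ⟨i, hi⟩ : ∃ i, g i ≠ i := by
    by_contra! h
    exact h1 (Equiv.ext fun i => by simpa using h i)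
  refine ⟨Equiv.swap i (g i), ⟨i, g i, Ne.symm hi, rfl⟩, ?_⟩
  have h2 : g (g i) = i := by rw [← Equiv.Perm.mul_apply, hg, Equiv.Perm.one_apply]
  have h := Equiv.swap_apply_apply g i (g i)
  rw [h2, Equiv.swap_comm] at h
  show g * Equiv.swap i (g i) = Equiv.swap i (g i) * g
  calc g * Equiv.swap i (g i) = g * Equiv.swap i (g i) * g⁻¹ * g := by group
    _ = _ := by rw [← h]

omit hC hφ in
open CfsgLib.Classical.SympTrans in
/-- Every involution of a binary symplectic group commutes with a transvection. -/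
theorem symp_no_invol {m : ℕ} (hm : 1 ≤ m) {g : Matrix.symplecticGroup (Fin m) (ZMod 2)} (hg : g * g = 1) :
    ∃ x ∈ SpE m, Commute g x := by
  obtain ⟨v, hv, hfix⟩ : ∃ v : SV m, v ≠ 0 ∧ app g v = v := by
    let v₀ : SV m := Pi.single (.inl ⟨0, hm⟩) 1
    have hv₀ : v₀ ≠ 0 := fun e => one_ne_zero (α := ZMod 2) (by
      simpa [v₀] using congrFun e (.inl ⟨0, hm⟩))
    have hgg : app g (app g v₀) = v₀ := by rw [← app_mul, hg, app_one]
    by_cases h : app g v₀ = v₀
    · exact ⟨v₀, hv₀, h⟩
    refine ⟨v₀ + app g v₀, fun e => h ?_, ?_⟩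
    · have : app g v₀ = -v₀ := eq_neg_of_add_eq_zero_right e
      rw [this]
      exact funext fun i => ZMod.neg_eq_self_mod_two _
    · show Matrix.mulVec _ (v₀ + app g v₀) = _
      rw [Matrix.mulVec_add]
      exact (congrArg₂ (· + ·) rfl hgg).trans (add_comm _ _)
  refine ⟨T v 1, sT_rank hv, ?_⟩
  show g * T v 1 = T v 1 * g
  have h := conj_T g v (1 : ZMod 2)
  rw [hfix] at h
  exact mul_inv_eq_iff_eq_mul.1 h

omit hC hφ in
open CfsgLib.Classical.Herm (app IsT exists_T app_mul app_one ext_app h_app) in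
/-- Every involution of a projective unitary group over the field with four elements commutes with
the image of a transvection. -/
theorem psu_no_invol {n : ℕ} (hn : 4 ≤ n) {g : Cfsg.PSU n K4 2} (hg : g * g = 1) (h1 : g ≠ 1) :
    ∃ x ∈ PsuE n, Commute g x := by
  have hF : Fintype.card K4 = 4 := K4.card_eq
  haveI : Fact (Nat.Prime 2) := ⟨Nat.prime_two⟩
  haveI := FischerO2.F4.charTwo hF
  obtain ⟨K⟩ := FischerO2.exists_conjF hF
  obtain ⟨t, rfl⟩ := QuotientGroup.mk'_surjective (Subgroup.center (Cfsg.SU n K4 2)) g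
  set π := QuotientGroup.mk' (Subgroup.center (Cfsg.SU n K4 2))
  have ht : t * t ∈ Subgroup.center (Cfsg.SU n K4 2) :=
    (QuotientGroup.eq_one_iff _).1 (show π (t * t) = 1 by rw [map_mul]; exact hg)
  set s := t * (t * t)
  have hπ : π s = π t := by rw [map_mul, map_mul, hg, mul_one]
  have hz : (t * t) ^ 3 = 1 := by
    have h := Classical.Herm.card_center K (show 2 ≤ n by omega)
    refine orderOf_dvd_iff_pow_eq_one.1 ((Subgroup.orderOf_dvd_natCard _ ht).trans ?_)
    rw [h]
    exact Nat.gcd_dvd_right n (2 + 1)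
  have hs : s * s = 1 := by
    rw [← hz]
    simp only [s, pow_succ, pow_zero, one_mul, mul_assoc]
  obtain ⟨w, hw⟩ : ∃ w, app s w ≠ w := by
    by_contra! h
    refine h1 ?_
    rw [← hπ, show s = 1 from ext_app fun x => (h x).trans (app_one x).symm, map_one]
  set v : UV n := w + app s w with hv
  have hv0 : v ≠ 0 := fun e => hw (funext fun i => by
    have h := congrFun e i
    simp only [hv, Pi.add_apply, Pi.zero_apply] at h
    calc app s w i = (w i + w i) + app s w i := by rw [k4_add, zero_add]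
      _ = w i + (w i + app s w i) := add_assoc _ _ _
      _ = w i := by rw [h, add_zero])
  have hsw : app s (app s w) = w := by rw [← app_mul, hs, app_one]
  have hvv : uh v v = 0 := by
    rw [hv, uh_add_left, uh_add_right, uh_add_right, show uh (app s w) (app s w) = uh w w from h_app s w w]
    have h := h_app s (app s w) w
    rw [hsw] at h
    rw [show uh w (app s w) = uh (app s w) w from h]
    calc uh w w + uh (app s w) w + (uh (app s w) w + uh w w)
        = (uh w w + uh w w) + (uh (app s w) w + uh (app s w) w) := by ring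
      _ = 0 := by rw [k4_add, k4_add, add_zero]
  have hfix : app s v = v := by
    rw [hv, Classical.Herm.app_add, hsw, add_comm]
  obtain ⟨T, hT⟩ := exists_T K hvv (FischerO2.isT_one_add hF K)
  have hconj := FischerO2.isT_conj K hT s
  rw [hfix] at hconj
  have heq : s * T * s⁻¹ = T := FischerO2.isT_unique K hconj hT (c := 1) (one_pow 3) (one_smul _ _).symm
  refine ⟨π T, ⟨T, uT_rank K hv0 hT, rfl⟩, ?_⟩
  rw [← hπ]
  have hcom : Commute s T := mul_inv_eq_iff_eq_mul.1 heq
  exact hcom.map π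

theorem IsTwist.not_m23 (hns : ¬ Group.IsSolvable H) (hprim : IsPrimitiveUnderConj C)
    (ht : IsOfTypeM23 H C) : False := by
  classical
  obtain ⟨g, ⟨hg, -⟩, hfpf⟩ := hφ.exists_invol hC hns
  have hcard := (Cfsg.Agent.S5374.result (class_isGroup hC) hprim ht Cfsg.Agent.S5401.result.2.2).2.1
  have hc := class_conjClosed hC
  haveI : Fintype ↥C := Fintype.ofFinite _
  let σ : Equiv.Perm ↥C :=
    { toFun := fun x => ⟨g * x * g⁻¹, hc g x x.2⟩
      invFun := fun x => ⟨g⁻¹ * x * g⁻¹⁻¹, hc g⁻¹ x x.2⟩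
      left_inv := fun x => Subtype.ext (by group)
      right_inv := fun x => Subtype.ext (by group) }
  have hσ : σ ^ 2 ^ 1 = 1 := by
    rw [pow_one, pow_two]
    refine Equiv.ext fun x => Subtype.ext ?_
    show g * (g * x * g⁻¹) * g⁻¹ = x
    calc g * (g * x * g⁻¹) * g⁻¹ = (g * g) * x * (g * g)⁻¹ := by group
      _ = x := by rw [hg, one_mul, inv_one, mul_one]
  haveI : Fact (Nat.Prime 2) := ⟨Nat.prime_two⟩
  obtain ⟨x, hx⟩ := Equiv.Perm.exists_fixed_point_of_prime (p := 2) (n := 1) (by
    rw [← Nat.card_eq_fintype_card]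
    show ¬ 2 ∣ C.ncard
    rw [hcard]; norm_num) hσ
  exact hfpf x x.2 (mul_inv_eq_iff_eq_mul.1 (congrArg Subtype.val hx : g * (x : H) * g⁻¹ = x))

/-- Three members commuting pairwise give a four-group moving every member. -/
theorem IsTwist.four_dvd {a b c : H} (ha : a ∈ C) (hb : b ∈ C) (hcC : c ∈ C) (hab : a ≠ b) (hac : a ≠ c)
    (hbc : b ≠ c) (cab : Commute a b) (cac : Commute a c) (cbc : Commute b c) : 4 ∣ C.ncard := by
  classical
  obtain ⟨g, ⟨hg2, hg1⟩, hgf, hge⟩ := hφ.image_invol hC ha hb hab cab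
  obtain ⟨k, ⟨hk2, hk1⟩, hkf, hke⟩ := hφ.image_invol hC hb hcC hbc cbc
  obtain ⟨l, ⟨hl2, hl1⟩, hlf, hle⟩ := hφ.image_invol hC ha hcC hac cac
  have hgk : g * k = l := by
    rw [hge, hke, hle, ← Subgroup.coe_mul, ← map_mul]
    congr 2
    refine Subtype.ext ?_
    show a * b * (b * c) = a * c
    rw [mul_assoc, mul_self_cancel hC.1 hb]
  have hkg : k * g = l := by
    have h : l⁻¹ = l := inv_eq_of_mul_eq_one_right hl2
    rw [← h, ← hgk, mul_inv_rev, inv_eq_of_mul_eq_one_right hg2, inv_eq_of_mul_eq_one_right hk2]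
  let S : Subgroup H :=
    { carrier := {1, g, k, l}
      one_mem' := Or.inl rfl
      mul_mem' := by
        have e1 : g * l = k := by rw [← hgk, ← mul_assoc, hg2, one_mul]
        have e2 : l * g = k := by rw [← hkg, mul_assoc, hg2, mul_one]
        have e3 : k * l = g := by rw [← hkg, ← mul_assoc, hk2, one_mul]
        have e4 : l * k = g := by rw [← hgk, mul_assoc, hk2, mul_one]
        rintro x y (rfl | rfl | rfl | rfl) (rfl | rfl | rfl | rfl) <;>
          simp [hg2, hk2, hl2, hgk, hkg, e1, e2, e3, e4]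
      inv_mem' := by
        rintro x (rfl | rfl | rfl | rfl) <;>
          simp [inv_eq_of_mul_eq_one_right hg2, inv_eq_of_mul_eq_one_right hk2, inv_eq_of_mul_eq_one_right hl2] }
  have hS4 : Nat.card S = 4 := by
    show Set.ncard ({1, g, k, l} : Set H) = 4
    have h1 : g ≠ k := fun e => hl1 (by rw [← hgk, e]; exact hk2)
    have h2 : g ≠ l := fun e => hk1 (by
      have := hgk; rw [← e] at this; exact mul_eq_left.1 this)
    have h3 : k ≠ l := fun e => hg1 (by
      have := hkg; rw [← e] at this; exact mul_eq_left.1 this)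
    rw [Set.ncard_insert_of_notMem (by simp [hg1.symm, hk1.symm, hl1.symm]),
      Set.ncard_insert_of_notMem (by simp [h1, h2]), Set.ncard_insert_of_notMem (by simp [h3]),
      Set.ncard_singleton]
  have hc := class_conjClosed hC
  letI : MulAction S ↥C :=
    { smul := fun s x => ⟨(s : H) * x * (s : H)⁻¹, hc _ x x.2⟩
      one_smul := fun x => Subtype.ext (by show ((1 : S) : H) * x * ((1 : S) : H)⁻¹ = x; simp)
      mul_smul := fun s t x => Subtype.ext (by
        show ((s * t : S) : H) * x * ((s * t : S) : H)⁻¹ = (s : H) * ((t : H) * x * (t : H)⁻¹) * (s : H)⁻¹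
        rw [Subgroup.coe_mul]; group) }
  show 4 ∣ Nat.card ↥C
  have hfree : ∀ x : ↥C, MulAction.stabilizer S x = ⊥ := ?_
  · rw [Nat.card_congr (MulAction.selfEquivOrbitsQuotientProd hfree), Nat.card_prod, hS4]
    exact dvd_mul_left 4 _
  intro x
  refine (Subgroup.eq_bot_iff_forall _).2 fun s hs => ?_
  have hsx : (s : H) * x * (s : H)⁻¹ = x := congrArg Subtype.val (MulAction.mem_stabilizer_iff.1 hs)
  rcases s.2 with h | h | h | h
  · exact Subtype.ext h
  all_goals exfalso; rw [h] at hsx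
  · exact hgf x x.2 (mul_inv_eq_iff_eq_mul.1 hsx)
  · exact hkf x x.2 (mul_inv_eq_iff_eq_mul.1 hsx)
  · exact hlf x x.2 (mul_inv_eq_iff_eq_mul.1 hsx)

theorem IsTwist.not_m22 (hprim : IsPrimitiveUnderConj C) (ht : IsOfTypeM22 H C) : False := by
  classical
  obtain ⟨hcard, -, hw, -⟩ := Cfsg.Agent.S5373.result (class_isGroup hC) hprim ht Cfsg.Agent.S5401.result.2.2
  obtain ⟨E, hEC, -, hEc, hE⟩ : (22 : ℕ) ∈
      {n : ℕ | ∃ E : Set H, E ⊆ C ∧ E.Finite ∧ (∀ a ∈ E, ∀ b ∈ E, Commute a b) ∧ E.ncard = n} := by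
    rw [← hw]
    refine Nat.sSup_mem ⟨0, ∅, Set.empty_subset _, Set.finite_empty, by simp, Set.ncard_empty H⟩ ⟨Nat.card H, ?_⟩
    rintro n ⟨E, -, -, -, rfl⟩
    rw [← Set.ncard_univ]
    exact Set.ncard_le_ncard (Set.subset_univ E) (Set.toFinite _)
  obtain ⟨a, ha, b, hb, c, hc, hab, hac, hbc⟩ := (Set.two_lt_ncard (Set.toFinite E)).1 (by omega)
  have h := hφ.four_dvd hC (hEC ha) (hEC hb) (hEC hc) hab hac hbc (hEc a ha b hb) (hEc a ha c hc) (hEc b hb c hc)
  rw [hcard] at h
  norm_num at h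

end CfsgLib.Discon
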