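import Cfsg.Agent.Lib.Discon.Twist
import Cfsg.Agent.Lib.ThreeTransp.Main
import Cfsg.Agent.Lib.ThreeTransp.Primitive
import Cfsg.Agent.Lib.FischerO2.Recog

/-!
A class of 3-transpositions with disconnected commuting graph: the components are three in number and
each gives a twist of the class that a single component generates.
-/

set_option autoImplicit false
set_option linter.style.haveILetI false
set_option linter.unusedSectionVars false

namespace CfsgLib.Discon

open Cfsg CfsgLib.ThreeTransp
open scoped commutatorElement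

universe u

/-- The hypothesis to be proved for each model. -/
def CaseHyp : Prop :=
  ∀ {H : Type u} [Group H] [Finite H] {C : Set H}, IsThreeTranspositionClass C →
    Subgroup.center H = ⊥ → IsSimpleGroup (commutator H) →
    (∃ x y : commutator H, x * y ≠ y * x) → ∀ φ, IsTwist C φ → Goal C

variable {G : Type u} [Group G] [Finite G]

/-- The standing hypotheses. -/
structure Setting (D : Set G) : Prop where
  cls : IsThreeTranspositionClass D
  hZ : Subgroup.center G = ⊥
  h2 : Cfsg.pCore 2 G = ⊥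
  h3 : Cfsg.pCore 3 G = ⊥
  disc : ¬ (Cfsg.commutingGraph D).Connected

variable {D : Set G} (X : Setting D)
include X

theorem Setting.two : ∃ a ∈ D, ∃ b ∈ D, a ≠ b := by
  by_contra! h
  obtain ⟨d, hd, -⟩ := X.cls.2.1
  haveI : Nonempty D := ⟨⟨d, hd⟩⟩
  refine X.disc ⟨fun x y => ?_⟩
  rw [Subtype.ext (h x x.2 y y.2) (p := fun z => z ∈ D)]

theorem Setting.layer_facts : IsComponent (layer G) ∧ IsSimpleGroup (layer G) ∧
    generalizedFittingSubgroup G = layer G ∧
    Subgroup.centralizer (layer G : Set G) = ⊥ ∧ (layer G).Normal := by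
  obtain ⟨hc, hq, hF⟩ := layer_structure X.cls X.two (X.h2 ▸ bot_le) (X.h3 ▸ bot_le)
  haveI hn := component_normal X.cls hc
  rw [X.hZ, sup_bot_eq] at hF
  have hfit : fittingSubgroup G = ⊥ := le_bot_iff.1 (X.hZ ▸
    fittingSubgroup_le_center X.cls.1 (class_conjClosed X.cls) X.cls.2.2 (X.h2 ▸ bot_le) (X.h3 ▸ bot_le))
  have hcz : Subgroup.centralizer (layer G : Set G) = ⊥ := by
    have h1 : Subgroup.centralizer (layer G : Set G) ≤ layer G := by
      have := Layer.centralizer_generalizedFitting_le (G := G)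
      rwa [hF] at this
    refine le_bot_iff.1 (hfit ▸ le_trans (le_inf h1 le_rfl) Layer.layer_inf_centralizer_le_fitting)
  refine ⟨hc, ?_, hF, hcz, hn⟩
  haveI : Nontrivial (layer G) := (Subgroup.nontrivial_iff_ne_bot _).2 (Layer.ne_bot_of_isComponent hc)
  refine ⟨fun N hN => ?_⟩
  rcases Layer.eq_top_or_le_center_of_normal hq N with h | h
  · exact Or.inr h
  · refine Or.inl ((Subgroup.eq_bot_iff_forall _).2 fun z hz => Subtype.ext ?_)
    have hz' : (z : G) ∈ Subgroup.centralizer (layer G : Set G) :=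
      Subgroup.mem_centralizer_iff.2 fun y hy => congrArg Subtype.val (Subgroup.mem_center_iff.1 (h hz) ⟨y, hy⟩)
    rw [hcz, Subgroup.mem_bot] at hz'
    exact hz'

theorem Setting.layer_not_solvable : ¬ Group.IsSolvable (layer G) :=
  Layer.not_isSolvable_of_isComponent X.layer_facts.1

theorem Setting.layer_nonab : ∃ x y : layer G, x * y ≠ y * x := by
  by_contra! h
  exact X.layer_not_solvable (Group.isSolvable_of_comm h)

/-- Members in one component are conjugated into their component by the layer. -/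
theorem Setting.layer_fix {l : G} (hl : l ∈ layer G) {x : G} (hx : x ∈ D) :
    CommReach D x (l * x * l⁻¹) := by
  obtain ⟨-, hs, -, hcz, hn⟩ := X.layer_facts
  haveI := hs
  haveI := hn
  have hc := class_conjClosed X.cls
  have hS := X.cls.1
  have hR := commReach_isInvariantEquiv (D := D) hc
  set M := classKernel hc (CommReach D) hR with hM
  haveI : M.Normal := classKernel_normal hc _ hR
  suffices hLM : layer G ≤ M from hR.symm (hLM hl x hx)
  rcases Subgroup.Normal.eq_bot_or_eq_top (inferInstance : (M.subgroupOf (layer G)).Normal) with h | h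
  swap
  · exact Subgroup.subgroupOf_eq_top.1 h
  exfalso
  rw [Subgroup.subgroupOf_eq_bot] at h
  have hbot : M = ⊥ := le_bot_iff.1 (hcz ▸ Subgroup.commutator_eq_bot_iff_le_centralizer.1
    (le_bot_iff.1 (le_trans (le_inf (Subgroup.commutator_le_left M (layer G))
      (Subgroup.commutator_le_right M (layer G))) (disjoint_iff.1 h).le)))
  have hns : ¬ Group.IsSolvable G := fun hs' => X.layer_not_solvable inferInstance
  obtain ⟨d, hd, e, he, hde, hcom⟩ := exists_commuting_pair hS hc X.cls.2.2 hns
  refine hde ?_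
  have hmem : d * e ∈ M := by
    intro a ha
    -- conjugation by `d` and by `e` agree modulo the relation
    have key : CommReach D (d * a * d) (e * a * e) := by
      have hde' : CommReach D d e := commReach_of_commute hd he hcom
      by_cases h1 : Commute d a <;> by_cases h2 : Commute e a
      · rw [conj_eq_of_commute hS hd h1, conj_eq_of_commute hS he h2]; exact hR.refl a
      · rw [conj_eq_of_commute hS hd h1, braid hS he ha h2]
        have h3 := hR.map a (hR.trans (commReach_of_commute ha hd h1.symm) hde')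
        rwa [conj_eq hS ha, conj_eq hS ha, mul_self_eq_one hS ha, one_mul] at h3
      · rw [conj_eq_of_commute hS he h2, braid hS hd ha h1]
        have h3 := hR.map a (hR.trans hde' (commReach_of_commute he ha h2))
        rwa [conj_eq hS ha, conj_eq hS ha, mul_self_eq_one hS ha, one_mul] at h3
      · rw [braid hS hd ha h1, braid hS he ha h2]
        have h3 := hR.map a hde'
        rwa [conj_eq hS ha, conj_eq hS ha] at h3
    have h4 := hR.map d key
    rw [conj_eq hS hd, conj_conj hS hd] at h4
    refine hR.symm ?_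
    rwa [conj_eq hS hd, show d * (e * a * e) * d = d * e * a * (d * e)⁻¹ by
      rw [mul_inv_rev, inv_eq_self hS hd, inv_eq_self hS he]; group] at h4
  rw [hbot, Subgroup.mem_bot] at hmem
  exact (eq_inv_of_mul_eq_one_left hmem).trans (inv_eq_self hS he)

theorem Setting.not_mem_layer {d : G} (hd : d ∈ D) : d ∉ layer G := by
  intro h
  haveI := X.layer_facts.2.2.2.2
  have hc := class_conjClosed X.cls
  have htop : layer G = ⊤ := eq_top_of_subset X.cls.2.2 fun e he => by
    obtain ⟨g, rfl⟩ := class_exists_conj X.cls hd he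
    exact Subgroup.Normal.conj_mem inferInstance d h g
  haveI : Nonempty D := ⟨⟨d, hd⟩⟩
  refine X.disc ⟨fun x y => ?_⟩
  obtain ⟨g, hg⟩ := class_exists_conj X.cls x.2 y.2
  rcases X.layer_fix (htop ▸ Subgroup.mem_top g) x.2 with h' | ⟨_, _, h'⟩
  · rw [show y = x from Subtype.ext (hg ▸ h'.symm)]
  · have he : y = ⟨g * (x : G) * g⁻¹, hg.symm ▸ y.2⟩ := Subtype.ext hg.symm
    rw [he]
    exact h'

theorem Setting.congr_of_reach {a b : G} (h : CommReach D a b) : a⁻¹ * b ∈ layer G := by
  obtain ⟨hL, -, -, -, hn⟩ := X.layer_facts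
  haveI := hn
  rcases h with rfl | ⟨ha, hb, h⟩
  · simp
  obtain ⟨p⟩ := h
  suffices h : ∀ {x y : D}, (commutingGraph D).Walk x y → (x : G)⁻¹ * (y : G) ∈ layer G from h p
  intro x y p
  induction p with
  | nil => simp
  | @cons u v w h p ih =>
    have h1 : (u : G)⁻¹ * (v : G) ∈ layer G := by
      refine congr_mod_layer X.cls hL u.2 v.2 ?_
      have h' : Commute (u : G) (v : G) := by
        simp only [commutingGraph, SimpleGraph.fromRel_adj] at h
        exact h.2.elim id Commute.symm
      rw [h'.eq, mul_inv_cancel_right, mul_inv_cancel]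
      exact one_mem _
    simpa [mul_assoc] using mul_mem h1 ih

theorem Setting.pow_cases {d : G} (hd : d ∈ D) {y : G} (hy : y ∈ Subgroup.zpowers d) : y = 1 ∨ y = d := by
  obtain ⟨k, rfl⟩ := Subgroup.mem_zpowers_iff.1 hy
  have hS := X.cls.1
  rcases Int.even_or_odd k with ⟨j, rfl⟩ | ⟨j, rfl⟩
  · left; rw [← two_mul, zpow_mul, zpow_two, mul_self_eq_one hS hd, one_zpow]
  · right; rw [zpow_add, zpow_mul, zpow_two, mul_self_eq_one hS hd, one_zpow, one_mul, zpow_one]

omit X in
/-- The subgroup generated by the layer and a member. -/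
abbrev piece (d : G) : Subgroup G := layer G ⊔ Subgroup.zpowers d

theorem Setting.mem_piece {d : G} (hd : d ∈ D) {x : G} (hx : x ∈ piece d) :
    x ∈ layer G ∨ x * d ∈ layer G := by
  haveI := X.layer_facts.2.2.2.2
  obtain ⟨l, hl, y, hy, rfl⟩ := Subgroup.mem_sup_of_normal_left.1 hx
  rcases X.pow_cases hd hy with rfl | rfl
  · exact Or.inl (by simpa using hl)
  · exact Or.inr (by rw [mul_self_cancel_right X.cls.1 hd]; exact hl)

theorem Setting.conj_mem_piece {d : G} (hd : d ∈ D) {l : G} (hl : l ∈ layer G) : l * d * l⁻¹ ∈ piece d :=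
  mul_mem (mul_mem (Subgroup.mem_sup_left hl) (Subgroup.mem_sup_right (Subgroup.mem_zpowers d)))
    (inv_mem (Subgroup.mem_sup_left hl))

theorem Setting.closure_orbit {d : G} (hd : d ∈ D) :
    layer G ≤ Subgroup.closure {x : G | ∃ l ∈ layer G, x = l * d * l⁻¹} := by
  obtain ⟨-, hs, -, hcz, hn⟩ := X.layer_facts
  haveI := hs
  haveI := hn
  set O := {x : G | ∃ l ∈ layer G, x = l * d * l⁻¹}
  set P := Subgroup.closure O with hP
  have hnorm : layer G ≤ Subgroup.normalizer (P : Set G) := by
    intro k hk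
    refine Subgroup.mem_normalizer_fintype fun x hx => ?_
    have hmap : P.map (MulAut.conj k).toMonoidHom ≤ P := by
      rw [hP, MonoidHom.map_closure, Subgroup.closure_le]
      rintro _ ⟨_, ⟨l, hl, rfl⟩, rfl⟩
      exact Subgroup.subset_closure ⟨k * l, mul_mem hk hl, by simp [mul_assoc]⟩
    exact hmap ⟨x, hx, rfl⟩
  haveI : (P.subgroupOf (layer G)).Normal := Subgroup.normal_subgroupOf_of_le_normalizer hnorm
  rcases Subgroup.Normal.eq_bot_or_eq_top (inferInstance : (P.subgroupOf (layer G)).Normal) with h | h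
  swap
  · exact Subgroup.subgroupOf_eq_top.1 h
  exfalso
  rw [Subgroup.subgroupOf_eq_bot] at h
  refine ne_one_of_mem X.cls.1 hd (Subgroup.mem_bot.1 (hcz ▸ Subgroup.mem_centralizer_iff.2 fun l hl => ?_))
  have hL : d * l * d⁻¹ * l⁻¹ ∈ layer G :=
    mul_mem (Subgroup.Normal.conj_mem inferInstance l hl d) (inv_mem hl)
  have hPm : d * l * d⁻¹ * l⁻¹ ∈ P := by
    rw [show d * l * d⁻¹ * l⁻¹ = d * (l * d * l⁻¹)⁻¹ by group]
    exact mul_mem (Subgroup.subset_closure ⟨1, one_mem _, by simp⟩)
      (inv_mem (Subgroup.subset_closure ⟨l, hl, rfl⟩))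
  have := Subgroup.disjoint_def.1 h hPm hL
  exact ((mul_inv_eq_iff_eq_mul.1 (mul_inv_eq_one.1 this)).symm : l * d = d * l)

/-- The members in a piece are the orbit of its member under the layer. -/
theorem Setting.mem_piece_iff {d : G} (hd : d ∈ D) {x : G} (hx : x ∈ D) (hxH : x ∈ piece d) :
    ∃ l ∈ layer G, l * d * l⁻¹ = x := by
  obtain ⟨-, -, -, hcz, hn⟩ := X.layer_facts
  haveI := hn
  have hS := X.cls.1
  have hxd : x * d ∈ layer G := (X.mem_piece hd hxH).resolve_left (X.not_mem_layer hx)
  by_contra! hne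
  have hall : ∀ y ∈ {x : G | ∃ l ∈ layer G, x = l * d * l⁻¹}, Commute x y := by
    rintro y ⟨l, hl, rfl⟩
    have hy : l * d * l⁻¹ ∈ D := class_conjClosed X.cls l d hd
    set y := l * d * l⁻¹ with hyd
    by_contra hnc
    have hxy : y * x ∈ layer G := by
      have h1 : y * x = l * (d * l⁻¹ * d⁻¹) * (x * d)⁻¹ * (x * x) := by
        rw [hyd, mul_inv_rev, inv_eq_self hS hd, inv_eq_self hS hx]
        simp only [mul_assoc, mul_self_cancel hS hd, mul_self_cancel hS hx]
      rw [h1, mul_self_eq_one hS hx, mul_one]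
      exact mul_mem (mul_mem hl (Subgroup.Normal.conj_mem inferInstance _ (inv_mem hl) d)) (inv_mem hxd)
    refine hne (y * x * l) (mul_mem hxy hl) ?_
    calc y * x * l * d * (y * x * l)⁻¹ = y * x * (l * d * l⁻¹) * x⁻¹ * y⁻¹ := by group
      _ = y * (x * y * x) * y := by
        rw [inv_eq_self hS hy, inv_eq_self hS hx, ← hyd]
        simp only [mul_assoc]
      _ = y * (y * x * y) * y := by rw [braid hS hx hy hnc]
      _ = x := conj_conj hS hy x
  refine ne_one_of_mem hS hx (Subgroup.mem_bot.1 (hcz ▸ ?_))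
  have hle : Subgroup.closure {x : G | ∃ l ∈ layer G, x = l * d * l⁻¹} ≤ Subgroup.centralizer ({x} : Set G) :=
    (Subgroup.closure_le _).2 fun y hy => Subgroup.mem_centralizer_singleton_iff.2 (hall y hy).symm.eq
  exact Subgroup.mem_centralizer_iff.2 fun l hl =>
    Subgroup.mem_centralizer_singleton_iff.1 (hle (X.closure_orbit hd hl))

theorem Setting.reach_piece {d : G} (hd : d ∈ D) {x : G} (hx : x ∈ D) (hxH : x ∈ piece d) :
    CommReach D d x := by
  obtain ⟨l, hl, rfl⟩ := X.mem_piece_iff hd hx hxH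
  exact X.layer_fix hl hd

theorem Setting.piece_of_reach {d : G} {x : G} (h : CommReach D d x) : x ∈ piece d := by
  have := X.congr_of_reach h
  rw [show x = d * (d⁻¹ * x) by group]
  exact mul_mem (Subgroup.mem_sup_right (Subgroup.mem_zpowers d)) (Subgroup.mem_sup_left this)

omit X in
/-- The members in a piece. -/
abbrev pieceSet (D : Set G) (d : G) : Set ↥(piece d) := {x | (x : G) ∈ D}

theorem Setting.piece_class {d : G} (hd : d ∈ D) : IsThreeTranspositionClass (pieceSet D d) := by
  have hc := class_conjClosed X.cls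
  refine ⟨restrict_set X.cls.1 _, ⟨⟨d, Subgroup.mem_sup_right (Subgroup.mem_zpowers d)⟩, hd, ?_⟩,
    restrict_closure _ ?_⟩
  · ext x
    constructor
    · intro hx
      obtain ⟨l, hl, hlx⟩ := X.mem_piece_iff hd hx x.2
      exact isConj_iff.2 ⟨⟨l, Subgroup.mem_sup_left hl⟩, Subtype.ext hlx⟩
    · intro hx
      obtain ⟨g, rfl⟩ := isConj_iff.1 (show IsConj (⟨d, _⟩ : ↥(piece d)) x from hx)
      exact hc (g : G) d hd
  · refine le_antisymm ((Subgroup.closure_le _).2 fun x hx => hx.2) ?_
    refine sup_le ((X.closure_orbit hd).trans (Subgroup.closure_mono ?_)) ?_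
    · rintro x ⟨l, hl, rfl⟩
      exact ⟨hc l d hd, X.conj_mem_piece hd hl⟩
    · rw [Subgroup.zpowers_eq_closure]
      refine Subgroup.closure_mono fun y (hy : y = d) => ?_
      rw [hy]
      exact ⟨hd, Subgroup.mem_sup_right (Subgroup.mem_zpowers d)⟩

theorem Setting.piece_center {d : G} : Subgroup.center ↥(piece d) = ⊥ := by
  obtain ⟨-, -, -, hcz, -⟩ := X.layer_facts
  refine (Subgroup.eq_bot_iff_forall _).2 fun z hz => Subtype.ext ?_
  have hz' : (z : G) ∈ Subgroup.centralizer (layer G : Set G) :=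
    Subgroup.mem_centralizer_iff.2 fun y hy =>
      congrArg Subtype.val (Subgroup.mem_center_iff.1 hz ⟨y, Subgroup.mem_sup_left hy⟩)
  rwa [hcz, Subgroup.mem_bot] at hz'

theorem Setting.piece_commutator {d : G} (hd : d ∈ D) :
    (commutator ↥(piece d)).map (piece d).subtype = layer G := by
  obtain ⟨hL, -, -, -, hn⟩ := X.layer_facts
  haveI := hn
  apply le_antisymm
  · rw [Subgroup.map_subtype_commutator, Subgroup.commutator_le]
    intro a ha b hb
    set π := QuotientGroup.mk' (layer G)
    have himg : ∀ x ∈ piece d, π x ∈ Subgroup.zpowers (π d) := fun x hx => by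
      rcases X.mem_piece hd hx with h | h
      · rw [show π x = 1 from (QuotientGroup.eq_one_iff _).2 h]; exact one_mem _
      · have h1 : π (x * d) = 1 := (QuotientGroup.eq_one_iff _).2 h
        rw [map_mul] at h1
        rw [eq_inv_of_mul_eq_one_left h1]
        exact inv_mem (Subgroup.mem_zpowers _)
    refine (QuotientGroup.eq_one_iff _).1 ?_
    show π ⁅a, b⁆ = 1
    obtain ⟨i, hi⟩ := Subgroup.mem_zpowers_iff.1 (himg a ha)
    obtain ⟨j, hj⟩ := Subgroup.mem_zpowers_iff.1 (himg b hb)
    rw [map_commutatorElement, ← hi, ← hj, commutatorElement_eq_one_iff_mul_comm, ← zpow_add, ← zpow_add,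
      add_comm]
  · have hle : layer G ≤ piece d := le_sup_left
    have hp : ⁅layer G, layer G⁆ = layer G := Layer.isPerfect_of_isComponent hL
    rw [Subgroup.map_subtype_commutator]
    exact hp.symm.le.trans (Subgroup.commutator_mono hle hle)

theorem Setting.mem_piece_commutator {d : G} (hd : d ∈ D) {u : ↥(piece d)} :
    u ∈ commutator ↥(piece d) ↔ (u : G) ∈ layer G := by
  conv_rhs => rw [← X.piece_commutator hd]
  exact (Subgroup.mem_map_iff_mem (piece d).subtype_injective).symm

/-- The derived subgroup of a piece is the layer. -/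
theorem Setting.piece_commutator_equiv {d : G} (hd : d ∈ D) :
    Nonempty (commutator ↥(piece d) ≃* layer G) :=
  ⟨((commutator ↥(piece d)).equivMapOfInjective _ (piece d).subtype_injective).trans
    (MulEquiv.subgroupCongr (X.piece_commutator hd))⟩

theorem Setting.piece_simple {d : G} (hd : d ∈ D) : IsSimpleGroup (commutator ↥(piece d)) ∧
    ∃ x y : commutator ↥(piece d), x * y ≠ y * x := by
  obtain ⟨e⟩ := X.piece_commutator_equiv hd
  haveI := X.layer_facts.2.1
  obtain ⟨x, y, hxy⟩ := X.layer_nonab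
  exact ⟨e.isSimpleGroup, e.symm x, e.symm y, fun h => hxy (e.symm.injective (by
    rw [map_mul, map_mul]; exact h))⟩

/-- Conjugation of the layer, on the derived subgroup of a piece. -/
def Setting.conjTwist {d : G} (hd : d ∈ D) (g : G) :
    commutator ↥(piece d) ≃* commutator ↥(piece d) where
  toFun u := ⟨⟨g * ((u : ↥(piece d)) : G) * g⁻¹, Subgroup.mem_sup_left
      (X.layer_facts.2.2.2.2.conj_mem _ ((X.mem_piece_commutator hd).1 u.2) g)⟩,
    (X.mem_piece_commutator hd).2 (X.layer_facts.2.2.2.2.conj_mem _ ((X.mem_piece_commutator hd).1 u.2) g)⟩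
  invFun u := ⟨⟨g⁻¹ * ((u : ↥(piece d)) : G) * g⁻¹⁻¹, Subgroup.mem_sup_left
      (X.layer_facts.2.2.2.2.conj_mem _ ((X.mem_piece_commutator hd).1 u.2) g⁻¹)⟩,
    (X.mem_piece_commutator hd).2 (X.layer_facts.2.2.2.2.conj_mem _ ((X.mem_piece_commutator hd).1 u.2) g⁻¹)⟩
  left_inv u := by
    refine Subtype.ext (Subtype.ext ?_)
    show g⁻¹ * (g * ((u : ↥(piece d)) : G) * g⁻¹) * g⁻¹⁻¹ = _
    group
  right_inv u := by
    refine Subtype.ext (Subtype.ext ?_)
    show g * (g⁻¹ * ((u : ↥(piece d)) : G) * g⁻¹⁻¹) * g⁻¹ = _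
    group
  map_mul' u v := by
    refine Subtype.ext (Subtype.ext ?_)
    show g * (((u : ↥(piece d)) : G) * ((v : ↥(piece d)) : G)) * g⁻¹ =
      g * ((u : ↥(piece d)) : G) * g⁻¹ * (g * ((v : ↥(piece d)) : G) * g⁻¹)
    group

theorem Setting.conjTwist_coe {d : G} (hd : d ∈ D) (g : G) (u : commutator ↥(piece d)) :
    (((X.conjTwist hd g u : commutator ↥(piece d)) : ↥(piece d)) : G) =
      g * ((u : ↥(piece d)) : G) * g⁻¹ := rfl

/-- Members of one component against those of another. -/
theorem Setting.not_commute_conj {d : G} (hd : d ∈ D) {g : G} (hg : ¬ CommReach D d (g * d * g⁻¹))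
    {x y : G} (hx : CommReach D d x) (hy : CommReach D d y) (hxD : x ∈ D) (hyD : y ∈ D) :
    ¬ Commute x (g * y * g⁻¹) := fun h => by
  have hc := class_conjClosed X.cls
  have hR := commReach_isInvariantEquiv (D := D) hc
  exact hg (hR.trans hx (hR.trans (commReach_of_commute hxD (hc g y hyD) h) (hR.symm (hR.map g hy))))

theorem Setting.isTwist {d : G} (hd : d ∈ D) {g : G} (hg : ¬ CommReach D d (g * d * g⁻¹)) :
    IsTwist (pieceSet D d) (X.conjTwist hd g) := by
  have hS := X.cls.1
  have hc := class_conjClosed X.cls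
  refine ⟨?_, ?_⟩ <;> intro u c hcc c' hcc' hne
  · intro hu x hxC hcom
    have hu' : ((u : ↥(piece d)) : G) = (c : G) * (c' : G) := congrArg Subtype.val hu
    have h1 := hcom.map (piece d).subtype
    simp only [Subgroup.subtype_apply, X.conjTwist_coe hd, hu'] at h1
    rw [show g * ((c : G) * c') * g⁻¹ = (g * c * g⁻¹) * (g * c' * g⁻¹) by group] at h1
    exact X.not_commute_conj hd hg (X.reach_piece hd hxC x.2) (X.reach_piece hd hcc c.2) hxC hcc
      ((commute_mul_iff hS (hc g _ hcc) (hc g _ hcc') hxC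
        (fun e => hne (Subtype.ext (mul_left_cancel (mul_right_cancel e))))).1 h1.symm).1
  · intro hcom hu x hxC
    have hu' : ((u : ↥(piece d)) : G) = (c : G) * (c' : G) := congrArg Subtype.val hu
    suffices h : Commute (x : G) ((g * ((c : G) * c') * g⁻¹) * x * (g * ((c : G) * c') * g⁻¹)⁻¹) by
      have h2 : ((x * (((X.conjTwist hd g u : commutator ↥(piece d)) : ↥(piece d)) * x *
          ((X.conjTwist hd g u : commutator ↥(piece d)) : ↥(piece d))⁻¹) : ↥(piece d)) : G) =
        (((((X.conjTwist hd g u : commutator ↥(piece d)) : ↥(piece d)) * x *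
          ((X.conjTwist hd g u : commutator ↥(piece d)) : ↥(piece d))⁻¹) * x : ↥(piece d)) : G) := by
        simp only [Subgroup.coe_mul, InvMemClass.coe_inv, X.conjTwist_coe hd, hu']
        exact h.eq
      exact Subtype.ext h2
    have hxe : ¬ Commute (x : G) (g * c * g⁻¹) :=
      X.not_commute_conj hd hg (X.reach_piece hd hxC x.2) (X.reach_piece hd hcc c.2) hxC hcc
    have hxe' : ¬ Commute (x : G) (g * c' * g⁻¹) :=
      X.not_commute_conj hd hg (X.reach_piece hd hxC x.2) (X.reach_piece hd hcc' c'.2) hxC hcc'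
    have heD := hc g _ hcc
    have heD' := hc g _ hcc'
    have hee : Commute (g * (c : G) * g⁻¹) (g * (c' : G) * g⁻¹) :=
      (Commute.conj_iff g).2 (hcom.map (piece d).subtype)
    rw [show g * ((c : G) * c') * g⁻¹ = (g * c * g⁻¹) * (g * c' * g⁻¹) by group]
    generalize g * (c : G) * g⁻¹ = e at hxe heD hee ⊢
    generalize g * (c' : G) * g⁻¹ = e' at hxe' heD' hee ⊢
    have h0 : e * e' * x * (e * e')⁻¹ = (x : G) * e * x * e' * (x * e * x) := by
      rw [mul_inv_rev, inv_eq_self hS heD, inv_eq_self hS heD']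
      calc e * e' * x * (e' * e) = e * (e' * x * e') * e := by group
        _ = e * ((x : G) * e' * x) * e := by rw [braid hS hxC heD' hxe']
        _ = (e * x * e) * (e * e' * e) * (e * x * e) := by
          simp only [mul_assoc, mul_self_cancel hS heD]
        _ = _ := by rw [braid hS hxC heD hxe, conj_eq_of_commute hS heD hee]
    rw [h0, ← commute_conj_iff hS heD]
    rw [← braid hS hxC heD hxe]
    have h1 : e * ((x : G) * e * x * e' * (x * e * x)) * e = (x : G) * e' * x := by
      rw [braid hS hxC heD hxe]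
      calc e * (e * x * e * e' * (e * x * e)) * e = e * e * x * (e * e' * e) * x * (e * e) := by group
        _ = _ := by rw [mul_self_eq_one hS heD, conj_eq_of_commute hS heD hee, one_mul, mul_one]
    rw [h1]
    exact (commute_conj_iff hS hxC e e').2 hee

/-- There are exactly three components and the layer is one of the two groups. -/
theorem Setting.structure_thm (hcase : CaseHyp.{u}) :
    Nonempty (G ⧸ layer G ≃* Equiv.Perm (Fin 3)) ∧ Target (layer G) := by
  classical
  obtain ⟨-, -, -, -, hn⟩ := X.layer_facts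
  haveI := hn
  have hS := X.cls.1
  have hc := class_conjClosed X.cls
  have hR := commReach_isInvariantEquiv (D := D) hc
  obtain ⟨d, hd, -⟩ := X.cls.2.1
  obtain ⟨e, he, hde⟩ : ∃ e ∈ D, ¬ CommReach D d e := by
    by_contra! h
    haveI : Nonempty D := ⟨⟨d, hd⟩⟩
    have key : ∀ x : D, (commutingGraph D).Reachable ⟨d, hd⟩ x := fun x => by
      rcases h x x.2 with h' | ⟨_, _, h'⟩
      · rw [show x = ⟨d, hd⟩ from Subtype.ext h'.symm]
      · exact h'
    exact X.disc ⟨fun x y => (key x).symm.trans (key y)⟩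
  obtain ⟨g₀, hg₀⟩ := class_exists_conj X.cls hd he
  obtain ⟨hsimp, hna⟩ := X.piece_simple hd
  obtain ⟨hT, hthree⟩ := hcase (X.piece_class hd) X.piece_center hsimp hna _
    (X.isTwist hd (g := g₀) (hg₀ ▸ hde))
  obtain ⟨η⟩ := X.piece_commutator_equiv hd
  refine ⟨?_, hT.congr η.symm⟩
  have hnc : ¬ Commute d e := fun h => hde (commReach_of_commute hd he h)
  have hf : d * e * d ∈ D := conj_mem hS hc hd he
  have hdf : ¬ CommReach D d (d * e * d) := fun h => by
    have h' := hR.map d h
    rw [conj_eq hS hd, conj_eq hS hd, conj_conj hS hd, mul_self_eq_one hS hd, one_mul] at h'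
    exact hde h'
  have hef : ¬ CommReach D e (d * e * d) := fun h => by
    rw [braid hS hd he hnc] at h
    have h' := hR.map e h
    rw [conj_eq hS he, conj_eq hS he, conj_conj hS he, mul_self_eq_one hS he, one_mul] at h'
    exact hde (hR.symm h')
  have hfour : ∀ x ∈ D, CommReach D d x ∨ CommReach D e x ∨ CommReach D (d * e * d) x := by
    intro x hx
    by_contra! hne
    obtain ⟨hxd, hxe, hxf⟩ := hne
    obtain ⟨u, c, c', z, hcC, hc'C, hzC, hcc, hu, hzu, hφ⟩ := hthree
    obtain ⟨g₁, hg₁⟩ := class_exists_conj X.cls hd hf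
    obtain ⟨g₂, hg₂⟩ := class_exists_conj X.cls hd hx
    let g : Fin 3 → G := ![g₀, g₁, g₂]
    have hgd : ∀ i, ¬ CommReach D d (g i * d * (g i)⁻¹) := by
      intro i
      fin_cases i <;> simpa [g, hg₀, hg₁, hg₂]
    have hgne : ∀ i j, i ≠ j → ¬ CommReach D (g i * d * (g i)⁻¹) (g j * d * (g j)⁻¹) := by
      intro i j hij h
      fin_cases i <;> fin_cases j <;> simp [g, hg₀, hg₁, hg₂] at hij h ⊢
      exacts [hef h, hxe h, hef (hR.symm h), hxf h, hxe (hR.symm h), hxf (hR.symm h)]
    obtain ⟨i, j, hij, k, hk⟩ := hφ (fun i => X.conjTwist hd (g i)) fun i => X.isTwist hd (hgd i)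
    have hk' := congrArg (fun t : commutator ↥(piece d) => ((t : ↥(piece d)) : G)) hk
    simp only [Subgroup.coe_mul, InvMemClass.coe_inv, X.conjTwist_coe hd] at hk'
    have hu' : ((u : ↥(piece d)) : G) = (c : G) * (c' : G) := congrArg Subtype.val hu
    set k' : G := ((k : ↥(piece d)) : G) with hk'd
    have hk'L : k' ∈ layer G := (X.mem_piece_commutator hd).1 k.2
    have hcom : Commute (g j * (z : G) * (g j)⁻¹) (g j * ((u : ↥(piece d)) : G) * (g j)⁻¹) :=
      (Commute.conj_iff (g j)).2 (hzu.map (piece d).subtype)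
    rw [hk', hu', show k' * (g i * ((c : G) * c') * (g i)⁻¹) * k'⁻¹ =
      (k' * (g i * c * (g i)⁻¹) * k'⁻¹) * (k' * (g i * c' * (g i)⁻¹) * k'⁻¹) by group] at hcom
    have hp : k' * (g i * c * (g i)⁻¹) * k'⁻¹ ∈ D := hc _ _ (hc _ _ hcC)
    have hq : k' * (g i * c' * (g i)⁻¹) * k'⁻¹ ∈ D := hc _ _ (hc _ _ hc'C)
    have h1 := ((commute_mul_iff hS hp hq (hc _ _ hzC) (fun e' => hcc (Subtype.ext
      (mul_left_cancel (mul_right_cancel (mul_left_cancel (mul_right_cancel e'))))))).1 hcom).1
    have r1 : CommReach D (g j * d * (g j)⁻¹) (g j * (z : G) * (g j)⁻¹) :=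
      hR.map _ (X.reach_piece hd hzC z.2)
    have r2 : CommReach D (g i * d * (g i)⁻¹) (g i * (c : G) * (g i)⁻¹) :=
      hR.map _ (X.reach_piece hd hcC c.2)
    exact hgne i j hij (hR.trans (hR.trans r2 (X.layer_fix hk'L (hc _ _ hcC)))
      (hR.symm (hR.trans r1 (commReach_of_commute (hc _ _ hzC) hp h1))))
  -- the quotient
  set π := QuotientGroup.mk' (layer G)
  have hπsur : Function.Surjective π := QuotientGroup.mk'_surjective _
  have hreach : ∀ {a b : G}, CommReach D a b → π a = π b := fun h =>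
    QuotientGroup.eq.2 (X.congr_of_reach h)
  have hab : π d ≠ π e := fun h => hde (X.reach_piece hd he (by
    have h1 : d⁻¹ * e ∈ layer G := QuotientGroup.eq.1 h
    rw [show e = d * (d⁻¹ * e) by group]
    exact mul_mem (Subgroup.mem_sup_right (Subgroup.mem_zpowers d)) (Subgroup.mem_sup_left h1)))
  have hne : ∀ x ∈ D, π x ≠ 1 := fun x hx h => X.not_mem_layer hx ((QuotientGroup.eq_one_iff _).1 h)
  have hcl : IsThreeTranspositionClass (π '' D) := class_image π hπsur X.cls hne
  have himg : π '' D = {π d, π e, π d * π e * π d} := by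
    refine Set.Subset.antisymm ?_ ?_
    · rintro _ ⟨x, hx, rfl⟩
      rcases hfour x hx with h | h | h
      · exact Or.inl (hreach h).symm
      · exact Or.inr (Or.inl (hreach h).symm)
      · refine Or.inr (Or.inr ?_)
        rw [← map_mul, ← map_mul]
        exact (hreach h).symm
    · rintro _ (rfl | rfl | rfl)
      exacts [⟨d, hd, rfl⟩, ⟨e, he, rfl⟩, ⟨_, hf, by simp⟩]
  have hnc' : ¬ Commute (π d) (π e) := fun h =>
    hnc ((eq_or_commute_of_map_commute π hS hd he h).resolve_left hab)
  have hcenter : Subgroup.center (G ⧸ layer G) = ⊥ := by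
    refine (Subgroup.eq_bot_iff_forall _).2 fun z hz => ?_
    have hS' := hcl.1
    have hA : π d ∈ π '' D := ⟨d, hd, rfl⟩
    have hB : π e ∈ π '' D := ⟨e, he, rfl⟩
    have hbr := braid hS' hA hB hnc'
    have hA2 := mul_self_eq_one hS' hA
    have hB2 := mul_self_eq_one hS' hB
    have hz1 := Subgroup.mem_center_iff.1 hz (π d)
    have hz2 := Subgroup.mem_center_iff.1 hz (π e)
    set a := π d
    set b := π e
    let S : Set (G ⧸ layer G) := {1, a, b, a * b, b * a, a * b * a}
    have haS : ∀ s ∈ S, a * s ∈ S ∧ b * s ∈ S := by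
      rintro s (rfl | rfl | rfl | rfl | rfl | rfl) <;>
        refine ⟨?_, ?_⟩ <;> simp only [S, Set.mem_insert_iff, Set.mem_singleton_iff, mul_one]
      · exact Or.inr (Or.inl trivial)
      · exact Or.inr (Or.inr (Or.inl trivial))
      · exact Or.inl hA2
      · exact Or.inr (Or.inr (Or.inr (Or.inr (Or.inl trivial))))
      · exact Or.inr (Or.inr (Or.inr (Or.inl trivial)))
      · exact Or.inl hB2
      · exact Or.inr (Or.inr (Or.inl (by rw [← mul_assoc, hA2, one_mul])))
      · exact Or.inr (Or.inr (Or.inr (Or.inr (Or.inr (by rw [← mul_assoc]; exact hbr.symm)))))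
      · exact Or.inr (Or.inr (Or.inr (Or.inr (Or.inr (mul_assoc a b a).symm))))
      · exact Or.inr (Or.inl (by rw [← mul_assoc, hB2, one_mul]))
      · exact Or.inr (Or.inr (Or.inr (Or.inr (Or.inl
          (by simp only [mul_assoc]; rw [← mul_assoc a a, hA2, one_mul])))))
      · exact Or.inr (Or.inr (Or.inr (Or.inl (by
          rw [hbr]; simp only [mul_assoc]; rw [← mul_assoc b b, hB2, one_mul]))))
    have hzS : z ∈ S := by
      have hmem : z ∈ Subgroup.closure (π '' D) := hcl.2.2 ▸ Subgroup.mem_top z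
      have hle : Subgroup.closure (π '' D) ≤ Subgroup.closure {a, b} := by
        rw [himg, Subgroup.closure_le]
        rintro _ (rfl | rfl | rfl)
        · exact Subgroup.subset_closure (Or.inl rfl)
        · exact Subgroup.subset_closure (Or.inr rfl)
        · exact mul_mem (mul_mem (Subgroup.subset_closure (Or.inl rfl))
            (Subgroup.subset_closure (Or.inr rfl))) (Subgroup.subset_closure (Or.inl rfl))
      suffices h : ∀ w ∈ Subgroup.closure {a, b}, ∀ s ∈ S, w * s ∈ S by
        simpa using h z (hle hmem) 1 (Or.inl rfl)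
      intro w hw
      induction hw using Subgroup.closure_induction'' with
      | one => simp
      | mem w hw =>
        rcases hw with rfl | rfl
        exacts [fun s hs => (haS s hs).1, fun s hs => (haS s hs).2]
      | inv_mem w hw =>
        rcases hw with rfl | rfl
        · rw [inv_eq_of_mul_eq_one_right hA2]; exact fun s hs => (haS s hs).1
        · rw [inv_eq_of_mul_eq_one_right hB2]; exact fun s hs => (haS s hs).2
      | mul v w _ _ ihv ihw => intro s hs; rw [mul_assoc]; exact ihv _ (ihw s hs)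
    rcases hzS with h | h | h | h | h | h
    · exact h
    · exact absurd (h ▸ hz2 : b * a = a * b).symm hnc'
    · exact absurd (h ▸ hz1 : a * b = b * a) hnc'
    · rw [h, ← mul_assoc, hA2, one_mul, hbr] at hz1
      exfalso; apply hab
      have h' : b * b = b * (b * a * b) := by rw [← hz1]
      rw [hB2, ← mul_assoc, ← mul_assoc, hB2, one_mul] at h'
      have h'' := (eq_inv_of_mul_eq_one_left h'.symm)
      rw [inv_eq_of_mul_eq_one_right hB2] at h''
      exact h''
    · rw [h, mul_assoc b a a, hA2, mul_one, ← mul_assoc, hbr] at hz1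
      exfalso; apply hab
      have h' : b * b = b * (b * a * b) := by rw [hz1]
      rw [hB2, ← mul_assoc, ← mul_assoc, hB2, one_mul] at h'
      have h'' := (eq_inv_of_mul_eq_one_left h'.symm)
      rw [inv_eq_of_mul_eq_one_right hB2] at h''
      exact h''
    · exfalso; apply hnc'
      rw [h, mul_assoc (a * b) a a, hA2, mul_one] at hz1
      simp only [← mul_assoc, hA2, one_mul] at hz1
      exact hz1.symm
  haveI : Fintype ↥(π '' D) := Fintype.ofFinite _
  have hcard : Fintype.card ↥(π '' D) = 3 := by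
    rw [← Nat.card_eq_fintype_card]
    show (π '' D).ncard = 3
    rw [himg]
    refine Set.ncard_eq_three.2 ⟨_, _, _, hab, fun h => hdf (X.reach_piece hd hf ?_), fun h => hnc' ?_, rfl⟩
    · rw [← map_mul, ← map_mul] at h
      have h1 : d⁻¹ * (d * e * d) ∈ layer G := QuotientGroup.eq.1 h
      rw [show d * e * d = d * (d⁻¹ * (d * e * d)) by group] 
      exact mul_mem (Subgroup.mem_sup_right (Subgroup.mem_zpowers d)) (Subgroup.mem_sup_left h1)
    · exact commute_of_conj_eq hcl.1 ⟨d, hd, rfl⟩ h.symm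
  set α := FischerO2.setAct (π '' D) (class_conjClosed hcl)
  have hinj : Function.Injective α := FischerO2.setAct_injective _ _ hcl.2.2 hcenter
  let e₀ : Equiv.Perm ↥(π '' D) ≃* Equiv.Perm (Fin 3) := (Fintype.equivFinOfCardEq hcard).permCongrHom
  set ψ : G ⧸ layer G →* Equiv.Perm (Fin 3) := e₀.toMonoidHom.comp α
  have hψ : Function.Injective ψ := e₀.injective.comp hinj
  refine ⟨MulEquiv.ofBijective ψ ((Nat.bijective_iff_injective_and_card _).2 ⟨hψ, ?_⟩)⟩
  have h6 : Nat.card (Equiv.Perm (Fin 3)) = 6 := by rw [Nat.card_perm, Nat.card_fin]; rfl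
  have hdvd : Nat.card (G ⧸ layer G) ∣ 6 := h6 ▸ Subgroup.card_dvd_of_injective ψ hψ
  have hA : π d ∈ π '' D := ⟨d, hd, rfl⟩
  have h2' : 2 ∣ Nat.card (G ⧸ layer G) := hcl.1.1 _ hA ▸ orderOf_dvd_natCard _
  have h3' : 3 ∣ Nat.card (G ⧸ layer G) :=
    orderOf_mul_of_not_commute hcl.1 hA ⟨e, he, rfl⟩ hnc' ▸ orderOf_dvd_natCard _
  rw [h6]
  exact Nat.dvd_antisymm hdvd (Nat.Coprime.mul_dvd_of_dvd_of_dvd (by norm_num) h2' h3' : 2 * 3 ∣ _)

end CfsgLib.Discon
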