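import Cfsg.Agent.Lib.Discon.Components
import Cfsg.Agent.Lib.Discon.CaseOThreeGoal
import Cfsg.Agent.Lib.FischerClass.SimpleDerived
import Cfsg.Agent.Lib.FischerClass.MathieuAll

/-!
Only two derived groups have a twist.
-/

set_option autoImplicit false
set_option linter.style.haveILetI false
set_option linter.unusedSectionVars false

namespace CfsgLib.Discon

open Cfsg
open CfsgLib.FischerClass CfsgLib.ThreeTransp CfsgLib.ThreeTransp.Relations

universe u

/-- A class with the shape of a standard one has the stated property. -/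
theorem shaped_goal {H : Type u} [Group H] [Finite H] {C : Set H} (X : Ctx C) (hns : ¬ Group.IsSolvable H)
    (h : Shaped C) {φ : commutator H ≃* commutator H} (hφ : IsTwist C φ) : Goal C := by
  rcases h with ⟨n, hn, f, P⟩ | ⟨m, hm, f, P⟩ | ⟨n, hn, f, P⟩ | ⟨ι, _, _, Q, hB, hι, f, P⟩ |
    ⟨n, hn, Q, hB, f, P⟩ | h22 | h23 | h24
  · obtain ⟨e, he⟩ := (sym_model n (by omega)).iso X.hD X.hZ P
    refine goal_of_iso e he (fun ψ hψ => ?_) hφ
    have hns' : ¬ Group.IsSolvable (Equiv.Perm (Fin n)) := fun hs => hns (haveI := hs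
      Group.isSolvable_of_surjective (f := e.symm.toMonoidHom) e.symm.surjective)
    obtain ⟨g, ⟨hg, hg1⟩, hf⟩ := hψ.exists_invol (sym_model n (by omega)).1.cls hns'
    obtain ⟨x, hx, hc⟩ := sym_no_invol hg hg1
    exact (hf x hx hc).elim
  · obtain ⟨e, he⟩ := (symp_model (by omega : 1 ≤ m)).iso X.hD X.hZ P
    refine goal_of_iso e he (fun ψ hψ => ?_) hφ
    have hns' : ¬ Group.IsSolvable (Matrix.symplecticGroup (Fin m) (ZMod 2)) := fun hs => hns (haveI := hs
      Group.isSolvable_of_surjective (f := e.symm.toMonoidHom) e.symm.surjective)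
    obtain ⟨g, ⟨hg, -⟩, hf⟩ := hψ.exists_invol (symp_model (by omega : 1 ≤ m)).1.cls hns'
    obtain ⟨x, hx, hc⟩ := symp_no_invol (by omega) hg
    exact (hf x hx hc).elim
  · obtain ⟨e, he⟩ := (psu_model hn).iso X.hD X.hZ P
    refine goal_of_iso e he (fun ψ hψ => ?_) hφ
    have hns' : ¬ Group.IsSolvable (Cfsg.PSU n CfsgLib.HePres.K4 2) := fun hs => hns (haveI := hs
      Group.isSolvable_of_surjective (f := e.symm.toMonoidHom) e.symm.surjective)
    obtain ⟨g, ⟨hg, hg1⟩, hf⟩ := hψ.exists_invol (psu_model hn).1.cls hns'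
    obtain ⟨x, hx, hc⟩ := psu_no_invol hn hg hg1
    exact (hf x hx hc).elim
  · obtain ⟨e, he⟩ := (otwo_model hB (show 6 ≤ Fintype.card ι by omega)).iso X.hD X.hZ P
    exact goal_of_iso e he (fun ψ hψ => otwo_goal hB hι hψ) hφ
  · obtain ⟨e, he⟩ := (po_model hB (by rw [Fintype.card_fin]; exact hn)).iso X.hD X.hZ P
    exact goal_of_iso e he (fun ψ hψ => othree_goal hB (by rw [Fintype.card_fin]; exact hn) hψ) hφ
  · exact (hφ.not_m22 X.cls X.hprim h22).elim
  · exact (hφ.not_m23 X.cls hns X.hprim h23).elim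
  · exact (IsTwist.not_m24 X hφ h24).elim

theorem caseHyp : CaseHyp.{u} := by
  intro H _ _ C hC hZ hs hna φ hφ
  haveI := hs
  have hns := not_solvable_of_simple_derived hna
  have hG := class_isGroup hC
  have X : Ctx C := Ctx.of hG (primitive_of_simple_derived hna hC) hZ
    (exists_commuting_pair hC.1 hG.2.1 hC.2.2 hns)
  refine shaped_goal X hns ?_ hφ
  rcases simple_derived_cases mathieuCases hC hZ hna with ⟨e, he⟩ | ⟨m, hm, e, he⟩ | ⟨n, hn, e, he⟩ | h
  · exact Or.inl ⟨5, le_rfl, (sym_model 5 (by norm_num)).pm e he⟩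
  · exact Or.inr (Or.inl ⟨m, hm, (symp_model (by omega : 1 ≤ m)).pm e he⟩)
  · exact Or.inr (Or.inr (Or.inl ⟨n, hn, (psu_model hn).pm e he⟩))
  · exact h.shaped

end CfsgLib.Discon
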