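import Mathlib
import Cfsg.Prelude.Def_Classical
import Cfsg.Agent.Lib.ThreeTransp.Basic

/-!
Automorphisms of a derived subgroup that come from conjugation into another component of a
disconnected commuting graph, and what has to be shown about them in each model.
-/

set_option autoImplicit false

namespace CfsgLib.Discon

open Cfsg

variable {H K : Type*} [Group H] [Group K]

/-- A bijection of the derived subgroup which moves products of two members away from all members. -/
structure IsTwist (C : Set H) (φ : commutator H ≃* commutator H) : Prop where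
  fpf : ∀ u : commutator H, ∀ c ∈ C, ∀ c' ∈ C, c ≠ c' → (u : H) = c * c' →
    ∀ x ∈ C, ¬ Commute ((φ u : commutator H) : H) x
  adj : ∀ u : commutator H, ∀ c ∈ C, ∀ c' ∈ C, c ≠ c' → Commute c c' → (u : H) = c * c' →
    ∀ x ∈ C, Commute x (((φ u : commutator H) : H) * x * ((φ u : commutator H) : H)⁻¹)

/-- Among three twists two send a fixed product of two members to conjugate elements. -/
def Three (C : Set H) : Prop :=
  ∃ (u : commutator H) (c c' x : H), c ∈ C ∧ c' ∈ C ∧ x ∈ C ∧ c ≠ c' ∧ (u : H) = c * c' ∧
    Commute x (u : H) ∧ ∀ φ : Fin 3 → (commutator H ≃* commutator H), (∀ i, IsTwist C (φ i)) →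
      ∃ i j, i ≠ j ∧ ∃ k : commutator H, φ j u = k * φ i u * k⁻¹

/-- The two groups with a twist. -/
def Target (L : Type*) [Group L] : Prop :=
  Nonempty (L ≃* Cfsg.Omega (ZMod 2) (Cfsg.quadFormPlus 4 (ZMod 2))) ∨
    Nonempty (L ≃* Cfsg.POmega (ZMod 3) (Cfsg.quadFormPlus 4 (ZMod 3)))

/-- What a twist has to imply. -/
def Goal (C : Set H) : Prop := Target (commutator H) ∧ Three C

theorem Target.congr {L L' : Type*} [Group L] [Group L'] (e : L ≃* L') (h : Target L') : Target L := by
  rcases h with ⟨⟨f⟩⟩ | ⟨⟨f⟩⟩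
  · exact Or.inl ⟨e.trans f⟩
  · exact Or.inr ⟨e.trans f⟩

/-- The isomorphism of derived subgroups. -/
def comEquiv (e : H ≃* K) : commutator H ≃* commutator K :=
  (e.subgroupMap (commutator H)).trans (MulEquiv.subgroupCongr (by
    rw [commutator_def, commutator_def, Subgroup.map_commutator,
      Subgroup.map_top_of_surjective _ e.surjective]))

@[simp] theorem comEquiv_coe (e : H ≃* K) (u : commutator H) :
    ((comEquiv e u : commutator K) : K) = e (u : H) := rfl

@[simp] theorem comEquiv_symm_coe (e : H ≃* K) (u : commutator K) :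
    (((comEquiv e).symm u : commutator H) : H) = e.symm (u : K) := rfl

/-- The transported bijection. -/
def moveTwist (e : H ≃* K) (φ : commutator H ≃* commutator H) : commutator K ≃* commutator K :=
  ((comEquiv e).symm.trans φ).trans (comEquiv e)

theorem moveTwist_coe (e : H ≃* K) (φ : commutator H ≃* commutator H) (u : commutator K) :
    ((moveTwist e φ u : commutator K) : K) = e ((φ ((comEquiv e).symm u) : commutator H) : H) := rfl

theorem IsTwist.move {C : Set H} {E : Set K} (e : H ≃* K) (he : e '' C = E)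
    {φ : commutator H ≃* commutator H} (h : IsTwist C φ) : IsTwist E (moveTwist e φ) := by
  subst he
  refine ⟨?_, ?_⟩
  · rintro u _ ⟨c, hc, rfl⟩ _ ⟨c', hc', rfl⟩ hne hu _ ⟨x, hx, rfl⟩ hcom
    refine h.fpf ((comEquiv e).symm u) c hc c' hc' (fun e' => hne (by rw [e']))
      (e.injective (by simp [hu])) x hx ?_
    rw [moveTwist_coe] at hcom
    simpa using hcom.map e.symm.toMonoidHom
  · rintro u _ ⟨c, hc, rfl⟩ _ ⟨c', hc', rfl⟩ hne hcc hu _ ⟨x, hx, rfl⟩
    have hcom := h.adj ((comEquiv e).symm u) c hc c' hc' (fun e' => hne (by rw [e']))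
      (by simpa using hcc.map e.symm.toMonoidHom) (e.injective (by simp [hu])) x hx
    rw [moveTwist_coe]
    simpa using hcom.map e.toMonoidHom

/-- The goal is invariant under isomorphisms. -/
theorem goal_of_iso {C : Set H} {E : Set K} (e : H ≃* K) (he : e '' C = E)
    (hcase : ∀ ψ, IsTwist E ψ → Goal E) {φ : commutator H ≃* commutator H} (h : IsTwist C φ) :
    Goal C := by
  obtain ⟨hT, u, c, c', x, hc, hc', hx, hne, hu, hxu, hthree⟩ := hcase _ (h.move e he)
  have hmem : ∀ {y : K}, y ∈ E → e.symm y ∈ C := by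
    intro y hy
    rw [← he] at hy
    obtain ⟨z, hz, rfl⟩ := hy
    simpa using hz
  refine ⟨hT.congr (comEquiv e), (comEquiv e).symm u, e.symm c, e.symm c', e.symm x, hmem hc, hmem hc',
    hmem hx, fun h' => hne (e.symm.injective h'), by simp [hu], by
      rw [comEquiv_symm_coe]; exact hxu.map e.symm.toMonoidHom, fun ψ hψ => ?_⟩
  obtain ⟨i, j, hij, k, hk⟩ := hthree (fun i => moveTwist e (ψ i)) fun i => (hψ i).move e he
  refine ⟨i, j, hij, (comEquiv e).symm k, ?_⟩
  have h1 := congrArg (comEquiv e).symm hk
  simpa [moveTwist] using h1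

/-- The image of a product of two members is not trivial. -/
theorem IsTwist.ne_one {C : Set H} {φ : commutator H ≃* commutator H} (h : IsTwist C φ)
    (u : commutator H) {c c' : H} (hc : c ∈ C) (hc' : c' ∈ C) (hne : c ≠ c') (hu : (u : H) = c * c') :
    ((φ u : commutator H) : H) ≠ 1 := fun e => h.fpf u c hc c' hc' hne hu c hc (by rw [e]; exact Commute.one_left c)

end CfsgLib.Discon
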